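import Groth.Agent.LCIPres.Pres
import Groth.Agent.PCHom.BaseChange
import Groth.Agent.SyntLCI.SmoothOver
import Mathlib.RingTheory.Etale.StandardEtale
import Mathlib.RingTheory.Unramified.LocalStructure
import Mathlib.RingTheory.TensorProduct.MvPolynomial
import Mathlib.LinearAlgebra.TensorProduct.RightExactness

/-!
# Smooth algebras, closed immersions, flat base change and cancellation for LCI homomorphisms
-/

set_option autoImplicit false
set_option linter.style.haveILetI false
set_option maxHeartbeats 400000

noncomputable section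

universe u

namespace Groth.Agent.LCIPres

open MvPolynomial TensorProduct

variable {A B C : Type u} [CommRing A] [CommRing B] [CommRing C] [Algebra A B] [Algebra A C]

theorem isLCI_of_smooth [Algebra.Smooth A B] : LCI.IsLCI A B := by
  haveI : Module.Flat A B := Algebra.Smooth.flat A B
  exact ((SyntLCI.isSyntomic_iff A B).1 (SyntLCI.isSyntomic_of_smooth_over A A B)).2

/-- A Koszul-regular closed immersion is LCI. -/
theorem isLCI_of_surjective (hs : Function.Surjective (algebraMap A C))
    (hI : LCI.IsKoszulRegularIdeal (RingHom.ker (algebraMap A C))) : LCI.IsLCI A C := by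
  let v : Fin 0 → C := finZeroElim
  let e := MvPolynomial.isEmptyAlgEquiv A (Fin 0)
  have h : (aeval (R := A) v).toRingHom = (algebraMap A C).comp e.toRingEquiv.toRingHom := by
    refine MvPolynomial.ringHom_ext (fun a => ?_) fun i => i.elim0
    change aeval (R := A) v (algebraMap A _ a) = algebraMap A C (e (algebraMap A _ a))
    rw [AlgHom.commutes, e.commutes]
    rfl
  have hv : Function.Surjective (aeval (R := A) v) := by
    change Function.Surjective (aeval (R := A) v).toRingHom
    rw [h]
    exact hs.comp e.surjective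
  rw [isLCI_iff hv, KPres, h, ← RingHom.comap_ker, kreg_comap_equiv]
  exact hI

/-- LCI homomorphisms are stable under flat base change. -/
theorem isLCI_baseChange [Module.Flat A B] (h : LCI.IsLCI A C) : LCI.IsLCI B (B ⊗[A] C) := by
  haveI := h.1
  obtain ⟨n, v, hv⟩ := exists_pres A C
  let w : Fin n → B ⊗[A] C := fun i => (1 : B) ⊗ₜ[A] v i
  let e := MvPolynomial.algebraTensorAlgEquiv (σ := Fin n) A B
  let ψ := Algebra.TensorProduct.map (AlgHom.id B B) (aeval (R := A) v)
  have heq : (aeval (R := B) w).comp e.toAlgHom = ψ := by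
    refine Algebra.TensorProduct.ext (Subsingleton.elim _ _) (MvPolynomial.algHom_ext fun i => ?_)
    simp [e, ψ, w]
  have hψ : Function.Surjective ψ := by
    intro z
    induction z using TensorProduct.induction_on with
    | zero => exact ⟨0, map_zero ψ⟩
    | add x y hx hy =>
      obtain ⟨x', rfl⟩ := hx
      obtain ⟨y', rfl⟩ := hy
      exact ⟨x' + y', map_add ψ x' y'⟩
    | tmul b c =>
      obtain ⟨p, rfl⟩ := hv c
      exact ⟨b ⊗ₜ[A] p, Algebra.TensorProduct.map_tmul _ _ _ _⟩
  have hw : Function.Surjective (aeval (R := B) w) := fun z => by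
    obtain ⟨x, hx⟩ := hψ z
    exact ⟨e x, (AlgHom.congr_fun heq x).trans hx⟩
  have hker : RingHom.ker (aeval (R := B) w).toRingHom =
      (RingHom.ker (aeval (R := A) v).toRingHom).map (MvPolynomial.map (algebraMap A B)) := by
    have h1 : RingHom.ker ψ = (RingHom.ker (aeval (R := A) v)).map Algebra.TensorProduct.includeRight :=
      Algebra.TensorProduct.lTensor_ker (aeval (R := A) v) hv
    have h2 : RingHom.ker ψ = (RingHom.ker (aeval (R := B) w).toRingHom).comap e.toRingEquiv.toRingHom := by
      rw [RingHom.comap_ker]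
      ext x
      rw [RingHom.mem_ker, RingHom.mem_ker, ← heq]
      exact Iff.rfl
    have h3 := congrArg (Ideal.map e.toRingEquiv.toRingHom) (h2.symm.trans h1)
    rw [Ideal.map_comap_of_surjective e.toRingEquiv.toRingHom e.surjective] at h3
    rw [h3]
    change Ideal.map _ (Ideal.map (Algebra.TensorProduct.includeRight (R := A) (A := B) (B := MvPolynomial (Fin n) A)).toRingHom _) = _
    rw [Ideal.map_map]
    refine congrArg (Ideal.map · _) (MvPolynomial.ringHom_ext (fun a => ?_) fun i => ?_)
    · simp [e]
    · simp [e]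
  rw [isLCI_iff hw, KPres, hker]
  refine isKoszulRegularIdeal_map _ ?_ ((isLCI_iff hv).1 h)
  letI : Algebra (MvPolynomial (Fin n) A) (MvPolynomial (Fin n) B) := MvPolynomial.algebraMvPolynomial
  have := PCHom.flat_map (A := A) (A' := B) (n := n)
  rw [← RingHom.flat_algebraMap_iff, MvPolynomial.algebraMap_def] at this
  exact this

variable [Algebra B C] [IsScalarTower A B C]

/-- Cancellation along a polynomial algebra. -/
theorem isLCI_cancel_polynomial {n : ℕ} {C : Type u} [CommRing C] [Algebra A C]
    [Algebra (MvPolynomial (Fin n) A) C] [IsScalarTower A (MvPolynomial (Fin n) A) C] (h : LCI.IsLCI A C) :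
    LCI.IsLCI (MvPolynomial (Fin n) A) C := by
  haveI := h.1
  haveI : Algebra.FiniteType (MvPolynomial (Fin n) A) C :=
    Algebra.FiniteType.of_restrictScalars_finiteType A _ C
  obtain ⟨m, w, hw⟩ := exists_pres (MvPolynomial (Fin n) A) C
  let R := MvPolynomial (Fin n) A
  let u : Fin (n + m) → C := cat w fun i => algebraMap R C (X i)
  let e : MvPolynomial (Fin (n + m)) A ≃ₐ[A] MvPolynomial (Fin m) R :=
    (renameEquiv A (catEquiv m n).symm).trans (sumAlgEquiv A (Fin m) (Fin n))
  have hcomp : (aeval (R := A) u).toRingHom = (aeval (R := R) w).toRingHom.comp e.toRingEquiv.toRingHom := by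
    refine MvPolynomial.ringHom_ext (fun a => ?_) fun i => ?_
    · simp [e, R, IsScalarTower.algebraMap_apply A (MvPolynomial (Fin n) A) C]
    · obtain ⟨x, rfl⟩ := (catEquiv m n).surjective i
      rcases x with x | x <;> simp [e, u, cat_catEquiv, R]
  have hu : Function.Surjective (aeval (R := A) u) := by
    change Function.Surjective (aeval (R := A) u).toRingHom
    rw [hcomp]
    exact hw.comp e.surjective
  have h1 := (isLCI_iff hu).1 h
  rw [KPres, hcomp, ← RingHom.comap_ker, kreg_comap_equiv] at h1
  exact (isLCI_iff hw).2 h1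

/-- Cancellation along an etale algebra. -/
theorem isLCI_cancel_etale [Algebra.Etale A B] (h : LCI.IsLCI A C) : LCI.IsLCI B C := by
  haveI := h.1
  let D := B ⊗[A] C
  have hD : LCI.IsLCI B D := isLCI_baseChange h
  let π : D →ₐ[B] C := Algebra.TensorProduct.lift (Algebra.ofId B C) (AlgHom.id A C) fun _ _ => Commute.all _ _
  have hπ : Function.Surjective π := fun c => ⟨(1 : B) ⊗ₜ[A] c,
    (Algebra.TensorProduct.lift_tmul _ _ _ _ _).trans (by simp)⟩
  letI algCD : Algebra C D := Algebra.TensorProduct.rightAlgebra
  haveI : Algebra.Etale C D := Algebra.Etale.of_equiv (Algebra.TensorProduct.commRight A C B)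
  letI : Algebra D C := π.toRingHom.toAlgebra
  haveI : IsScalarTower C D C := .of_algebraMap_eq fun c => by
    refine Eq.trans ?_ (Algebra.TensorProduct.lift_tmul _ _ _ (1 : B) c).symm
    simp
  haveI : Algebra.Etale D C := Algebra.Etale.of_restrictScalars C D C
  haveI : IsScalarTower B D C := .of_algebraMap_eq fun b => (π.commutes b).symm
  obtain ⟨e, he, hfe⟩ :=
    (Ideal.isIdempotentElem_iff_of_fg _ (Algebra.FinitePresentation.ker_fG_of_surjective (Algebra.ofId D C) hπ)).mp
      ((Algebra.FormallyEtale.iff_of_surjective hπ).mp inferInstance)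
  haveI : IsLocalization.Away (1 - e) C :=
    IsLocalization.away_of_isIdempotentElem he.one_sub (hfe.trans (by simp)) hπ
  exact isLCI_away hD (1 - e) C

/-- Cancellation along a smooth algebra. -/
theorem isLCI_cancel_smooth [Algebra.Smooth A B] (h : LCI.IsLCI A C) : LCI.IsLCI B C := by
  haveI := h.1
  haveI : Algebra.FiniteType B C := Algebra.FiniteType.of_restrictScalars_finiteType A B C
  let s : Set C := {c | ∃ b : B, c = algebraMap B C b ∧ LCI.IsLCI B (Localization.Away c)}
  refine isLCI_of_span s ?_ fun c ⟨b, _, hc⟩ => hc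
  by_contra hne
  obtain ⟨m, hm, hle⟩ := Ideal.exists_le_maximal _ hne
  haveI : Algebra.IsSmoothAt A (m.comap (algebraMap B C)) :=
    Algebra.smoothLocus_eq_univ (R := A) (A := B) |>.ge (Set.mem_univ ⟨m.comap (algebraMap B C), inferInstance⟩)
  obtain ⟨b, hb, n, _, _, hstd⟩ :=
    Algebra.IsSmoothAt.exists_isStandardEtale_mvPolynomial (R := A) (p := m.comap (algebraMap B C))
  refine hb (hle (Ideal.subset_span ⟨b, rfl, ?_⟩))
  let Cb := Localization.Away (algebraMap B C b)
  let Bb := Localization.Away b
  letI : Algebra Bb Cb := (Localization.awayMap (algebraMap B C) b).toAlgebra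
  have hψ : ∀ z, algebraMap Bb Cb (algebraMap B Bb z) = algebraMap C Cb (algebraMap B C z) := fun z => by
    change Localization.awayMap (algebraMap B C) b _ = _
    exact IsLocalization.map_eq _ z
  haveI : IsScalarTower B Bb Cb := .of_algebraMap_eq fun z => by
    rw [hψ, IsScalarTower.algebraMap_apply B C Cb]
  letI : Algebra (MvPolynomial (Fin n) A) Cb :=
    ((algebraMap Bb Cb).comp (algebraMap (MvPolynomial (Fin n) A) Bb)).toAlgebra
  haveI : IsScalarTower (MvPolynomial (Fin n) A) Bb Cb := .of_algebraMap_eq fun _ => rfl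
  haveI : IsScalarTower A (MvPolynomial (Fin n) A) Cb := .of_algebraMap_eq fun a => by
    change _ = algebraMap Bb Cb (algebraMap (MvPolynomial (Fin n) A) Bb (algebraMap A _ a))
    rw [← IsScalarTower.algebraMap_apply A (MvPolynomial (Fin n) A) Bb, IsScalarTower.algebraMap_apply A B Bb, hψ,
      ← IsScalarTower.algebraMap_apply A B C, ← IsScalarTower.algebraMap_apply A C Cb]
  have h1 : LCI.IsLCI A Cb := isLCI_away h (algebraMap B C b) Cb
  have h2 : LCI.IsLCI (MvPolynomial (Fin n) A) Cb := isLCI_cancel_polynomial h1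
  have h3 : LCI.IsLCI Bb Cb := isLCI_cancel_etale (A := MvPolynomial (Fin n) A) h2
  exact isLCI_trans (isLCI_away (isLCI_of_smooth (A := B) (B := B)) b Bb) h3

end Groth.Agent.LCIPres
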