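import Groth.Agent.LCIPres.SyntDescent
import Groth.Agent.SyntLCI.Mor
import Groth.Agent.SyntLCI.KoszulMor

/-!
# LCI morphisms and syntomic coverings
-/

set_option autoImplicit false
set_option linter.style.haveILetI false

universe u

open AlgebraicGeometry CategoryTheory

namespace Groth.Agent.LCIPres

theorem lciRH_stableUnderComposition : RingHom.StableUnderComposition @LciRH := by
  intro R S T _ _ _ f g hf hg
  let := f.toAlgebra
  let := g.toAlgebra
  let := (g.comp f).toAlgebra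
  have : IsScalarTower R S T := .of_algebraMap_eq fun _ => rfl
  exact isLCI_trans hf hg

theorem lciMor_of_isSyntomicMor {X S : Scheme.{u}} (f : X ⟶ S) (h : Synt.IsSyntomicMor f) : lciMor f :=
  (lciMor_iff f).2 fun U V hU hV e =>
    letI := (f.appLE V U e).hom.toAlgebra
    ((SyntLCI.isSyntomic_iff Γ(S, V) Γ(X, U)).1 (SyntLCI.isSyntomic_appLE h ⟨V, hV⟩ ⟨U, hU⟩ e)).2

theorem lciMor_comp {X Y Z : Scheme.{u}} {f : X ⟶ Y} {g : Y ⟶ Z} (hf : lciMor f) (hg : lciMor g) : lciMor (f ≫ g) :=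
  haveI := HasRingHomProperty.stableUnderComposition (P := lciMor.{u}) lciRH_stableUnderComposition
  MorphismProperty.comp_mem _ f g hf hg

theorem lciAt_of_comp_syntomic {X' X Y : Scheme.{u}} (g : X' ⟶ X) (hg : Synt.IsSyntomicMor g) (f : X ⟶ Y) (x' : X')
    (h : LCIAt (g ≫ f) x') : LCIAt f (g x') := by
  obtain ⟨U', V, e', hU', hV, hxU', hlci⟩ := h
  obtain ⟨U, hU, hxU, hUV⟩ := TopologicalSpace.Opens.isBasis_iff_nbhd.1 X.isBasis_affineOpens
    (show g x' ∈ f ⁻¹ᵁ V from e' hxU')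
  obtain ⟨b, hbU, hxb⟩ := hU'.exists_basicOpen_le (V := g ⁻¹ᵁ U) ⟨x', hxU⟩ hxU'
  let W := X'.basicOpen b
  have hW : IsAffineOpen W := hU'.basicOpen b
  letI algWU : Algebra Γ(X', U') Γ(X', W) := (X'.presheaf.map (homOfLE (X'.basicOpen_le b)).op).hom.toAlgebra
  haveI : IsLocalization.Away b Γ(X', W) := hU'.isLocalization_basicOpen b
  letI algA' : Algebra Γ(Y, V) Γ(X', U') := ((g ≫ f).appLE V U' e').hom.toAlgebra
  letI algA : Algebra Γ(Y, V) Γ(X, U) := (f.appLE V U hUV).hom.toAlgebra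
  letI algC : Algebra Γ(X, U) Γ(X', W) := (g.appLE U W hbU).hom.toAlgebra
  letI algAW : Algebra Γ(Y, V) Γ(X', W) :=
    ((g ≫ f).appLE V W ((X'.basicOpen_le b).trans e')).hom.toAlgebra
  haveI : IsScalarTower Γ(Y, V) Γ(X', U') Γ(X', W) := IsScalarTower.of_algebraMap_eq' (by
    show ((g ≫ f).appLE V W _).hom = ((g ≫ f).appLE V U' e' ≫ X'.presheaf.map _).hom
    rw [Scheme.Hom.appLE_map])
  haveI : IsScalarTower Γ(Y, V) Γ(X, U) Γ(X', W) := IsScalarTower.of_algebraMap_eq' (by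
    show ((g ≫ f).appLE V W _).hom = (f.appLE V U hUV ≫ g.appLE U W hbU).hom
    rw [Scheme.Hom.appLE_comp_appLE])
  have hW' : LCI.IsLCI Γ(Y, V) Γ(X', W) := isLCI_away hlci b _
  obtain ⟨c, hc, hL⟩ := exists_isLCI_away_of_isSyntomic
    (SyntLCI.isSyntomic_appLE hg ⟨U, hU⟩ ⟨W, hW⟩ hbU) hW' (hW.primeIdealOf ⟨x', hxb⟩).asIdeal
  have hprime := IsAffineOpen.comap_primeIdealOf_appLE (f := g) U hU W hW hbU hxb
  have hxc : g x' ∈ X.basicOpen c := (SyntLCI.mem_basicOpen_iff_notMem hU ⟨g x', hbU hxb⟩ c).2 fun hm =>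
    hc (by rw [← hprime] at hm; exact hm)
  refine ⟨X.basicOpen c, V, (X.basicOpen_le c).trans hUV, hU.basicOpen c, hV, hxc, ?_⟩
  letI algUc : Algebra Γ(X, U) Γ(X, X.basicOpen c) := (X.presheaf.map (homOfLE (X.basicOpen_le c)).op).hom.toAlgebra
  haveI : IsLocalization.Away c Γ(X, X.basicOpen c) := hU.isLocalization_basicOpen c
  letI algAc : Algebra Γ(Y, V) Γ(X, X.basicOpen c) := (f.appLE V (X.basicOpen c) ((X.basicOpen_le c).trans hUV)).hom.toAlgebra
  haveI : IsScalarTower Γ(Y, V) Γ(X, U) Γ(X, X.basicOpen c) := IsScalarTower.of_algebraMap_eq' (by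
    show (f.appLE V (X.basicOpen c) _).hom = (f.appLE V U hUV ≫ X.presheaf.map _).hom
    rw [Scheme.Hom.appLE_map])
  exact isLCI_congr ((IsLocalization.algEquiv (Submonoid.powers c) (Localization.Away c)
    Γ(X, X.basicOpen c)).restrictScalars Γ(Y, V)) hL

theorem isKoszulAt_comp_syntomic_iff {X' X Y : Scheme.{u}} (g : X' ⟶ X) (hg : Synt.IsSyntomicMor g) [Surjective g]
    (f : X ⟶ Y) : (∀ x' : X', Synt.IsKoszulAt (g ≫ f) x') ↔ (∀ x : X, Synt.IsKoszulAt f x) := by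
  refine ⟨fun h x => ?_, fun h => ?_⟩
  · obtain ⟨x', rfl⟩ := g.surjective x
    exact (isKoszulAt_iff f _).2 (lciAt_of_comp_syntomic g hg f x' ((isKoszulAt_iff _ x').1 (h x')))
  · exact (lciMor_iff_forall_isKoszulAt (g ≫ f)).1
      (lciMor_comp (lciMor_of_isSyntomicMor g hg) ((lciMor_iff_forall_isKoszulAt f).2 h))

end Groth.Agent.LCIPres
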