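import Groth.Agent.LCIPres.RegQuot
import Groth.Agent.LCIPres.Smooth
import Groth.Agent.DepthFlat.Basic
import Mathlib.RingTheory.RegularLocalRing.Polynomial

/-!
# Cancelling a regular ring in a local complete intersection tower
-/

set_option autoImplicit false
set_option linter.style.haveILetI false

noncomputable section

universe u

open IsLocalRing RingTheory.Sequence MvPolynomial

namespace Groth.Agent.LCIPres

/-- An ideal generated by a Koszul regular sequence is a Koszul regular ideal. -/
theorem isKoszulRegularIdeal_of_seq {L : Type u} [CommRing L] {I : Ideal L} (l : List L)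
    (hl : LCI.IsKoszulRegularSeq L l) (hI : I = Ideal.span {z | z ∈ l}) : LCI.IsKoszulRegularIdeal I := by
  rw [isKoszulRegularIdeal_iff]
  intro p hp _
  haveI : Module.Flat L (Localization.Away (1 : L)) := IsLocalization.flat _ (Submonoid.powers 1)
  refine ⟨1, fun h => hp.ne_top ((Ideal.eq_top_iff_one _).2 h), l.length,
    fun j => algebraMap _ _ (l.get j), isExact_of_flat ((KoszulExt.isExact_iff _).2 (by rwa [List.ofFn_get])), ?_⟩
  rw [hI, Ideal.map_span]
  refine congrArg Ideal.span ?_
  ext z
  simp [List.mem_iff_get, eq_comm]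

/-- Localisation of a surjection at a prime. -/
theorem exists_localHom {R T : Type u} [CommRing R] [CommRing T] (π : R →+* T) (hπ : Function.Surjective π)
    (q : Ideal T) [q.IsPrime] :
    ∃ χ : Localization.AtPrime (q.comap π) →+* Localization.AtPrime q, Function.Surjective χ ∧
      (∀ a, χ (algebraMap R _ a) = algebraMap T _ (π a)) ∧
      RingHom.ker χ = (RingHom.ker π).map (algebraMap R _) := by
  haveI : IsLocalization ((q.comap π).primeCompl.map π) (Localization.AtPrime q) := by
    rw [SyntLCI.map_primeCompl_comap π hπ q]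
    infer_instance
  exact ⟨IsLocalization.map (M := (q.comap π).primeCompl) (T := (q.comap π).primeCompl.map π) (Localization.AtPrime q) π
      (Submonoid.le_comap_map _),
    IsLocalization.map_surjective_of_surjective _ _ _ hπ, fun a => IsLocalization.map_eq _ a,
    IsLocalization.ker_map _ π rfl⟩

theorem ker_regular {R T : Type u} [CommRing R] [CommRing T] [IsRegularRing T] (π : R →+* T)
    (hπ : Function.Surjective π) (q : Ideal T) [q.IsPrime] :
    IsRegularLocalRing (Localization.AtPrime (q.comap π) ⧸
      (RingHom.ker π).map (algebraMap R (Localization.AtPrime (q.comap π)))) := by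
  obtain ⟨χ, hχ, -, hker⟩ := exists_localHom π hπ q
  exact IsRegularLocalRing.of_ringEquiv (R := Localization.AtPrime q)
    ((Ideal.quotEquivOfEq hker.symm).trans (RingHom.quotientKerEquivOfSurjective hχ)).symm

variable {A B C : Type u} [CommRing A] [CommRing B] [CommRing C] [Algebra A B] [Algebra A C] [Algebra B C]
  [IsScalarTower A B C] [IsNoetherianRing A] [IsRegularRing B]

theorem exists_prefix_at (hs : Function.Surjective (algebraMap A B)) (hC : LCI.IsLCI A C) {m : ℕ} {w : Fin m → C}
    (hw : Function.Surjective (aeval (R := A) w)) (q : Ideal (MvPolynomial (Fin m) B)) [q.IsPrime]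
    (hq : RingHom.ker (aeval (R := B) w).toRingHom ≤ q) :
    ∃ l l' : List (Localization.AtPrime (q.comap (MvPolynomial.map (σ := Fin m) (algebraMap A B)))),
      (∀ z ∈ l, ∃ a ∈ RingHom.ker (algebraMap A B), z = algebraMap (MvPolynomial (Fin m) A) _ (MvPolynomial.C a)) ∧
      Ideal.ofList l = (RingHom.ker (MvPolynomial.map (σ := Fin m) (algebraMap A B))).map (algebraMap _ _) ∧
      Ideal.ofList (l ++ l') = (RingHom.ker (aeval (R := A) w).toRingHom).map (algebraMap _ _) ∧
      IsWeaklyRegular (Localization.AtPrime (q.comap (MvPolynomial.map (σ := Fin m) (algebraMap A B)))) (l ++ l') := by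
  let π := MvPolynomial.map (σ := Fin m) (algebraMap A B)
  have hπ : Function.Surjective π := MvPolynomial.map_surjective _ hs
  have hcomp : ∀ z, aeval (R := B) w (π z) = aeval (R := A) w z := fun z => aeval_map_algebraMap B w z
  have hK : RingHom.ker (aeval (R := A) w).toRingHom = (RingHom.ker (aeval (R := B) w).toRingHom).comap π := by
    ext z
    simp only [Ideal.mem_comap, RingHom.mem_ker, AlgHom.toRingHom_eq_coe, RingHom.coe_coe, hcomp]
  have hKq : RingHom.ker (aeval (R := A) w).toRingHom ≤ q.comap π := hK.trans_le (Ideal.comap_mono hq)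
  obtain ⟨r, y, hy, hspan⟩ := exists_exact_atPrime ((isLCI_iff hw).1 hC) (q.comap π) hKq
  have hm : ∀ i, y i ∈ maximalIdeal (Localization.AtPrime (q.comap π)) := fun i => by
    rw [← Localization.AtPrime.map_eq_maximalIdeal]
    exact Ideal.map_mono hKq (hspan.le (Ideal.subset_span ⟨i, rfl⟩))
  have hle : (RingHom.ker π).map (algebraMap _ (Localization.AtPrime (q.comap π))) ≤ Ideal.span (Set.range y) := by
    rw [hspan, hK]
    exact Ideal.map_mono (Ideal.comap_mono bot_le)
  obtain ⟨l, l', hlS, hl, hll, hw'⟩ := exists_regular_prefix_of_span r _ y hm hy _ hle (ker_regular π hπ q)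
    ((algebraMap (MvPolynomial (Fin m) A) (Localization.AtPrime (q.comap π))).comp MvPolynomial.C ''
      (RingHom.ker (algebraMap A B) : Set A)) (by
        rw [MvPolynomial.ker_map, Ideal.map_map, Ideal.map])
  refine ⟨l, l', fun z hz => ?_, hl, hll.trans hspan, hw'⟩
  obtain ⟨a, ha, rfl⟩ := hlS z hz
  exact ⟨a, ha, rfl⟩

/-- `B → C` is LCI if `A → C` is, for a regular quotient `B` of `A`. -/
theorem isLCI_cancel_regular (hs : Function.Surjective (algebraMap A B)) (hC : LCI.IsLCI A C) : LCI.IsLCI B C := by
  haveI := hC.1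
  obtain ⟨m, w, hw⟩ := exists_pres A C
  have hwB : Function.Surjective (aeval (R := B) w) := fun z => by
    obtain ⟨p, rfl⟩ := hw z
    exact ⟨MvPolynomial.map (algebraMap A B) p, aeval_map_algebraMap B w p⟩
  haveI : Algebra.FiniteType B C := Algebra.FiniteType.of_restrictScalars_finiteType A B C
  rw [isLCI_iff hwB]
  refine isKoszulRegularIdeal_of_local fun q _ hq => ?_
  let π := MvPolynomial.map (σ := Fin m) (algebraMap A B)
  have hπ : Function.Surjective π := MvPolynomial.map_surjective _ hs
  obtain ⟨l, l', -, hl, hll, hreg⟩ := exists_prefix_at hs hC hw q hq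
  obtain ⟨χ, hχ, hχc, hker⟩ := exists_localHom π hπ q
  have hkl : RingHom.ker χ = Ideal.ofList l := hker.trans hl.symm
  let e := (Ideal.quotEquivOfEq hkl.symm).trans (RingHom.quotientKerEquivOfSurjective hχ)
  refine ⟨l'.map χ, ?_, ?_⟩
  · have h1 := congrArg (Ideal.map χ) hll
    rw [Ideal.ofList_append, Ideal.map_sup, ← hkl, (Ideal.map_eq_bot_iff_le_ker χ).2 le_rfl, bot_sup_eq,
      Ideal.map_ofList, Ideal.map_map] at h1
    rw [h1, show χ.comp (algebraMap _ _) = (algebraMap _ _).comp π from RingHom.ext hχc, ← Ideal.map_map]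
    congr 1
    rw [show RingHom.ker (aeval (R := A) w).toRingHom = (RingHom.ker (aeval (R := B) w).toRingHom).comap π from by
      ext z
      simp only [Ideal.mem_comap, RingHom.mem_ker, AlgHom.toRingHom_eq_coe, RingHom.coe_coe, π, aeval_map_algebraMap],
      Ideal.map_comap_of_surjective _ hπ]
  · have h1 := SyntLCI.isWeaklyRegular_map_ringEquiv e (isWeaklyRegular_suffix hreg)
    rw [List.map_map] at h1
    exact h1

/-- Near the image of a prime of `C`, the kernel of `A → B` is generated by a Koszul regular sequence. -/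
theorem exists_away_of_regular (hs : Function.Surjective (algebraMap A B)) (hC : LCI.IsLCI A C) (p : Ideal C)
    [p.IsPrime] :
    ∃ h : A, h ∉ p.comap (algebraMap A C) ∧ ∃ l : List (Localization.Away h),
      LCI.IsKoszulRegularSeq (Localization.Away h) l ∧
      (RingHom.ker (algebraMap A B)).map (algebraMap A (Localization.Away h)) = Ideal.span {z | z ∈ l} := by
  haveI := hC.1
  obtain ⟨m, w, hw⟩ := exists_pres A C
  let q := p.comap (aeval (R := B) w).toRingHom
  have hq : RingHom.ker (aeval (R := B) w).toRingHom ≤ q := Ideal.comap_mono bot_le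
  obtain ⟨l, l', hlS, hl, -, hreg⟩ := exists_prefix_at hs hC hw q hq
  let π := MvPolynomial.map (σ := Fin m) (algebraMap A B)
  let R := MvPolynomial (Fin m) A
  let Q := q.comap π
  let p0 := p.comap (algebraMap A C)
  have hp0 : p0 = Q.comap (algebraMap A R) := by
    ext a
    show algebraMap A C a ∈ p ↔ aeval (R := B) w (π (MvPolynomial.C a)) ∈ p
    rw [aeval_map_algebraMap, aeval_C]
  let L0 := Localization.AtPrime p0
  let LQ := Localization.AtPrime Q
  let φ : L0 →+* LQ := Localization.localRingHom p0 Q (algebraMap A R) hp0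
  letI : Algebra L0 LQ := φ.toAlgebra
  haveI : IsScalarTower A L0 LQ := .of_algebraMap_eq fun a => (Localization.localRingHom_to_map p0 Q _ hp0 a).symm
  haveI : Module.Flat R LQ := IsLocalization.flat LQ Q.primeCompl
  haveI : Module.Flat A LQ := Module.Flat.trans A R LQ
  haveI : Module.Flat L0 LQ := (Module.flat_iff_of_isLocalization L0 p0.primeCompl LQ).2 inferInstance
  haveI : IsLocalHom (algebraMap L0 LQ) := Localization.isLocalHom_localRingHom p0 Q _ hp0
  haveI : Module.FaithfullyFlat L0 LQ := Module.FaithfullyFlat.of_flat_of_isLocalHom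
  choose a ha hza using hlS
  let l0 : List L0 := l.attach.map fun z => algebraMap A L0 (a z.1 z.2)
  have hl0 : l0.map (algebraMap L0 LQ) = l := by
    conv_rhs => rw [← List.attach_map_subtype_val l]
    rw [List.map_map]
    refine List.map_congr_left fun z _ => ?_
    show algebraMap L0 LQ (algebraMap A L0 (a z.1 z.2)) = z.1
    rw [← IsScalarTower.algebraMap_apply, IsScalarTower.algebraMap_apply A R LQ, MvPolynomial.algebraMap_eq]
    exact (hza z.1 z.2).symm
  have hregl : IsWeaklyRegular LQ (l0.map (algebraMap L0 LQ)) := by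
    rw [hl0]
    exact ((isWeaklyRegular_append_iff _ l l').1 hreg).1
  have h1 : IsWeaklyRegular L0 l0 := DepthFlat.isWeaklyRegular_of_faithfullyFlat L0 LQ l0 L0
    (((TensorProduct.AlgebraTensorModule.rid L0 L0 LQ).isWeaklyRegular_congr l0).2
      ((isWeaklyRegular_map_algebraMap_iff _ _ _).1 hregl))
  refine exists_away_of_atPrime p0 l0 (le_antisymm ?_ ?_) h1
  · refine Ideal.span_le.2 fun z hz => ?_
    obtain ⟨y, -, rfl⟩ := List.mem_map.1 (show z ∈ l0 from hz)
    exact Ideal.mem_map_of_mem _ (ha y.1 y.2)
  · rw [← Ideal.comap_map_eq_self_of_faithfullyFlat (B := LQ) (Ideal.ofList l0), ← Ideal.map_le_iff_le_comap,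
      Ideal.map_map, ← IsScalarTower.algebraMap_eq, Ideal.map_ofList, hl0]
    refine le_of_le_of_eq ?_ hl.symm
    rw [IsScalarTower.algebraMap_eq A R LQ, ← Ideal.map_map, MvPolynomial.algebraMap_eq, ← MvPolynomial.ker_map]

omit [Algebra B C] in
/-- Finite type algebras between regular rings are local complete intersections. -/
theorem isLCI_of_regular {A C : Type u} [CommRing A] [CommRing C] [Algebra A C] [IsRegularRing A] [IsRegularRing C]
    [Algebra.FiniteType A C] : LCI.IsLCI A C := by
  obtain ⟨n, v, hv⟩ := exists_pres A C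
  rw [isLCI_iff hv]
  refine isKoszulRegularIdeal_of_local fun q _ hq => ?_
  haveI : (q.map (aeval (R := A) v).toRingHom).IsPrime := Ideal.map_isPrime_of_surjective hv hq
  have hT := ker_regular (aeval (R := A) v).toRingHom hv (q.map (aeval (R := A) v).toRingHom)
  have hqq : (q.map (aeval (R := A) v).toRingHom).comap (aeval (R := A) v).toRingHom = q :=
    (Ideal.comap_map_of_surjective _ hv q).trans (sup_eq_left.2 ((RingHom.ker_eq_comap_bot _).symm.trans_le hq))
  have key : ∀ (q' : Ideal (MvPolynomial (Fin n) A)) [q'.IsPrime], q' = q →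
      IsRegularLocalRing (Localization.AtPrime q' ⧸
        (RingHom.ker (aeval (R := A) v).toRingHom).map (algebraMap _ (Localization.AtPrime q'))) →
      IsRegularLocalRing (Localization.AtPrime q ⧸
        (RingHom.ker (aeval (R := A) v).toRingHom).map (algebraMap _ (Localization.AtPrime q))) := by
    rintro q' _ rfl h; exact h
  exact exists_regular_of_isRegularLocalRing _ (key _ hqq hT)

end Groth.Agent.LCIPres
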