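import Groth.Agent.LCIPres.Ideal
import Groth.Agent.NLAmp.Regular
import Groth.Agent.SyntLCI.KoszulLocal
import Groth.Agent.KoszulExt.Conormal
import Mathlib

/-!
# Faithfully flat descent of Koszul-regular ideals
-/

set_option autoImplicit false
set_option linter.style.haveILetI false
set_option maxHeartbeats 400000

noncomputable section

universe u

namespace Groth.Agent.LCIPres

open KoszulExt TensorProduct

/-- The family is independent modulo the square of the ideal. -/
def Indep {A : Type u} [CommRing A] {n : ℕ} (I : Ideal A) (f : Fin n → A) : Prop :=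
  ∀ c : Fin n → A, ∑ i, c i * f i ∈ I ^ 2 → ∀ i, c i ∈ I

section Ring

variable {A : Type u} [CommRing A] {n : ℕ}

theorem indep_of_isExact {I : Ideal A} {f : Fin n → A} (hf : IsExact f) (hI : Ideal.span (Set.range f) = I) :
    Indep I f := by
  intro c hc i
  rw [pow_two] at hc
  conv at hc => arg 1; arg 2; rw [← hI]
  rw [← smul_eq_mul] at hc
  obtain ⟨e, he, hes⟩ := (Submodule.mem_ideal_smul_span_iff_exists_sum I f _).1 hc
  rw [Finsupp.sum_fintype _ _ (fun _ => by simp)] at hes
  have := hf.rel_mem (v := fun i => c i - e i) (by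
    simp only [sub_mul, Finset.sum_sub_distrib, sub_eq_zero]; simpa using hes.symm) i
  rw [hI] at this
  simpa using add_mem this (he i)

/-- Two generating families, each independent modulo the square, have the same length, and Koszul
exactness of one gives that of the other. -/
theorem isExact_of_indep {m : ℕ} {I : Ideal A} (hI : I ≠ ⊤) {g : Fin m → A} (hg : IsExact g)
    (hgI : Ideal.span (Set.range g) = I) {f : Fin n → A} (hfI : Ideal.span (Set.range f) = I) (hf : Indep I f) :
    IsExact f := by
  classical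
  have hg' := indep_of_isExact hg hgI
  have hCmem : ∀ i, f i ∈ Ideal.span (Set.range g) := fun i => hgI ▸ hfI ▸ Ideal.subset_span ⟨i, rfl⟩
  have hEmem : ∀ i, g i ∈ Ideal.span (Set.range f) := fun i => hfI ▸ hgI ▸ Ideal.subset_span ⟨i, rfl⟩
  choose C hC using fun i => Ideal.mem_span_range_iff_exists_fun.1 (hCmem i)
  choose E hE using fun i => Ideal.mem_span_range_iff_exists_fun.1 (hEmem i)
  let q := Ideal.Quotient.mk I
  have key : ∀ {a b : ℕ} (u : Fin a → A) (v : Fin b → A) (M : Matrix (Fin a) (Fin b) A) (N : Matrix (Fin b) (Fin a) A),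
      (∀ i, ∑ k, M i k * v k = u i) → (∀ k, ∑ i, N k i * u i = v k) → Indep I u → M.map q * N.map q = 1 := by
    intro a b u v M N hM hN hu
    rw [← Matrix.map_mul]
    ext i j
    have h := hu (fun j => (M * N) i j - (1 : Matrix (Fin a) (Fin a) A) i j) (by
      simp only [sub_mul, Finset.sum_sub_distrib, Matrix.mul_apply, Finset.sum_mul, mul_assoc]
      rw [Finset.sum_comm]
      simp [← Finset.mul_sum, hN, hM, Matrix.one_apply]) j
    rw [Matrix.map_apply, Ideal.Quotient.eq.2 h]
    simp [Matrix.one_apply, apply_ite q]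
  have h1 := key f g (Matrix.of C) (Matrix.of E) hC hE hf
  have h2 := key g f (Matrix.of E) (Matrix.of C) hE hC hg'
  have : Nontrivial (A ⧸ I) := Ideal.Quotient.nontrivial_iff.2 hI
  obtain rfl : m = n := by
    simpa using card_eq_of_linearEquiv (A ⧸ I) (Matrix.toLin'OfInv h2 h1)
  refine hg.of_matrix (Matrix.of C) (fun i => (hC i).symm) ?_
  rw [hfI, Ideal.eq_top_iff_one]
  have hu : q (Matrix.of C).det * q (Matrix.of E).det = 1 := by
    rw [RingHom.map_det, RingHom.map_det, ← Matrix.det_mul]
    simp [RingHom.mapMatrix_apply, h1]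
  rw [← map_mul, ← map_one q, Ideal.Quotient.eq] at hu
  rw [show (1 : A) = -((Matrix.of C).det * (Matrix.of E).det - 1) + (Matrix.of C).det * (Matrix.of E).det by ring]
  exact add_mem (Submodule.mem_sup_left (neg_mem hu))
    (Submodule.mem_sup_right (Ideal.mul_mem_right _ _ (Ideal.mem_span_singleton_self _)))

/-- Rows of a matrix with a left inverse modulo a prime: a square submatrix is invertible at the prime. -/
theorem exists_det_notMem {m N : ℕ} (q : Ideal A) [q.IsPrime] (C : Matrix (Fin m) (Fin N) A)
    (E : Matrix (Fin N) (Fin m) A) (h : ∀ i j, (E * C) i j - (1 : Matrix (Fin N) (Fin N) A) i j ∈ q) :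
    ∃ s : Fin N → Fin m, (C.submatrix s id).det ∉ q := by
  classical
  let φ := algebraMap A q.ResidueField
  have hφ : RingHom.ker φ = q := Ideal.ker_algebraMap_residueField q
  have h1 : E.map φ * C.map φ = 1 := by
    rw [← Matrix.map_mul]
    ext i j
    have := h i j
    rw [← hφ, RingHom.mem_ker, map_sub, sub_eq_zero] at this
    rw [Matrix.map_apply, this]
    simp [Matrix.one_apply, apply_ite φ]
  have htop : Submodule.span q.ResidueField (Set.range (C.map φ).row) = ⊤ := by
    refine top_le_iff.1 fun v _ => ?_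
    have hv : v = Matrix.vecMul (Matrix.vecMul v (E.map φ)) (C.map φ) := by
      rw [Matrix.vecMul_vecMul, h1, Matrix.vecMul_one]
    rw [hv, Matrix.vecMul_eq_sum]
    exact Submodule.sum_mem _ fun i _ => Submodule.smul_mem _ _ (Submodule.subset_span ⟨i, rfl⟩)
  obtain ⟨r, hr, -, hli⟩ := Submodule.exists_fun_fin_finrank_span_eq q.ResidueField (Set.range (C.map φ).row)
  have hN : Module.finrank q.ResidueField (Submodule.span q.ResidueField (Set.range (C.map φ).row)) = N := by
    rw [LinearEquiv.finrank_eq (LinearEquiv.ofTop _ htop)]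
    exact Module.finrank_fin_fun _
  choose s hs using hr
  refine ⟨fun i => s (Fin.cast hN.symm i), fun hmem => ?_⟩
  have hli' : LinearIndependent q.ResidueField ((C.submatrix (fun i => s (Fin.cast hN.symm i)) id).map φ).row := by
    have h2 := hli.comp (Fin.cast hN.symm) (Fin.cast_injective _)
    have he : ((C.submatrix (fun i => s (Fin.cast hN.symm i)) id).map φ).row = r ∘ Fin.cast hN.symm := by
      funext i
      rw [Function.comp_apply, ← hs]
      rfl
    exact he ▸ h2
  have hu := (Matrix.isUnit_iff_isUnit_det _).1 (Matrix.linearIndependent_rows_iff_isUnit.1 hli')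
  rw [← RingHom.mapMatrix_apply, ← RingHom.map_det] at hu
  exact hu.ne_zero (RingHom.mem_ker.1 (hφ.symm ▸ hmem))

/-- If an element lands in the extension of an ideal to a flat local algebra, then it lies in the ideal
near the contraction of the maximal ideal. -/
theorem exists_notMem_mul_mem {M : Type u} [CommRing M] [IsLocalRing M] [Algebra A M] [Module.Flat A M]
    (J : Ideal A) {a : A} (h : algebraMap A M a ∈ J.map (algebraMap A M)) :
    ∃ t ∉ (IsLocalRing.maximalIdeal M).comap (algebraMap A M), t * a ∈ J := by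
  set p := (IsLocalRing.maximalIdeal M).comap (algebraMap A M) with hp
  let Ap := Localization.AtPrime p
  have hu : ∀ y : p.primeCompl, IsUnit (algebraMap A M y) := fun y =>
    not_not.1 fun hy => y.2 hy
  let : Algebra Ap M := (IsLocalization.lift (M := p.primeCompl) hu).toAlgebra
  have : IsScalarTower A Ap M := .of_algebraMap_eq fun a => (IsLocalization.lift_eq hu a).symm
  have : Module.Flat Ap M := (Module.flat_iff_of_isLocalization Ap p.primeCompl M).2 inferInstance
  have : IsLocalHom (algebraMap Ap M) := ⟨fun z hz => by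
    obtain ⟨a, s, rfl⟩ := IsLocalization.exists_mk'_eq p.primeCompl z
    refine (IsLocalization.AtPrime.isUnit_mk'_iff Ap p a s).2 fun ha => ?_
    have h2 : IsUnit (algebraMap A M a) := by
      have := congrArg (algebraMap Ap M) (IsLocalization.mk'_spec Ap a s)
      rw [map_mul, ← IsScalarTower.algebraMap_apply, ← IsScalarTower.algebraMap_apply] at this
      exact this ▸ hz.mul (hu s)
    exact (ha : algebraMap A M a ∈ IsLocalRing.maximalIdeal M) h2⟩
  have : Module.FaithfullyFlat Ap M := .of_flat_of_isLocalHom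
  have h3 : algebraMap A Ap a ∈ J.map (algebraMap A Ap) := by
    rw [← Ideal.comap_map_eq_self_of_faithfullyFlat (B := M) (J.map (algebraMap A Ap)), Ideal.mem_comap,
      Ideal.map_map, ← IsScalarTower.algebraMap_eq, ← IsScalarTower.algebraMap_apply]
    exact h
  obtain ⟨t, ht, hta⟩ := (IsLocalization.algebraMap_mem_map_algebraMap_iff p.primeCompl Ap J a).1 h3
  exact ⟨t, ht, hta⟩

end Ring

variable {A B : Type u} [CommRing A] [CommRing B] [Algebra A B]

theorem fg_of_map_fg [Module.FaithfullyFlat A B] {I : Ideal A} (h : (I.map (algebraMap A B)).FG) : I.FG := by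
  classical
  rw [Ideal.map, Ideal.span] at h
  obtain ⟨s', hs', hspan⟩ := (Submodule.fg_span_iff_fg_span_finset_subset _).1 h
  choose a haI ha using fun x : s' => hs' x.2
  refine ⟨Finset.univ.image a, ?_⟩
  show Ideal.span _ = I
  rw [← Ideal.comap_map_eq_self_of_faithfullyFlat (B := B) I,
    ← Ideal.comap_map_eq_self_of_faithfullyFlat (B := B) (Ideal.span _)]
  refine congrArg _ (le_antisymm (Ideal.map_mono (Ideal.span_le.2 ?_)) ?_)
  · intro z hz
    simp only [Finset.coe_image, Set.mem_image] at hz
    obtain ⟨x, -, rfl⟩ := hz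
    exact haI x
  · refine Ideal.map_le_iff_le_comap.2 fun z hz => ?_
    have h1 : algebraMap A B z ∈ Submodule.span B (s' : Set B) :=
      hspan.le (Submodule.subset_span ⟨z, hz, rfl⟩)
    refine (Submodule.span_le (p := Ideal.map (algebraMap A B) (Ideal.span _))).2 (fun x hx => ?_) h1
    exact (show algebraMap A B (a ⟨x, hx⟩) = x from ha ⟨x, hx⟩) ▸
      Ideal.mem_map_of_mem _ (Ideal.subset_span (Finset.mem_image_of_mem _ (Finset.mem_univ _)))

/-- Koszul exactness descends along faithfully flat algebras. -/
theorem isExact_of_faithfullyFlat [Module.FaithfullyFlat A B] {c : ℕ} (f : Fin c → A)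
    (h : IsExact fun i => algebraMap A B (f i)) : IsExact f := by
  have hT : IsExact fun i => algebraMap A (A ⊗[A] B) (f i) := by
    have := isExact_equiv (Algebra.TensorProduct.lid A B).symm.toRingEquiv h
    convert this using 1
    funext i
    exact ((Algebra.TensorProduct.lid A B).symm.commutes (f i)).symm
  intro k
  refine Module.FaithfullyFlat.lTensor_reflects_exact A B (KoszulExt.dk f (k + 1)) (KoszulExt.dk f k) ?_
  have hcomm : ∀ j (w : B ⊗[A] KoszulExt.G A c (j + 1)),
      KoszulExt.dk (fun i => algebraMap A (A ⊗[A] B) (f i)) j (KoszulExt.nu A B (j + 1) w) =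
        KoszulExt.nu A B j ((KoszulExt.dk f j).lTensor B w) := by
    intro j w
    induction w using TensorProduct.induction_on with
    | zero => simp
    | add a b ha hb => simp only [map_add, ha, hb]
    | tmul b x =>
      refine Subtype.ext ?_
      rw [KoszulExt.dk_coe, KoszulExt.nu_tmul, LinearMap.lTensor_tmul, KoszulExt.nu_tmul, map_smul, KoszulExt.ct_sigma]
      rfl
  intro w
  constructor
  · intro hw
    obtain ⟨y, hy⟩ := (hT k (KoszulExt.nu A B (k + 1) w)).1 (by rw [hcomm, hw, map_zero])
    obtain ⟨v, rfl⟩ := (KoszulExt.nu_bijective (P := A) (n := c) (A := A) (B := B) (k + 2)).2 y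
    rw [hcomm] at hy
    exact ⟨v, (KoszulExt.nu_bijective (P := A) (n := c) (A := A) (B := B) (k + 1)).1 hy⟩
  · rintro ⟨v, rfl⟩
    refine (KoszulExt.nu_bijective (P := A) (n := c) (A := A) (B := B) k).1 ?_
    rw [← hcomm, ← hcomm, KoszulExt.dk_dk, map_zero]

/-- Away from a basic open the algebra stays faithfully flat. -/
theorem faithfullyFlat_away [Module.FaithfullyFlat A B] (h : A) (A' B' : Type u) [CommRing A'] [CommRing B']
    [Algebra A A'] [Algebra B B'] [Algebra A' B'] [Algebra A B'] [IsScalarTower A A' B'] [IsScalarTower A B B']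
    [IsLocalization.Away h A'] [IsLocalization.Away (algebraMap A B h) B'] : Module.FaithfullyFlat A' B' := by
  have : Module.Flat B B' := IsLocalization.flat B' (Submonoid.powers (algebraMap A B h))
  have : Module.Flat A B' := Module.Flat.trans A B B'
  have : Module.Flat A' B' := (Module.flat_iff_of_isLocalization A' (Submonoid.powers h) B').2 inferInstance
  refine .of_comap_surjective fun p₁ => ?_
  let p := p₁.asIdeal.comap (algebraMap A A')
  have hp : h ∉ p := fun hm =>
    p₁.2.ne_top (Ideal.eq_top_of_isUnit_mem _ hm (IsLocalization.Away.algebraMap_isUnit h))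
  obtain ⟨Q, hQ⟩ := PrimeSpectrum.comap_surjective_of_faithfullyFlat (A := A) (B := B) ⟨p, inferInstance⟩
  have hQh : algebraMap A B h ∉ Q.asIdeal := fun hm => hp ((PrimeSpectrum.ext_iff.1 hQ).le hm)
  have hd : Disjoint (Submonoid.powers (algebraMap A B h) : Set B) (Q.asIdeal : Set B) :=
    (Ideal.disjoint_powers_iff_notMem_of_isPrime _).2 hQh
  refine ⟨⟨Q.asIdeal.map (algebraMap B B'), IsLocalization.isPrime_of_isPrime_disjoint _ _ _ Q.2 hd⟩, ?_⟩
  refine PrimeSpectrum.ext ?_
  have h1 : (PrimeSpectrum.comap (algebraMap A' B')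
      ⟨Q.asIdeal.map (algebraMap B B'), IsLocalization.isPrime_of_isPrime_disjoint _ _ _ Q.2 hd⟩).asIdeal.comap
        (algebraMap A A') = p := by
    rw [PrimeSpectrum.comap_asIdeal, Ideal.comap_comap, ← IsScalarTower.algebraMap_eq A A' B',
      IsScalarTower.algebraMap_eq A B B', ← Ideal.comap_comap]
    show ((Q.asIdeal.map (algebraMap B B')).under B).comap (algebraMap A B) = p
    rw [IsLocalization.under_map_of_isPrime_disjoint _ _ Q.2 hd]
    exact PrimeSpectrum.ext_iff.1 hQ
  rw [← IsLocalization.map_comap (Submonoid.powers h) A' (PrimeSpectrum.comap _ _).asIdeal, Ideal.under, h1,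
    show p = p₁.asIdeal.comap _ from rfl, ← Ideal.under, IsLocalization.map_comap (Submonoid.powers h) A']

/-- Generators of `I` near `Q ∩ A` which are independent at `Q`. -/
theorem exists_gen_nhd [Module.Flat A B] {I : Ideal A} (hI : I.FG) (Q : Ideal B) [Q.IsPrime]
    (hQ : KRAt (I.map (algebraMap A B)) Q) (hIQ : I.map (algebraMap A B) ≤ Q) :
    ∃ (M : Type u) (_ : CommRing M) (_ : IsLocalRing M) (_ : Algebra B M),
      Module.Flat B M ∧ (IsLocalRing.maximalIdeal M).comap (algebraMap B M) = Q ∧
      ∃ h : A, h ∉ Q.comap (algebraMap A B) ∧ ∃ (N : ℕ) (f : Fin N → A), (∀ i, f i ∈ I) ∧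
        (∀ a ∈ I, h * a ∈ Ideal.span (Set.range f)) ∧
        Indep ((I.map (algebraMap A B)).map (algebraMap B M))
          (fun i => algebraMap B M (algebraMap A B (f i))) := by
  classical
  obtain ⟨b, hb, N, g, hg, hspan⟩ := hQ
  let M := Localization.AtPrime Q
  let L := Localization.Away b
  have hu : IsUnit (algebraMap B M b) := IsLocalization.map_units M (⟨b, hb⟩ : Q.primeCompl)
  let : Algebra L M := (IsLocalization.Away.lift b hu).toAlgebra
  have : IsScalarTower B L M := .of_algebraMap_eq fun z => (IsLocalization.Away.lift_eq b hu z).symm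
  have : Module.Flat B M := IsLocalization.flat M Q.primeCompl
  have : Module.Flat L M := (Module.flat_iff_of_isLocalization L (Submonoid.powers b) M).2 inferInstance
  have : Module.Flat A M := Module.Flat.trans A B M
  have hMQ : (IsLocalRing.maximalIdeal M).comap (algebraMap B M) = Q := IsLocalization.AtPrime.comap_maximalIdeal M Q
  let q : Ideal L := (IsLocalRing.maximalIdeal M).comap (algebraMap L M)
  obtain ⟨m, z, hz⟩ := Submodule.fg_iff_exists_fin_generating_family.1 hI
  let z' : Fin m → L := fun l => algebraMap B L (algebraMap A B (z l))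
  have hz' : Ideal.span (Set.range z') = Ideal.span (Set.range g) := by
    rw [← hspan, show I = Ideal.span (Set.range z) from hz.symm, Ideal.map_span, Ideal.map_span,
      ← Set.range_comp, ← Set.range_comp]
    rfl
  choose C hC using fun l => Ideal.mem_span_range_iff_exists_fun.1 (hz'.le (Ideal.subset_span ⟨l, rfl⟩))
  choose E hE using fun j => Ideal.mem_span_range_iff_exists_fun.1 (hz'.ge (Ideal.subset_span ⟨j, rfl⟩))
  have hgq : Ideal.span (Set.range g) ≤ q := by
    rw [← hspan, Ideal.map_le_iff_le_comap, Ideal.comap_comap, ← IsScalarTower.algebraMap_eq, hMQ]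
    exact hIQ
  obtain ⟨s, hs⟩ := exists_det_notMem q (Matrix.of C) (Matrix.of E) fun i j => by
    refine hgq (hg.rel_mem (v := fun j => (Matrix.of E * Matrix.of C) i j - (1 : Matrix (Fin N) (Fin N) L) i j) ?_ j)
    simp only [sub_mul, Finset.sum_sub_distrib, Matrix.mul_apply, Finset.sum_mul, mul_assoc]
    rw [Finset.sum_comm]
    simp [← Finset.mul_sum, hC, hE, Matrix.one_apply]
  let c : Matrix (Fin N) (Fin N) M := (algebraMap L M).mapMatrix ((Matrix.of C).submatrix s id)
  let f : Fin N → A := fun i => z (s i)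
  let fM : Fin N → M := fun i => algebraMap B M (algebraMap A B (f i))
  have hc : IsUnit c.det := by
    rw [← RingHom.map_det]
    exact IsLocalRing.notMem_maximalIdeal.1 hs
  have hgM : IsExact fun j => algebraMap L M (g j) := isExact_of_flat hg
  have hfg : ∀ i, fM i = ∑ j, c i j * algebraMap L M (g j) := fun i => by
    simp only [c, RingHom.mapMatrix_apply, Matrix.map_apply, Matrix.submatrix_apply, id_eq, ← map_mul, ← map_sum,
      Matrix.of_apply, hC, z']
    exact (IsScalarTower.algebraMap_apply B L M _)
  have hfM : IsExact fM := hgM.of_matrix c hfg (by rw [Ideal.span_singleton_eq_top.2 hc, sup_top_eq])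
  have hfspan : Ideal.span (Set.range fM) = (I.map (algebraMap A B)).map (algebraMap B M) := by
    refine le_antisymm (Ideal.span_le.2 ?_) ?_
    · rintro _ ⟨i, rfl⟩
      exact Ideal.mem_map_of_mem _ (Ideal.mem_map_of_mem _ (hz.le (Submodule.subset_span ⟨_, rfl⟩)))
    · rw [IsScalarTower.algebraMap_eq B L M, ← Ideal.map_map, hspan, Ideal.map_span, Ideal.span_le]
      rintro _ ⟨_, ⟨j, rfl⟩, rfl⟩
      refine (Ideal.unit_mul_mem_iff_mem _ hc).1 ?_
      have : c.det * algebraMap L M (g j) = ∑ i, c.adjugate j i * fM i := by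
        have h1 : fM = c.mulVec fun j => algebraMap L M (g j) := funext hfg
        show _ = c.adjugate.mulVec fM j
        rw [h1, Matrix.mulVec_mulVec, Matrix.adjugate_mul, Matrix.smul_mulVec, Matrix.one_mulVec]
        simp
      rw [this]
      exact Ideal.sum_mem _ fun i _ => Ideal.mul_mem_left _ _ (Ideal.subset_span ⟨i, rfl⟩)
  have hmap : ∀ l, algebraMap A M (z l) ∈ (Ideal.span (Set.range f)).map (algebraMap A M) := fun l => by
    rw [Ideal.map_span, ← Set.range_comp,
      show Set.range (algebraMap A M ∘ f) = Set.range fM from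
        congrArg Set.range (funext fun i => IsScalarTower.algebraMap_apply A B M _), hfspan,
      IsScalarTower.algebraMap_apply A B M]
    exact Ideal.mem_map_of_mem _ (Ideal.mem_map_of_mem _ (hz.le (Submodule.subset_span ⟨l, rfl⟩)))
  choose t ht htz using fun l => exists_notMem_mul_mem (Ideal.span (Set.range f)) (hmap l)
  refine ⟨M, inferInstance, inferInstance, inferInstance, inferInstance, hMQ,
    ∏ l, t l, ?_, N, f, fun i => hz.le (Submodule.subset_span ⟨_, rfl⟩), fun a ha => ?_, indep_of_isExact hfM hfspan⟩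
  · intro hm
    obtain ⟨l, -, hl⟩ := (Ideal.IsPrime.prod_mem_iff).1 hm
    refine ht l ?_
    rw [IsScalarTower.algebraMap_eq A B M, ← Ideal.comap_comap, hMQ]
    exact hl
  · obtain ⟨e, rfl⟩ := Ideal.mem_span_range_iff_exists_fun.1 (hz.ge ha)
    rw [Finset.mul_sum]
    refine Ideal.sum_mem _ fun l _ => ?_
    rw [← Finset.mul_prod_erase _ _ (Finset.mem_univ l), show t l * _ * (e l * z l) =
      ((∏ k ∈ Finset.univ.erase l, t k) * e l) * (t l * z l) by ring]
    exact Ideal.mul_mem_left _ _ (htz l)

/-- The coefficients of relations modulo the square lie in the ideal near a point where the generators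
are independent. -/
theorem exists_indep_nhd [Module.FaithfullyFlat A B] {N : ℕ} {I : Ideal A} (f : Fin N → A)
    (hf : Ideal.span (Set.range f) = I) (hB : NLAmp.HasLocalBases (I.map (algebraMap A B)))
    {M : Type u} [CommRing M] [IsLocalRing M] [Algebra A M] [Module.Flat A M]
    (hM : Indep (I.map (algebraMap A M)) fun i => algebraMap A M (f i)) :
    ∃ h ∉ (IsLocalRing.maximalIdeal M).comap (algebraMap A M), ∀ b : Fin N → B,
      ∑ i, b i * algebraMap A B (f i) ∈ I.map (algebraMap A B) ^ 2 →
        ∀ i, algebraMap A B h * b i ∈ I.map (algebraMap A B) := by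
  classical
  let IB := I.map (algebraMap A B)
  let fB : Fin N → B := fun i => algebraMap A B (f i)
  have hfB : Ideal.span (Set.range fB) = IB := by
    simp only [IB, ← hf, Ideal.map_span, ← Set.range_comp]; rfl
  have hfI : ∀ i, f i ∈ I := fun i => hf ▸ Ideal.subset_span ⟨i, rfl⟩
  let 𝔠 : Ideal A := Ideal.span {a | ∃ b : Fin N → A, ∑ i, b i * f i ∈ I ^ 2 ∧ ∃ i, a = b i}
  let K : Submodule B (Fin N → B) := Submodule.comap (Fintype.linearCombination B fB) (IB ^ 2)
  have hK : ∀ b, b ∈ K ↔ ∑ i, b i * fB i ∈ IB ^ 2 := fun b => by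
    simp [K, Fintype.linearCombination_apply]
  have hKc : ∀ b ∈ K, ∀ i, b i ∈ 𝔠.map (algebraMap A B) := by
    intro b hb
    rw [hK, pow_two] at hb
    conv at hb => arg 1; arg 2; rw [← hfB]
    rw [← smul_eq_mul] at hb
    obtain ⟨e, he, hes⟩ := (Submodule.mem_ideal_smul_span_iff_exists_sum IB fB _).1 hb
    rw [Finsupp.sum_fintype _ _ (fun _ => by simp)] at hes
    have h0 : ∑ i, f i • (b i - e i) = 0 := by
      simp only [Algebra.smul_def, mul_sub, Finset.sum_sub_distrib, sub_eq_zero]
      simp only [smul_eq_mul] at hes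
      rw [Finset.sum_congr rfl fun i _ => mul_comm _ (b i), ← hes]
      exact Finset.sum_congr rfl fun i _ => mul_comm _ _
    obtain ⟨k, a, y, hy, ha⟩ := Module.Flat.isTrivialRelation_of_sum_smul_eq_zero (R := A) (M := B) (f := f) (x := fun i => b i - e i) h0
    intro i
    have hy' : b i - e i = ∑ j, a i j • y j := hy i
    rw [← sub_add_cancel (b i) (e i), hy']
    refine add_mem (Ideal.sum_mem _ fun j _ => ?_) (Ideal.map_mono ?_ (he i))
    · rw [Algebra.smul_def]
      refine Ideal.mul_mem_right _ _ (Ideal.mem_map_of_mem _ (Ideal.subset_span ⟨fun i => a i j, ?_, i, rfl⟩))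
      rw [show ∑ i, a i j * f i = 0 from (Finset.sum_congr rfl fun i _ => mul_comm _ _).trans (ha j)]
      exact zero_mem _
    · intro x hx
      refine Ideal.subset_span ⟨Pi.single i x, ?_, i, by simp⟩
      simp only [Pi.single_apply, ite_mul, zero_mul, Finset.sum_ite_eq', Finset.mem_univ, if_true, pow_two]
      exact Ideal.mul_mem_mul hx (hfI i)
  obtain ⟨T, hT⟩ := hB.fg_relations fB hfB K hK
  have hcfg : (𝔠.map (algebraMap A B)).FG := by
    refine ⟨(T ×ˢ (Finset.univ : Finset (Fin N))).image (fun p => p.1 p.2), le_antisymm ?_ ?_⟩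
    · refine Submodule.span_le.2 fun x hx => ?_
      simp only [Finset.coe_image, Finset.coe_product, Set.mem_image, Set.mem_prod] at hx
      obtain ⟨⟨b, i⟩, ⟨hb, -⟩, rfl⟩ := hx
      exact hKc b (hT.le (Submodule.subset_span hb)) i
    · refine Ideal.map_le_iff_le_comap.2 (Ideal.span_le.2 ?_)
      rintro _ ⟨b, hb, i, rfl⟩
      have hb' : (fun i => algebraMap A B (b i)) ∈ K := by
        rw [hK, show ∑ i, algebraMap A B (b i) * fB i = algebraMap A B (∑ i, b i * f i) by simp [fB],
          ← Ideal.map_pow]
        exact Ideal.mem_map_of_mem _ hb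
      rw [← hT] at hb'
      refine (Submodule.span_le (p := Submodule.comap (LinearMap.proj (R := B) (φ := fun _ : Fin N => B) i)
        (Ideal.span _))).2 (fun v hv => ?_) hb'
      exact Ideal.subset_span (Finset.mem_image.2 ⟨(v, i), by simp [Finset.mem_coe.1 hv], rfl⟩)
  obtain ⟨m, w, hw⟩ := Submodule.fg_iff_exists_fin_generating_family.1 (fg_of_map_fg hcfg)
  have hcM : ∀ a ∈ 𝔠, algebraMap A M a ∈ I.map (algebraMap A M) := fun a ha => by
    refine (Ideal.span_le (I := (I.map (algebraMap A M)).comap (algebraMap A M))).2 ?_ ha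
    rintro _ ⟨b, hb, i, rfl⟩
    refine hM (fun i => algebraMap A M (b i)) ?_ i
    simp only [← map_mul, ← map_sum]
    rw [← Ideal.map_pow]
    exact Ideal.mem_map_of_mem _ hb
  choose t ht htw using fun l => exists_notMem_mul_mem I (hcM _ (hw.le (Submodule.subset_span ⟨l, rfl⟩)))
  refine ⟨∏ l, t l, fun hm => ?_, fun b hb i => ?_⟩
  · obtain ⟨l, -, hl⟩ := (Ideal.IsPrime.prod_mem_iff).1 hm
    exact ht l hl
  · have h1 : Ideal.span {algebraMap A B (∏ l, t l)} * 𝔠.map (algebraMap A B) ≤ IB := by
      rw [← Set.image_singleton, ← Ideal.map_span, ← Ideal.map_mul]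
      refine Ideal.map_mono (Ideal.mul_le.2 fun x hx a ha => ?_)
      obtain ⟨y, rfl⟩ := Ideal.mem_span_singleton.1 hx
      obtain ⟨e, rfl⟩ := Ideal.mem_span_range_iff_exists_fun.1 (hw.ge ha)
      rw [Finset.mul_sum]
      refine Ideal.sum_mem _ fun l _ => ?_
      rw [← Finset.mul_prod_erase _ _ (Finset.mem_univ l), show t l * _ * y * (e l * w l) =
        ((∏ k ∈ Finset.univ.erase l, t k) * y * e l) * (t l * w l) by ring]
      exact Ideal.mul_mem_left _ _ (htw l)
    exact h1 (Ideal.mul_mem_mul (Ideal.mem_span_singleton_self _) (hKc b ((hK b).2 hb) i))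

/-- Generators independent at a point of a faithfully flat algebra are Koszul regular near the point. -/
theorem exists_exact_nhd [Module.FaithfullyFlat A B] {N : ℕ} {I : Ideal A} (f : Fin N → A)
    (hf : Ideal.span (Set.range f) = I) (hB : LCI.IsKoszulRegularIdeal (I.map (algebraMap A B)))
    {M : Type u} [CommRing M] [IsLocalRing M] [Algebra A M] [Module.Flat A M]
    (hM : Indep (I.map (algebraMap A M)) fun i => algebraMap A M (f i)) :
    ∃ h ∉ (IsLocalRing.maximalIdeal M).comap (algebraMap A M),
      IsExact fun i => algebraMap A (Localization.Away h) (f i) := by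
  classical
  obtain ⟨h, hh, hrel⟩ := exists_indep_nhd f hf (NLAmp.hasLocalBases_of_isKoszulRegularIdeal hB) hM
  refine ⟨h, hh, ?_⟩
  let A' := Localization.Away h
  let B' := Localization.Away (algebraMap A B h)
  let : Algebra A' B' := (Localization.awayMap (algebraMap A B) h).toAlgebra
  have : IsScalarTower A A' B' := .of_algebraMap_eq fun a => by
    show _ = Localization.awayMap (algebraMap A B) h (algebraMap A A' a)
    simp only [Localization.awayMap, IsLocalization.Away.map]
    erw [IsLocalization.map_eq]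
    exact IsScalarTower.algebraMap_apply A B B' a
  have := faithfullyFlat_away (B := B) h A' B'
  refine isExact_of_faithfullyFlat (B := B') _ ?_
  refine SyntLCI.isExact_of_localized _ fun m hm => ?_
  let R := Localization.AtPrime m
  let Q := m.comap (algebraMap B B')
  have : IsLocalization.AtPrime R Q :=
    IsLocalization.isLocalization_isLocalization_atPrime_isLocalization (Submonoid.powers (algebraMap A B h)) R m
  have hhQ : algebraMap A B h ∈ Q.primeCompl := fun hm' =>
    hm.ne_top (Ideal.eq_top_of_isUnit_mem _ hm' (IsLocalization.Away.algebraMap_isUnit _))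
  let IB := I.map (algebraMap A B)
  let IR := IB.map (algebraMap B R)
  let fR : Fin N → R := fun i => algebraMap B R (algebraMap A B (f i))
  have hspanR : Ideal.span (Set.range fR) = IR := by
    simp only [IR, IB, ← hf, Ideal.map_span, ← Set.range_comp]; rfl
  have hex : IsExact fR := by
    by_cases hQ : IB ≤ Q
    · obtain ⟨b, hb, k, g, hg, hgspan⟩ := (isKoszulRegularIdeal_iff _).1 hB Q inferInstance hQ
      let L := Localization.Away b
      have hu : IsUnit (algebraMap B R b) := IsLocalization.map_units R (⟨b, hb⟩ : Q.primeCompl)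
      let : Algebra L R := (IsLocalization.Away.lift b hu).toAlgebra
      have : IsScalarTower B L R := .of_algebraMap_eq fun z => (IsLocalization.Away.lift_eq b hu z).symm
      have : Module.Flat B R := IsLocalization.flat R Q.primeCompl
      have : Module.Flat L R := (Module.flat_iff_of_isLocalization L (Submonoid.powers b) R).2 inferInstance
      refine isExact_of_indep (I := IR) ?_ (isExact_of_flat (B := R) hg) ?_ hspanR ?_
      · refine fun htop => (IsLocalRing.maximalIdeal.isMaximal R).ne_top (top_le_iff.1 (htop ▸ ?_))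
        exact Ideal.map_le_iff_le_comap.2 (hQ.trans (IsLocalization.AtPrime.comap_maximalIdeal R Q).ge)
      · rw [show IR = (IB.map (algebraMap B L)).map (algebraMap L R) by
          rw [Ideal.map_map, ← IsScalarTower.algebraMap_eq], hgspan, Ideal.map_span, ← Set.range_comp]
        rfl
      · intro c hc i
        obtain ⟨⟨s, hs⟩, hint⟩ := IsLocalization.exist_integer_multiples_of_finite Q.primeCompl c
        choose d hd using hint
        have hsum : algebraMap B R (∑ i, d i * algebraMap A B (f i)) ∈ IR ^ 2 := by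
          simp only [map_sum, map_mul, hd, Algebra.smul_def, mul_assoc, ← Finset.mul_sum]
          exact Ideal.mul_mem_left _ _ hc
        rw [← Ideal.map_pow] at hsum
        obtain ⟨t, ht, htd⟩ := (IsLocalization.algebraMap_mem_map_algebraMap_iff Q.primeCompl R _ _).1 hsum
        have h1 := hrel (fun i => t * d i) (by
          simpa only [Finset.mul_sum, mul_assoc] using htd) i
        have h2 : algebraMap B R (algebraMap A B h * (t * d i)) ∈ IR := Ideal.mem_map_of_mem _ h1
        rw [map_mul, map_mul, hd, Algebra.smul_def,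
          Ideal.unit_mul_mem_iff_mem _ (IsLocalization.map_units R (⟨_, hhQ⟩ : Q.primeCompl)),
          Ideal.unit_mul_mem_iff_mem _ (IsLocalization.map_units R (⟨_, ht⟩ : Q.primeCompl)),
          Ideal.unit_mul_mem_iff_mem _ (IsLocalization.map_units R (⟨_, hs⟩ : Q.primeCompl))] at h2
        exact h2
    · obtain ⟨i, hi⟩ : ∃ i, algebraMap A B (f i) ∉ Q := by
        by_contra hall
        push Not at hall
        exact hQ (Ideal.map_le_iff_le_comap.2 (hf ▸ Ideal.span_le.2 (by rintro _ ⟨i, rfl⟩; exact hall i)))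
      exact SyntLCI.isExact_of_isUnit fR i (IsLocalization.map_units R (⟨_, hi⟩ : Q.primeCompl))
  have := isExact_equiv (Algebra.TensorProduct.lid B' R).symm.toRingEquiv hex
  convert this using 1
  funext i
  refine ((Algebra.TensorProduct.lid B' R).symm.commutes (algebraMap A' B' (algebraMap A A' (f i)))).symm.trans ?_
  show (Algebra.TensorProduct.lid B' R).symm _ = (Algebra.TensorProduct.lid B' R).symm (fR i)
  refine congrArg _ ?_
  rw [← IsScalarTower.algebraMap_apply A A' B', IsScalarTower.algebraMap_apply A B B', ← IsScalarTower.algebraMap_apply B B' R]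

/-- Koszul-regularity of ideals descends along faithfully flat algebras. -/
theorem isKoszulRegularIdeal_of_faithfullyFlat [Module.FaithfullyFlat A B] (I : Ideal A)
    (hB : LCI.IsKoszulRegularIdeal (I.map (algebraMap A B))) : LCI.IsKoszulRegularIdeal I := by
  classical
  have hfg : I.FG := fg_of_map_fg (NLAmp.hasLocalBases_of_isKoszulRegularIdeal hB).fg
  rw [isKoszulRegularIdeal_iff]
  intro p hp hIp
  obtain ⟨⟨Q, hQ⟩, hQp⟩ := PrimeSpectrum.comap_surjective_of_faithfullyFlat (A := A) (B := B) ⟨p, hp⟩
  have hQp' : Q.comap (algebraMap A B) = p := PrimeSpectrum.ext_iff.1 hQp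
  have hIQ : I.map (algebraMap A B) ≤ Q := Ideal.map_le_iff_le_comap.2 (hQp'.symm ▸ hIp)
  obtain ⟨M, _, _, _, hMflat, hMQ, h₀, hh₀, N, f, hfI, hgen, hind⟩ :=
    exists_gen_nhd hfg Q ((isKoszulRegularIdeal_iff _).1 hB Q hQ hIQ) hIQ
  rw [hQp'] at hh₀
  let A₁ := Localization.Away h₀
  let B₁ := Localization.Away (algebraMap A B h₀)
  let : Algebra A₁ B₁ := (Localization.awayMap (algebraMap A B) h₀).toAlgebra
  have : IsScalarTower A A₁ B₁ := .of_algebraMap_eq fun a => by
    show _ = Localization.awayMap (algebraMap A B) h₀ (algebraMap A A₁ a)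
    simp only [Localization.awayMap, IsLocalization.Away.map]
    erw [IsLocalization.map_eq]
    exact IsScalarTower.algebraMap_apply A B B₁ a
  have := faithfullyFlat_away (B := B) h₀ A₁ B₁
  let I₁ := I.map (algebraMap A A₁)
  let f₁ : Fin N → A₁ := fun i => algebraMap A A₁ (f i)
  have hf₁ : Ideal.span (Set.range f₁) = I₁ := by
    refine le_antisymm (Ideal.span_le.2 ?_) (Ideal.map_le_iff_le_comap.2 fun a ha => ?_)
    · rintro _ ⟨i, rfl⟩; exact Ideal.mem_map_of_mem _ (hfI i)
    · have := Ideal.mem_map_of_mem (algebraMap A A₁) (hgen a ha)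
      rw [Ideal.map_span, ← Set.range_comp, map_mul,
        Ideal.unit_mul_mem_iff_mem _ (IsLocalization.Away.algebraMap_isUnit h₀)] at this
      exact this
  have hB₁ : LCI.IsKoszulRegularIdeal (I₁.map (algebraMap A₁ B₁)) := by
    rw [Ideal.map_map, ← IsScalarTower.algebraMap_eq, IsScalarTower.algebraMap_eq A B B₁, ← Ideal.map_map]
    exact isKoszulRegularIdeal_map _
      (RingHom.flat_algebraMap_iff.2 (IsLocalization.flat B₁ (Submonoid.powers (algebraMap A B h₀)))) hB
  let : Algebra A M := ((algebraMap B M).comp (algebraMap A B)).toAlgebra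
  have : IsScalarTower A B M := .of_algebraMap_eq fun _ => rfl
  have hu : IsUnit (algebraMap A M h₀) :=
    not_not.1 fun hnu => hh₀ (hQp' ▸ hMQ ▸ (hnu : algebraMap A M h₀ ∈ IsLocalRing.maximalIdeal M))
  let : Algebra A₁ M := (IsLocalization.Away.lift h₀ hu).toAlgebra
  have : IsScalarTower A A₁ M := .of_algebraMap_eq fun z => (IsLocalization.Away.lift_eq h₀ hu z).symm
  have : Module.Flat A M := Module.Flat.trans A B M
  have : Module.Flat A₁ M := (Module.flat_iff_of_isLocalization A₁ (Submonoid.powers h₀) M).2 inferInstance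
  have hind₁ : Indep (I₁.map (algebraMap A₁ M)) fun i => algebraMap A₁ M (f₁ i) := by
    have e1 : I₁.map (algebraMap A₁ M) = (I.map (algebraMap A B)).map (algebraMap B M) := by
      rw [Ideal.map_map, ← IsScalarTower.algebraMap_eq, Ideal.map_map]; rfl
    have e2 : (fun i => algebraMap A₁ M (f₁ i)) = fun i => algebraMap B M (algebraMap A B (f i)) :=
      funext fun i => (IsScalarTower.algebraMap_apply A A₁ M (f i)).symm
    rw [e1, e2]
    exact hind
  obtain ⟨h₁, hh₁, hex⟩ := exists_exact_nhd f₁ hf₁ hB₁ hind₁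
  obtain ⟨k, a, ha⟩ := IsLocalization.Away.surj h₀ h₁
  have hap : a ∉ p := fun hm => by
    refine hh₁ ?_
    have h1 : algebraMap A₁ M (algebraMap A A₁ a) ∈ IsLocalRing.maximalIdeal M := by
      rw [← IsScalarTower.algebraMap_apply]
      exact (Ideal.mem_comap.1 (show a ∈ ((IsLocalRing.maximalIdeal M).comap (algebraMap B M)).comap (algebraMap A B) by
        rw [hMQ, hQp']; exact hm))
    rw [← ha, map_mul, map_pow, ← IsScalarTower.algebraMap_apply A A₁ M h₀] at h1
    exact (Ideal.mul_unit_mem_iff_mem _ (hu.pow k)).1 h1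
  let L := Localization.Away h₁
  have : IsLocalization.Away (algebraMap A A₁ a) L := by
    refine IsLocalization.Away.of_associated (S := L) (r := h₁) ?_
    rw [← ha]
    exact ⟨((IsLocalization.Away.algebraMap_isUnit h₀).pow k).unit, rfl⟩
  have : IsLocalization.Away (h₀ * a) L := IsLocalization.Away.mul' A₁ L h₀ a
  refine KRAt.mk' (h₀ * a) (fun hm => (hp.mem_or_mem hm).elim hh₀ hap) L (fun i => algebraMap A₁ L (f₁ i)) hex ?_
  rw [IsScalarTower.algebraMap_eq A A₁ L, ← Ideal.map_map]
  show I₁.map _ = _
  rw [← hf₁, Ideal.map_span, ← Set.range_comp]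
  rfl

end Groth.Agent.LCIPres
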