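import Groth.Agent.LCIPres.RegQuot
import Groth.Agent.LCIPres.Descent
import Groth.Agent.SyntLCI.KoszulSmooth
import Groth.Agent.PCHom.SmoothSection
import Mathlib

/-!
# The fibrewise criterion for Koszul-regular ideals

For `A → P` flat of finite presentation and a finitely generated ideal `I` with `P ⧸ I` flat over `A`,
`I` is generated by an exact sequence near a prime exactly when this holds in the fibre.
-/

set_option autoImplicit false
set_option linter.style.haveILetI false

noncomputable section

universe u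

open IsLocalRing RingTheory.Sequence TensorProduct

namespace Groth.Agent.LCIPres

open KoszulExt (IsExact)

/-- In a Noetherian local ring `H₁`-regular sequences in the maximal ideal are weakly regular. -/
theorem isWeaklyRegular_reverse_of_isH1Regular {R : Type u} [CommRing R] [IsLocalRing R] [IsNoetherianRing R] :
    ∀ (n : ℕ) (f : Fin n → R), (∀ i, f i ∈ maximalIdeal R) → CAlgX.IsH1Regular f →
      IsWeaklyRegular R (List.ofFn f).reverse := by
  intro n
  induction n with
  | zero => intro f _ _; simp
  | succ n ih =>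
    intro f hm hf
    let f' : Fin n → R := fun i => f i.succ
    let Bd : Submodule R (Fin n → R) :=
      Submodule.span R {v | ∃ i j : Fin n, v = Pi.single i (f' j) - Pi.single j (f' i)}
    have key : ∀ v : Fin (n + 1) → R, ∑ i, v i * f i = 0 → ∃ (w c : Fin n → R), w ∈ Bd ∧
        (∀ j, v j.succ = w j + f 0 * c j) ∧ v 0 = -∑ j, c j * f' j := by
      intro v hv
      refine Submodule.span_induction (p := fun v _ => ∃ (w c : Fin n → R), w ∈ Bd ∧
        (∀ j, v j.succ = w j + f 0 * c j) ∧ v 0 = -∑ j, c j * f' j) ?_ ?_ ?_ ?_ (hf v hv)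
      · rintro _ ⟨i, j, rfl⟩
        induction i using Fin.cases with
        | zero =>
          induction j using Fin.cases with
          | zero => exact ⟨0, 0, zero_mem _, fun k => by simp, by simp⟩
          | succ j =>
            refine ⟨0, Pi.single j (-1), zero_mem _, fun k => ?_, ?_⟩
            · rcases eq_or_ne k j with rfl | hne
              · simp [(Fin.succ_ne_zero k)]
              · simp [hne, Fin.succ_ne_zero]
            · simp [Pi.single_apply, f', (Fin.succ_ne_zero j).symm, ite_mul]
        | succ i =>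
          induction j using Fin.cases with
          | zero =>
            refine ⟨0, Pi.single i 1, zero_mem _, fun k => ?_, ?_⟩
            · rcases eq_or_ne k i with rfl | hne
              · simp [(Fin.succ_ne_zero k)]
              · simp [hne, Fin.succ_ne_zero]
            · simp [Pi.single_apply, f', (Fin.succ_ne_zero i).symm, ite_mul]
          | succ j =>
            refine ⟨Pi.single i (f' j) - Pi.single j (f' i), 0, Submodule.subset_span ⟨i, j, rfl⟩, fun k => ?_, ?_⟩
            · simp [Pi.single_apply, f']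
            · simp [Pi.single_apply, (Fin.succ_ne_zero i).symm, (Fin.succ_ne_zero j).symm]
      · exact ⟨0, 0, zero_mem _, fun k => by simp, by simp⟩
      · rintro x y - - ⟨w, c, hw, h1, h2⟩ ⟨w', c', hw', h1', h2'⟩
        refine ⟨w + w', c + c', add_mem hw hw', fun k => ?_, ?_⟩
        · simp only [Pi.add_apply, h1, h1']; ring
        · simp only [Pi.add_apply, h2, h2', add_mul, Finset.sum_add_distrib]; ring
      · rintro r x - ⟨w, c, hw, h1, h2⟩
        refine ⟨r • w, r • c, Submodule.smul_mem _ _ hw, fun k => ?_, ?_⟩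
        · simp only [Pi.smul_apply, smul_eq_mul, h1]; ring
        · simp only [Pi.smul_apply, smul_eq_mul, h2, mul_assoc, ← Finset.mul_sum]; ring
    have hH : CAlgX.IsH1Regular f' := by
      let Z : Submodule R (Fin n → R) :=
        { carrier := {a | ∑ i, a i * f' i = 0}
          add_mem' := fun {a b} ha hb => by
            simp only [Set.mem_ofPred_eq, Pi.add_apply, add_mul, Finset.sum_add_distrib] at *
            rw [ha, hb, add_zero]
          zero_mem' := by simp
          smul_mem' := fun r a ha => by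
            simp only [Set.mem_ofPred_eq, Pi.smul_apply, smul_eq_mul, mul_assoc, ← Finset.mul_sum] at *
            rw [ha, mul_zero] }
      have hle : Z ≤ Bd ⊔ maximalIdeal R • Z := by
        intro a ha
        have h0 : ∑ i, (Fin.cons 0 a : Fin (n + 1) → R) i * f i = 0 := by
          rw [Fin.sum_univ_succ]
          simp only [Fin.cons_zero, zero_mul, zero_add, Fin.cons_succ]
          exact ha
        obtain ⟨w, c, hw, h1, h2⟩ := key _ h0
        simp only [Fin.cons_zero, eq_comm (a := (0 : R)), neg_eq_zero] at h2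
        have : a = w + f 0 • c := funext fun j => by simpa using h1 j
        rw [this]
        exact Submodule.add_mem_sup hw (Submodule.smul_mem_smul (hm 0) h2)
      intro a ha
      exact Submodule.le_of_le_smul_of_le_jacobson_bot (IsNoetherian.noetherian Z)
        (maximalIdeal_le_jacobson ⊥) hle ha
    rw [List.ofFn_succ, List.reverse_cons, isWeaklyRegular_append_iff, isWeaklyRegular_singleton_iff]
    refine ⟨ih f' (fun i => hm i.succ) hH, ?_⟩
    have hI : Ideal.ofList (List.ofFn f').reverse = Ideal.span (Set.range f') := by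
      refine congrArg Ideal.span ?_
      ext z
      simp [List.mem_ofFn]
    refine IsSMulRegular.of_right_eq_zero_of_smul fun x => Submodule.Quotient.induction_on _ x fun r hr => ?_
    rw [← Submodule.Quotient.mk_smul, Submodule.Quotient.mk_eq_zero, smul_eq_mul, smul_eq_mul, Ideal.mul_top,
      hI] at hr
    rw [Submodule.Quotient.mk_eq_zero, smul_eq_mul, Ideal.mul_top, hI]
    obtain ⟨v, hv⟩ := Ideal.mem_span_range_iff_exists_fun.1 hr
    obtain ⟨w, c, -, -, h2⟩ := key (Fin.cons r fun j => -v j) (by
      rw [Fin.sum_univ_succ]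
      simp only [Fin.cons_zero, Fin.cons_succ, neg_mul, Finset.sum_neg_distrib]
      rw [hv, mul_comm r, add_neg_cancel])
    rw [Fin.cons_zero] at h2
    rw [h2]
    exact neg_mem (Ideal.sum_mem _ fun j _ => Ideal.mul_mem_left _ _ (Ideal.subset_span ⟨j, rfl⟩))

theorem h1Regular_reindex {R : Type u} [CommRing R] {n : ℕ} (σ : Fin n ≃ Fin n) {f : Fin n → R}
    (hf : CAlgX.IsH1Regular f) : CAlgX.IsH1Regular fun i => f (σ i) := by
  intro a ha
  let L : (Fin n → R) →ₗ[R] (Fin n → R) := LinearMap.funLeft R R σ
  have h1 : (fun i => a (σ.symm i)) ∈ Submodule.span R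
      {v : Fin n → R | ∃ i j : Fin n, v = Pi.single i (f j) - Pi.single j (f i)} := hf _ (by
    rw [← ha, ← Equiv.sum_comp σ]
    simp)
  have h2 := Submodule.mem_map_of_mem (f := L) h1
  rw [show L (fun i => a (σ.symm i)) = a from funext fun i => by simp [L, LinearMap.funLeft]] at h2
  refine Submodule.map_span_le L _ _ |>.2 ?_ h2
  rintro _ ⟨i, j, rfl⟩
  refine Submodule.subset_span ⟨σ.symm i, σ.symm j, funext fun k => ?_⟩
  simp [L, LinearMap.funLeft, Pi.single_apply, Equiv.eq_symm_apply]

theorem isWeaklyRegular_of_isH1Regular {R : Type u} [CommRing R] [IsLocalRing R] [IsNoetherianRing R] {n : ℕ}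
    {f : Fin n → R} (hm : ∀ i, f i ∈ maximalIdeal R) (hf : CAlgX.IsH1Regular f) :
    IsWeaklyRegular R (List.ofFn f) := by
  have h := isWeaklyRegular_reverse_of_isH1Regular n (fun i => f (Fin.revPerm i)) (fun i => hm _)
    (h1Regular_reindex Fin.revPerm hf)
  have h1 : (List.ofFn fun i => f (Fin.revPerm i)).reverse = List.ofFn f := by
    refine List.ext_getElem (by simp) fun j h1 h2 => ?_
    simp only [List.getElem_reverse, List.getElem_ofFn, List.length_ofFn]
    congr 1
    ext
    simp only [Fin.revPerm_apply, Fin.val_rev]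
    simp only [List.length_ofFn] at h2
    omega
  rwa [h1] at h

theorem map_mem_koszulRel {R S : Type u} [CommRing R] [CommRing S] (ψ : R →+* S) {r : ℕ} (y : Fin r → R)
    {w : Fin r → R}
    (hw : w ∈ Submodule.span R {v : Fin r → R | ∃ i j : Fin r, v = Pi.single i (y j) - Pi.single j (y i)}) :
    (fun i => ψ (w i)) ∈
      Submodule.span S {v : Fin r → S | ∃ i j : Fin r, v = Pi.single i (ψ (y j)) - Pi.single j (ψ (y i))} := by
  induction hw using Submodule.span_induction with
  | mem x hx =>
    obtain ⟨i, j, rfl⟩ := hx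
    refine Submodule.subset_span ⟨i, j, funext fun k => ?_⟩
    simp only [Pi.sub_apply, Pi.single_apply, map_sub, apply_ite ψ, map_zero]
  | zero =>
    have h : (fun i => ψ ((0 : Fin r → R) i)) = (0 : Fin r → S) := funext fun i => map_zero ψ
    rw [h]
    exact Submodule.zero_mem _
  | add x z _ _ hx hz =>
    have h : (fun i => ψ ((x + z) i)) = (fun i => ψ (x i)) + (fun i => ψ (z i)) := funext fun i => map_add ψ _ _
    rw [h]
    exact Submodule.add_mem _ hx hz
  | smul t x _ hx =>
    have h : (fun i => ψ ((t • x) i)) = ψ t • (fun i => ψ (x i)) := funext fun i => map_mul ψ _ _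
    rw [h]
    exact Submodule.smul_mem _ (ψ t) hx

section Local

variable {P : Type u} [CommRing P]

/-- Exact data near `q` give exact generators in the local ring. -/
theorem exists_exact_of_krAt {I : Ideal P} (q : Ideal P) [q.IsPrime] (h : KRAt I q) :
    ∃ (r : ℕ) (y : Fin r → Localization.AtPrime q), KoszulExt.IsExact y ∧
      Ideal.span (Set.range y) = I.map (algebraMap P (Localization.AtPrime q)) := by
  obtain ⟨h', hh', r, g, hg, hspan⟩ := h
  let L := Localization.Away h'
  let Lq := Localization.AtPrime q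
  have hu : IsUnit (algebraMap P Lq h') := IsLocalization.map_units Lq (⟨h', hh'⟩ : q.primeCompl)
  let φ : L →+* Lq := IsLocalization.Away.lift h' hu
  letI : Algebra L Lq := φ.toAlgebra
  haveI : IsScalarTower P L Lq := .of_algebraMap_eq fun z => (IsLocalization.Away.lift_eq h' hu z).symm
  haveI : Module.Flat P Lq := IsLocalization.flat Lq q.primeCompl
  haveI : Module.Flat L Lq := (Module.flat_iff_of_isLocalization L (Submonoid.powers h') Lq).2 inferInstance
  refine ⟨r, fun i => algebraMap L Lq (g i), isExact_of_flat hg, ?_⟩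
  rw [IsScalarTower.algebraMap_eq P L Lq, ← Ideal.map_map, hspan, Ideal.map_span, ← Set.range_comp]
  rfl

/-- In a Noetherian ring, exact generators in the local ring give exact data near the point. -/
theorem krAt_of_isWeaklyRegular [IsNoetherianRing P] {I : Ideal P} (q : Ideal P) [q.IsPrime] {r : ℕ}
    (y : Fin r → Localization.AtPrime q) (hy : IsWeaklyRegular (Localization.AtPrime q) (List.ofFn y))
    (hspan : Ideal.span (Set.range y) = I.map (algebraMap P (Localization.AtPrime q))) : KRAt I q := by
  obtain ⟨G, hG, l, hl, hIl⟩ := exists_away_of_atPrime q (List.ofFn y) (by rw [← hspan, NLAmp.ofList_ofFn]) hy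
  refine ⟨G, hG, l.length, l.get, (KoszulExt.isExact_iff _).2 (by rwa [List.ofFn_get]), ?_⟩
  rw [hIl, ← setOf_mem_ofFn, List.ofFn_get]

end Local

/-- Flat local maps descend `KRAt` between Noetherian rings. -/
theorem krAt_comap {R R' : Type u} [CommRing R] [CommRing R'] [IsNoetherianRing R] [Algebra R R'] [Module.Flat R R']
    {I : Ideal R} (Q : Ideal R') [Q.IsPrime] (hIQ : I.map (algebraMap R R') ≤ Q)
    (h : KRAt (I.map (algebraMap R R')) Q) : KRAt I (Q.comap (algebraMap R R')) := by
  set q := Q.comap (algebraMap R R') with hq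
  haveI : Q.LiesOver q := ⟨hq⟩
  let F := Localization.AtPrime q
  let F' := Localization.AtPrime Q
  let φ : F →+* F' := Localization.localRingHom q Q (algebraMap R R') hq
  letI : Algebra F F' := φ.toAlgebra
  haveI : IsLocalHom (algebraMap F F') := Localization.isLocalHom_localRingHom _ _ _ _
  haveI : Module.Flat F F' := RingHom.Flat.localRingHom (RingHom.flat_algebraMap_iff.2 inferInstance) Q q hq
  haveI : Module.FaithfullyFlat F F' := Module.FaithfullyFlat.of_flat_of_isLocalHom
  obtain ⟨r, y, hy, hspan⟩ := exists_exact_of_krAt Q h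
  have hcomm : (algebraMap F F').comp (algebraMap R F) = (algebraMap R' F').comp (algebraMap R R') :=
    RingHom.ext fun x => Localization.localRingHom_to_map _ _ _ hq x
  have hKR' : LCI.IsKoszulRegularIdeal ((I.map (algebraMap R F)).map (algebraMap F F')) := by
    rw [Ideal.map_map, hcomm, ← Ideal.map_map, ← hspan, isKoszulRegularIdeal_iff]
    intro p hp hle
    haveI : Module.Flat F' (Localization.Away (1 : F')) := IsLocalization.flat _ (Submonoid.powers 1)
    refine ⟨1, fun h => hp.ne_top ((Ideal.eq_top_iff_one _).2 h), r, fun i => algebraMap _ _ (y i),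
      isExact_of_flat hy, ?_⟩
    rw [Ideal.map_span, ← Set.range_comp]
    rfl
  have hKR := isKoszulRegularIdeal_of_faithfullyFlat (I.map (algebraMap R F)) hKR'
  have hle : I.map (algebraMap R F) ≤ maximalIdeal F := by
    refine Ideal.map_le_iff_le_comap.2 fun a ha => ?_
    rw [Ideal.mem_comap, IsLocalization.AtPrime.to_map_mem_maximal_iff F q]
    exact hIQ (Ideal.mem_map_of_mem _ ha)
  obtain ⟨N, z, hz, hzspan⟩ := exists_exact_atPrime hKR (maximalIdeal F) hle
  let e : Localization.AtPrime (maximalIdeal F) ≃ₐ[F] F :=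
    (IsLocalization.atUnits F (maximalIdeal F).primeCompl (S := Localization.AtPrime (maximalIdeal F))
      (fun x hx => show IsUnit x from not_not.1 fun hu => hx hu)).symm
  have hw : KoszulExt.IsExact fun i => e.toRingEquiv (z i) := isExact_equiv _ hz
  have hwspan : Ideal.span (Set.range fun i => e.toRingEquiv (z i)) = I.map (algebraMap R F) := by
    have := congrArg (Ideal.map e.toRingEquiv.toRingHom) hzspan
    rw [Ideal.map_span, ← Set.range_comp, Ideal.map_map] at this
    rw [show e.toRingEquiv.toRingHom.comp (algebraMap F _) = RingHom.id F from RingHom.ext e.commutes,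
      Ideal.map_id] at this
    exact this
  refine krAt_of_isWeaklyRegular q _ (isWeaklyRegular_of_isExact (fun i => ?_) hw) hwspan
  exact hle (hwspan.le (Ideal.subset_span ⟨i, rfl⟩))

/-- Flat maps extend `KRAt`. -/
theorem krAt_map {R R' : Type u} [CommRing R] [CommRing R'] [Algebra R R'] [Module.Flat R R'] {I : Ideal R}
    (Q : Ideal R') (h : KRAt I (Q.comap (algebraMap R R'))) : KRAt (I.map (algebraMap R R')) Q := by
  obtain ⟨h', hh', n, g, hg, hspan⟩ := h
  let L := Localization.Away h'
  let L' := Localization.Away (algebraMap R R' h')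
  let ψ : L →+* L' := Localization.awayMap (algebraMap R R') h'
  letI : Algebra L L' := ψ.toAlgebra
  have hψ : ∀ z, ψ (algebraMap R L z) = algebraMap R' L' (algebraMap R R' z) := IsLocalization.map_eq _
  haveI : IsScalarTower R L L' := .of_algebraMap_eq fun z => by
    rw [IsScalarTower.algebraMap_apply R R' L']; exact (hψ z).symm
  haveI : Module.Flat R' L' := IsLocalization.flat L' (Submonoid.powers (algebraMap R R' h'))
  haveI : Module.Flat R L' := Module.Flat.trans R R' L'
  haveI : Module.Flat L L' := (Module.flat_iff_of_isLocalization L (Submonoid.powers h') L').2 inferInstance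
  refine ⟨_, hh', n, fun i => algebraMap L L' (g i), isExact_of_flat hg, ?_⟩
  rw [Ideal.map_map, ← IsScalarTower.algebraMap_eq, IsScalarTower.algebraMap_eq R L L', ← Ideal.map_map,
    hspan, Ideal.map_span, ← Set.range_comp]
  rfl

section Abstract

variable {S F : Type u} [CommRing S] [CommRing F] [IsLocalRing S] [IsLocalRing F] (ψ : S →+* F)
  (hψs : Function.Surjective ψ) {pS J : Ideal S} (hψk : RingHom.ker ψ = pS) (hJm : J ≤ maximalIdeal S)
  (hinter : J ⊓ pS ≤ pS * J)

include hψs hψk hJm hinter

theorem map_regular_of_exact [IsNoetherianRing F] {r : ℕ} {y : Fin r → S} (hy : KoszulExt.IsExact y)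
    (hspan : Ideal.span (Set.range y) = J) : IsWeaklyRegular F (List.ofFn fun i => ψ (y i)) := by
  haveI : IsLocalHom ψ := IsLocalHom.of_surjective (R := S) (S := F) ψ hψs
  refine isWeaklyRegular_of_isH1Regular
    (fun i h => hJm (hspan.le (Ideal.subset_span ⟨i, rfl⟩)) (IsLocalHom.map_nonunit _ h)) ?_
  intro v hv
  choose a ha using fun i => hψs (v i)
  simp only [← ha, ← map_mul, ← map_sum] at hv
  have hz : ∑ i, a i * y i ∈ pS * J := hinter
    ⟨hspan.le (Ideal.sum_mem _ fun i _ => Ideal.mul_mem_left _ _ (Ideal.subset_span ⟨i, rfl⟩)), hψk ▸ hv⟩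
  rw [← hspan] at hz
  obtain ⟨c, hc, hsum⟩ := (Submodule.mem_ideal_smul_span_iff_exists_sum _ y _).1 hz
  rw [Finsupp.sum_fintype _ _ (fun _ => by simp)] at hsum
  simp only [smul_eq_mul] at hsum
  have hrel := SyntLCI.isH1Regular_of_isExact hy (fun i => a i - c i) (by
    simp only [sub_mul, Finset.sum_sub_distrib, hsum, sub_self])
  have hv' : v = fun i => ψ (a i - c i) := funext fun i => by
    rw [map_sub, (hψk.ge (hc i) : ψ (c i) = 0), sub_zero, ha]
  rw [hv']
  exact map_mem_koszulRel ψ y hrel

theorem exists_lift_gens (hJ : J.FG) (hpm : pS ≤ maximalIdeal S) {r : ℕ} (yb : Fin r → F)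
    (hspan : Ideal.span (Set.range yb) = J.map ψ) :
    ∃ y : Fin r → S, (∀ i, ψ (y i) = yb i) ∧ Ideal.span (Set.range y) = J := by
  choose y hyJ hy using fun i => (Ideal.mem_map_iff_of_surjective ψ hψs).1
    (hspan.le (Ideal.subset_span ⟨i, rfl⟩) : yb i ∈ J.map ψ)
  refine ⟨y, hy, le_antisymm (Ideal.span_le.2 (Set.range_subset_iff.2 hyJ)) ?_⟩
  refine Submodule.le_of_le_smul_of_le_jacobson_bot hJ
    (hpm.trans (maximalIdeal_le_jacobson ⊥)) fun x hx => ?_
  obtain ⟨c, hc⟩ := Ideal.mem_span_range_iff_exists_fun.1 (hspan.ge (Ideal.mem_map_of_mem ψ hx))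
  choose a ha using fun i => hψs (c i)
  simp only [← ha, ← hy, ← map_mul, ← map_sum] at hc
  have hmem : x - ∑ i, a i * y i ∈ pS * J := hinter
    ⟨sub_mem hx (Ideal.sum_mem _ fun i _ => Ideal.mul_mem_left _ _ (hyJ i)),
      by rw [SetLike.mem_coe, ← hψk, RingHom.mem_ker, map_sub, hc, sub_self]⟩
  rw [← add_sub_cancel (∑ i, a i * y i) x]
  exact Submodule.add_mem_sup
    (Ideal.sum_mem _ fun i _ => Ideal.mul_mem_left _ _ (Ideal.subset_span ⟨i, rfl⟩)) hmem

end Abstract

section Fibre

variable {A P : Type u} [CommRing A] [CommRing P] [Algebra A P]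

/-- The map from the local ring to the local ring of the fibre. -/
theorem exists_localFibre (q : Ideal P) [q.IsPrime] (qb : Ideal ((q.comap (algebraMap A P)).Fiber P)) [qb.IsPrime]
    (hqb : qb.comap (Algebra.TensorProduct.includeRight : P →ₐ[A] _).toRingHom = q) :
    ∃ ψ : Localization.AtPrime q →+* Localization.AtPrime qb, Function.Surjective ψ ∧
      RingHom.ker ψ = (q.comap (algebraMap A P)).map (algebraMap A (Localization.AtPrime q)) ∧
      ψ.comp (algebraMap P (Localization.AtPrime q)) =
        (algebraMap ((q.comap (algebraMap A P)).Fiber P) (Localization.AtPrime qb)).comp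
          (Algebra.TensorProduct.includeRight : P →ₐ[A] (q.comap (algebraMap A P)).Fiber P).toRingHom := by
  set p := q.comap (algebraMap A P)
  let ι : P →ₐ[A] p.Fiber P := Algebra.TensorProduct.includeRight
  let S := Localization.AtPrime q
  let F := Localization.AtPrime qb
  let ψ : S →+* F := Localization.localRingHom q qb ι.toRingHom hqb.symm
  have hψ : ∀ x, ψ (algebraMap P S x) = algebraMap _ F (ι x) := fun x => Localization.localRingHom_to_map _ _ _ _ x
  have hone : ∀ (r : A) (x : p.Fiber P) (s : P), r • x = 1 ⊗ₜ[A] s → algebraMap A _ r * x = ι s :=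
    fun r x s h => by rw [← Algebra.smul_def, h]; rfl
  have hunit : ∀ r : A, r ∉ p → IsUnit (algebraMap A S r) := fun r hr => by
    rw [IsScalarTower.algebraMap_apply A P S]
    exact IsLocalization.map_units S (⟨algebraMap A P r, hr⟩ : q.primeCompl)
  have hψA : ∀ r : A, ψ (algebraMap A S r) = algebraMap _ F (algebraMap A (p.Fiber P) r) := fun r => by
    rw [IsScalarTower.algebraMap_apply A P S, hψ, ι.commutes]
  refine ⟨ψ, fun z => ?_, ?_, RingHom.ext hψ⟩
  · obtain ⟨x, t, rfl⟩ := IsLocalization.exists_mk'_eq qb.primeCompl z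
    obtain ⟨r, hr, s, hs⟩ := Ideal.Fiber.exists_smul_eq_one_tmul p x
    obtain ⟨r', hr', s', hs'⟩ := Ideal.Fiber.exists_smul_eq_one_tmul p (t : p.Fiber P)
    have hs'q : s' ∉ q := fun h => by
      have h1 : ι s' ∈ qb := by
        rw [← hqb] at h; exact h
      rw [← hone _ _ _ hs'] at h1
      rcases Ideal.IsPrime.mem_or_mem ‹_› h1 with h2 | h2
      · rw [← ι.commutes r'] at h2
        exact hr' (show algebraMap A P r' ∈ q by rw [← hqb]; exact h2)
      · exact t.2 h2
    obtain ⟨u, hu⟩ := hunit r hr
    obtain ⟨w, hw⟩ := IsLocalization.map_units S (⟨s', hs'q⟩ : q.primeCompl)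
    refine ⟨↑u⁻¹ * algebraMap P S s * ↑w⁻¹ * algebraMap A S r', ?_⟩
    apply ((hunit r hr).map ψ).mul_left_cancel
    apply ((IsLocalization.map_units S (⟨s', hs'q⟩ : q.primeCompl)).map ψ).mul_left_cancel
    rw [← map_mul, ← map_mul]
    have e1 : algebraMap P S s' * (algebraMap A S r * (↑u⁻¹ * algebraMap P S s * ↑w⁻¹ * algebraMap A S r')) =
        algebraMap P S s * algebraMap A S r' := by
      rw [← hu]
      change algebraMap P S s' * _ = _
      rw [show algebraMap P S s' = ↑w from hw.symm]
      calc _ = (↑w * ↑w⁻¹) * (↑u * ↑u⁻¹) * (algebraMap P S s * algebraMap A S r') := by ring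
        _ = _ := by rw [Units.mul_inv, Units.mul_inv, one_mul, one_mul]
    rw [e1, map_mul, hψ, hψA, hψ, hψA, ← hone _ _ _ hs, ← hone _ _ _ hs', map_mul, map_mul]
    have h3 : IsLocalization.mk' F x t * algebraMap (p.Fiber P) F t = algebraMap (p.Fiber P) F x :=
      IsLocalization.mk'_spec F x t
    rw [← h3]
    ring
  · refine le_antisymm (fun z hz => ?_) (Ideal.map_le_iff_le_comap.2 fun r hr => ?_)
    · obtain ⟨a, t, rfl⟩ := IsLocalization.exists_mk'_eq q.primeCompl z
      have h0 : algebraMap _ F (ι a) = 0 := by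
        rw [← hψ, ← IsLocalization.mk'_spec S a t, map_mul, RingHom.mem_ker.1 hz, zero_mul]
      obtain ⟨⟨τ, hτ⟩, hτa⟩ := (IsLocalization.map_eq_zero_iff qb.primeCompl _ _).1 h0
      obtain ⟨r, hr, s, hs⟩ := Ideal.Fiber.exists_smul_eq_one_tmul p τ
      have hsq : s ∉ q := fun h => by
        have h1 : ι s ∈ qb := by
          rw [← hqb] at h; exact h
        rw [← hone _ _ _ hs] at h1
        rcases Ideal.IsPrime.mem_or_mem ‹_› h1 with h2 | h2
        · rw [← ι.commutes r] at h2
          exact hr (show algebraMap A P r ∈ q by rw [← hqb]; exact h2)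
        · exact hτ h2
      have h1 : ι (s * a) = 0 := by
        rw [map_mul, ← hone _ _ _ hs, mul_assoc]
        exact mul_eq_zero_of_right _ hτa
      letI : Algebra P (p.Fiber P) := Algebra.TensorProduct.rightAlgebra
      let e := Ideal.Fiber.algEquivAux₁ (R := A) (S := P) p
      have h2 : e (algebraMap P (p.Fiber P) (s * a)) = 0 := by
        rw [show algebraMap P (p.Fiber P) (s * a) = ι (s * a) from rfl, h1, map_zero]
      rw [e.commutes, ← Ideal.Quotient.mk_algebraMap, Ideal.Quotient.eq_zero_iff_mem,
        IsLocalization.algebraMap_mem_map_algebraMap_iff (Algebra.algebraMapSubmonoid P p.primeCompl)] at h2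
      obtain ⟨_, ⟨r', hr', rfl⟩, hmem⟩ := h2
      have hu : IsUnit (algebraMap P S (algebraMap A P r' * s)) :=
        IsLocalization.map_units S (⟨_, fun hh => ((Ideal.IsPrime.mem_or_mem ‹_› hh).elim hr' hsq)⟩ : q.primeCompl)
      rw [← IsScalarTower.algebraMap_eq A P S |> fun h => (show ((p.map (algebraMap A P)).map (algebraMap P S)) =
        p.map (algebraMap A S) by rw [Ideal.map_map, h]), IsLocalization.mk'_mem_iff,
        ← Ideal.unit_mul_mem_iff_mem _ hu, ← map_mul, mul_assoc]
      exact Ideal.mem_map_of_mem _ hmem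
    · rw [Ideal.mem_comap, RingHom.mem_ker, hψA, show algebraMap A (p.Fiber P) r = algebraMap A p.ResidueField r ⊗ₜ[A] (1 : P) from rfl,
        Ideal.algebraMap_residueField_eq_zero.2 hr, TensorProduct.zero_tmul, map_zero]

variable [Algebra.FinitePresentation A P] [Module.Flat A P]

theorem krAt_iff_aux {Q : Type u} [CommRing Q] [IsNoetherianRing Q] (ι : P →+* Q) (I : Ideal P) (hI : I.FG)
    [Module.Flat A (P ⧸ I)] (q : Ideal P) [q.IsPrime] (hIq : I ≤ q) (qb : Ideal Q) [qb.IsPrime]
    (ψ : Localization.AtPrime q →+* Localization.AtPrime qb) (hψs : Function.Surjective ψ)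
    (hψk : RingHom.ker ψ = (q.comap (algebraMap A P)).map (algebraMap A (Localization.AtPrime q)))
    (hψc : ψ.comp (algebraMap P (Localization.AtPrime q)) = (algebraMap Q (Localization.AtPrime qb)).comp ι) :
    KRAt I q ↔ KRAt (I.map ι) qb := by
  classical
  set p := q.comap (algebraMap A P)
  let S := Localization.AtPrime q
  let F := Localization.AtPrime qb
  haveI : IsNoetherianRing F := IsLocalization.isNoetherianRing qb.primeCompl F inferInstance
  have hJF : (I.map (algebraMap P S)).map ψ = (I.map ι).map (algebraMap Q F) := by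
    rw [Ideal.map_map, hψc, ← Ideal.map_map]
  have hJm : I.map (algebraMap P S) ≤ maximalIdeal S := Ideal.map_le_iff_le_comap.2 fun a ha => by
    rw [Ideal.mem_comap, IsLocalization.AtPrime.to_map_mem_maximal_iff S q a]
    exact hIq ha
  have hpm : p.map (algebraMap A S) ≤ maximalIdeal S := Ideal.map_le_iff_le_comap.2 fun a ha => by
    rw [Ideal.mem_comap, IsScalarTower.algebraMap_apply A P S, IsLocalization.AtPrime.to_map_mem_maximal_iff S q]
    exact ha
  obtain ⟨pS, hpS⟩ : ∃ pS : Ideal S, pS = p.map (algebraMap A S) := ⟨_, rfl⟩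
  obtain ⟨J, hJ⟩ : ∃ J : Ideal S, J = I.map (algebraMap P S) := ⟨_, rfl⟩
  have hinter : J ⊓ pS ≤ pS * J := by
    rw [hJ, hpS]; exact NLAmp.inter_le_mul_localization (P := P) q (I := I) p
  replace hψk : RingHom.ker ψ = pS := hψk.trans hpS.symm
  replace hpm : pS ≤ maximalIdeal S := hpS ▸ hpm
  replace hJm : J ≤ maximalIdeal S := hJ ▸ hJm
  replace hJF : J.map ψ = _ := (congrArg (Ideal.map ψ) hJ).trans hJF
  constructor
  · intro h
    obtain ⟨r, y, hy, hspan⟩ := exists_exact_of_krAt q h
    replace hspan : Ideal.span (Set.range y) = J := hspan.trans hJ.symm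
    have hspan' : Ideal.span (Set.range fun i => ψ (y i)) = J.map ψ :=
      ((congrArg Ideal.span (Set.range_comp ψ y)).trans
        ((Ideal.map_span ψ (Set.range y)).symm.trans (congrArg (Ideal.map ψ) hspan)))
    exact krAt_of_isWeaklyRegular qb _ (map_regular_of_exact ψ hψs hψk hJm hinter hy hspan) (hspan'.trans hJF)
  · intro h
    obtain ⟨r, yb, hyb, hspan⟩ := exists_exact_of_krAt qb h
    obtain ⟨y, hy, hyspan⟩ := exists_lift_gens ψ hψs hψk hJm hinter (hJ ▸ hI.map _) hpm yb (hspan.trans hJF.symm)
    have hFm : J ≤ (maximalIdeal F).comap ψ := fun x hx h => by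
      haveI : IsLocalHom ψ := IsLocalHom.of_surjective (R := S) (S := F) ψ hψs
      exact hJm hx (IsLocalHom.map_nonunit _ h)
    have hreg : IsWeaklyRegular F (List.ofFn fun i => ψ (y i)) := by
      simp only [hy]
      exact isWeaklyRegular_of_isExact
        (fun i => (hy i) ▸ hFm (hyspan.le (Ideal.subset_span ⟨i, rfl⟩))) hyb
    let e : (S ⧸ p.map (algebraMap A S)) ≃+* F :=
      (Ideal.quotEquivOfEq (hpS.symm.trans hψk.symm)).trans (RingHom.quotientKerEquivOfSurjective hψs)
    have hreg' : IsWeaklyRegular (S ⧸ p.map (algebraMap A S))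
        (List.ofFn fun i => Ideal.Quotient.mk (p.map (algebraMap A S)) (y i)) := by
      refine (e.toAddEquiv.isWeaklyRegular_congr
        (as := List.ofFn fun i => Ideal.Quotient.mk (p.map (algebraMap A S)) (y i))
        (bs := List.ofFn fun i => ψ (y i)) ?_).2 hreg
      refine List.forall₂_iff_get.2 ⟨by simp, fun j h1 h2 x => ?_⟩
      simp only [List.get_eq_getElem, List.getElem_ofFn, smul_eq_mul]
      exact map_mul e _ _
    obtain ⟨g, hg, a, -, hw, hIg⟩ := PCHom.exists_koszulRegular_nhd_gen I hI q y (hyspan.trans hJ) hreg'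
    rw [List.map_ofFn] at hw hIg
    refine ⟨g, hg, r, _, (KoszulExt.isExact_iff _).2 (KoszulExt.isKoszulRegularSeq_of_isWeaklyRegular hw), ?_⟩
    rw [hIg, NLAmp.ofList_ofFn]

theorem krAt_fibre_iff (I : Ideal P) (hI : I.FG) [Module.Flat A (P ⧸ I)] (q : Ideal P) [q.IsPrime] (hIq : I ≤ q)
    (qb : Ideal ((q.comap (algebraMap A P)).Fiber P)) [qb.IsPrime]
    (hqb : qb.comap (Algebra.TensorProduct.includeRight : P →ₐ[A] _).toRingHom = q) :
    KRAt I q ↔ KRAt (I.map (Algebra.TensorProduct.includeRight : P →ₐ[A] _).toRingHom) qb := by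
  haveI : IsNoetherianRing ((q.comap (algebraMap A P)).Fiber P) :=
    Algebra.FiniteType.isNoetherianRing (q.comap (algebraMap A P)).ResidueField ((q.comap (algebraMap A P)).Fiber P)
  obtain ⟨ψ, hψs, hψk, hψc⟩ := exists_localFibre q qb hqb
  exact krAt_iff_aux _ I hI q hIq qb ψ hψs hψk hψc

end Fibre

end Groth.Agent.LCIPres
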