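import Groth.Agent.LCIPres.Smooth
import Groth.Prelude.Def_RegImm
import Mathlib

/-!
# Morphisms Koszul at a point are those which are LCI on some affine pair
-/

set_option autoImplicit false
set_option linter.style.haveILetI false

universe u

open CategoryTheory AlgebraicGeometry TopologicalSpace

namespace Groth.Agent.LCIPres

variable {X S : Scheme.{u}}

/-- `f` is LCI on an affine pair around `x`. -/
def LCIAt (f : X ⟶ S) (x : X) : Prop :=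
  ∃ (U : X.Opens) (V : S.Opens) (e : U ≤ f ⁻¹ᵁ V), IsAffineOpen U ∧ IsAffineOpen V ∧ x ∈ U ∧
    (letI := (f.appLE V U e).hom.toAlgebra
     LCI.IsLCI Γ(S, V) Γ(X, U))

theorem lciAt_of_isKoszulAt {f : X ⟶ S} {x : X} (h : Synt.IsKoszulAt f x) : LCIAt f x := by
  obtain ⟨U, P, i, π, hxU, -, ⟨_, hreg⟩, hπ, hfac⟩ := h
  haveI := hπ
  obtain ⟨⟨W, hW⟩, hiW, hci, rs, hrs, hker⟩ := hreg ⟨x, hxU⟩
  obtain ⟨V, hV, hxV, -⟩ := Opens.isBasis_iff_nbhd.1 S.isBasis_affineOpens (Opens.mem_top (π (i ⟨x, hxU⟩)))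
  obtain ⟨b, hbV, hxb⟩ := hW.exists_basicOpen_le (V := π ⁻¹ᵁ V) ⟨i ⟨x, hxU⟩, hxV⟩ hiW
  let D := P.basicOpen b
  haveI := hci
  have hiWaff : IsAffineOpen (i ⁻¹ᵁ W) := by
    haveI : IsAffine W.toScheme := hW
    exact (isAffine_of_isAffineHom (i ∣_ W) :)
  have hiD : i ⁻¹ᵁ D = U.toScheme.basicOpen (i.app W b) := Scheme.preimage_basicOpen i b
  have hiDaff : IsAffineOpen (i ⁻¹ᵁ D) := hiD ▸ hiWaff.basicOpen _
  letI aWO : Algebra Γ(P, W) Γ(U, i ⁻¹ᵁ W) := (i.app W).hom.toAlgebra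
  have hsurj : Function.Surjective (algebraMap Γ(P, W) Γ(U, i ⁻¹ᵁ W)) := by
    haveI : IsAffine W.toScheme := hW
    haveI : IsAffine (i ⁻¹ᵁ W).toScheme := hiWaff
    have h2 := IsClosedImmersion.isAffine_surjective_of_isAffine (i ∣_ W) |>.2
    rw [morphismRestrict_appTop] at h2
    have key : ∀ W' : P.Opens, W' = W → Function.Surjective (i.app W') → Function.Surjective (i.app W) := by
      rintro _ rfl h
      exact h
    refine key _ W.ι_image_top fun z => ?_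
    obtain ⟨w, hw⟩ := h2 ((U.toScheme.presheaf.map (eqToHom (image_morphismRestrict_preimage i W ⊤)).op) z)
    exact ⟨w, (ConcreteCategory.bijective_of_isIso (U.toScheme.presheaf.map (eqToHom (image_morphismRestrict_preimage i W ⊤)).op)).1 hw⟩
  have h1 : LCI.IsLCI Γ(P, W) Γ(U, i ⁻¹ᵁ W) := isLCI_of_surjective hsurj (by
    rw [isKoszulRegularIdeal_iff]
    intro p hp _
    haveI : IsLocalization.Away (1 : Γ(P, W)) (Localization.Away (1 : Γ(P, W))) := inferInstance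
    have hkr : LCI.IsKoszulRegularSeq Γ(P, W) rs := hrs
    haveI : Module.Flat Γ(P, W) (Localization.Away (1 : Γ(P, W))) := IsLocalization.flat _ (Submonoid.powers 1)
    refine ⟨1, fun h => hp.ne_top ((Ideal.eq_top_iff_one _).2 h), rs.length,
      fun j => algebraMap _ _ (rs.get j), isExact_of_flat ((KoszulExt.isExact_iff _).2 (by rwa [List.ofFn_get])), ?_⟩
    change (RingHom.ker (i.app W).hom).map _ = _
    rw [hker, Ideal.map_ofList, ← setOf_mem_ofFn]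
    refine congrArg Ideal.span ?_
    ext z
    simp [List.mem_iff_get, eq_comm])
  letI aOD : Algebra Γ(U, i ⁻¹ᵁ W) Γ(U, i ⁻¹ᵁ D) :=
    (U.toScheme.presheaf.map (homOfLE (i.preimage_mono (P.basicOpen_le b))).op).hom.toAlgebra
  haveI : IsLocalization.Away (i.app W b) Γ(U, i ⁻¹ᵁ D) :=
    hiWaff.isLocalization_of_eq_basicOpen _ (homOfLE (i.preimage_mono (P.basicOpen_le b))) hiD
  letI aWD' : Algebra Γ(P, W) Γ(U, i ⁻¹ᵁ D) := (i.appLE W (i ⁻¹ᵁ D) (i.preimage_mono (P.basicOpen_le b))).hom.toAlgebra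
  haveI : IsScalarTower Γ(P, W) Γ(U, i ⁻¹ᵁ W) Γ(U, i ⁻¹ᵁ D) := .of_algebraMap_eq' rfl
  have h2 : LCI.IsLCI Γ(P, W) Γ(U, i ⁻¹ᵁ D) := isLCI_away h1 (i.app W b) _
  letI aDD : Algebra Γ(P, D) Γ(U, i ⁻¹ᵁ D) := (i.app D).hom.toAlgebra
  haveI : IsLocalization.Away b Γ(P, D) := hW.isLocalization_basicOpen b
  haveI : IsScalarTower Γ(P, W) Γ(P, D) Γ(U, i ⁻¹ᵁ D) := .of_algebraMap_eq' <| by
    show (i.app W ≫ U.toScheme.presheaf.map _).hom = (P.presheaf.map (homOfLE (P.basicOpen_le b)).op ≫ i.app D).hom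
    rw [Scheme.Hom.naturality]
    rfl
  haveI : Algebra.Etale Γ(P, W) Γ(P, D) := Algebra.Etale.of_isLocalizationAway b
  have h3 : LCI.IsLCI Γ(P, D) Γ(U, i ⁻¹ᵁ D) := isLCI_cancel_etale h2
  letI aVD : Algebra Γ(S, V) Γ(P, D) := (π.appLE V D hbV).hom.toAlgebra
  haveI : Algebra.Smooth Γ(S, V) Γ(P, D) := π.smooth_appLE hV (hW.basicOpen b) hbV
  have e : i ⁻¹ᵁ D ≤ (U.ι ≫ f) ⁻¹ᵁ V := by
    rw [← hfac]
    exact i.preimage_mono hbV
  letI aVU : Algebra Γ(S, V) Γ(U, i ⁻¹ᵁ D) := ((U.ι ≫ f).appLE V (i ⁻¹ᵁ D) e).hom.toAlgebra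
  haveI : IsScalarTower Γ(S, V) Γ(P, D) Γ(U, i ⁻¹ᵁ D) := .of_algebraMap_eq' <| by
    show ((U.ι ≫ f).appLE V (i ⁻¹ᵁ D) e).hom = (π.appLE V D hbV ≫ i.app D).hom
    rw [i.app_eq_appLE, Scheme.Hom.appLE_comp_appLE]
    simp only [hfac]
  have h4 : LCI.IsLCI Γ(S, V) Γ(U, i ⁻¹ᵁ D) := isLCI_trans isLCI_of_smooth h3
  have e' : U.ι ''ᵁ (i ⁻¹ᵁ D) ≤ f ⁻¹ᵁ V := by
    rintro _ ⟨z, hz, rfl⟩
    exact e hz
  refine ⟨U.ι ''ᵁ (i ⁻¹ᵁ D), V, e', hiDaff.image_of_isOpenImmersion U.ι, hV, ⟨⟨x, hxU⟩, hxb, rfl⟩, ?_⟩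
  have heq : (f.appLE V (U.ι ''ᵁ (i ⁻¹ᵁ D)) e').hom = ((U.ι ≫ f).appLE V (i ⁻¹ᵁ D) e).hom := by
    congr 1
    simp [Scheme.Hom.appLE]
    exact congrArg (f.app V ≫ ·) (X.presheaf.map_comp _ _)
  show @LCI.IsLCI Γ(S, V) _ Γ(U.toScheme, i ⁻¹ᵁ D) _ (f.appLE V (U.ι ''ᵁ (i ⁻¹ᵁ D)) e').hom.toAlgebra
  rw [show (f.appLE V (U.ι ''ᵁ (i ⁻¹ᵁ D)) e').hom.toAlgebra = ((U.ι ≫ f).appLE V (i ⁻¹ᵁ D) e).hom.toAlgebra from
    congrArg RingHom.toAlgebra heq]
  exact h4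

theorem isKoszulAt_of_lciAt {f : X ⟶ S} {x : X} (h : LCIAt f x) : Synt.IsKoszulAt f x := by
  obtain ⟨U, V, e, hU, hV, hxU, hlci⟩ := h
  letI : Algebra Γ(S, V) Γ(X, U) := (f.appLE V U e).hom.toAlgebra
  obtain ⟨-, n, φ, hφ, hI⟩ := hlci
  let R := MvPolynomial (Fin n) Γ(S, V)
  let P : Scheme.{u} := Spec (CommRingCat.of R)
  let ψ : CommRingCat.of R ⟶ Γ(X, U) := CommRingCat.ofHom φ.toRingHom
  let ι₀ : CommRingCat.of Γ(S, V) ⟶ CommRingCat.of R := CommRingCat.ofHom (algebraMap Γ(S, V) R)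
  haveI : IsAffine U.toScheme := hU
  haveI : IsClosedImmersion (Spec.map ψ) := IsClosedImmersion.spec_of_surjective ψ hφ
  let i : U.toScheme ⟶ P := hU.isoSpec.hom ≫ Spec.map ψ
  haveI : Smooth (Spec.map ι₀) := (HasRingHomProperty.Spec_iff (P := @Smooth)).2
    (RingHom.smooth_algebraMap.2 (⟨inferInstance, inferInstance⟩ : Algebra.Smooth Γ(S, V) (MvPolynomial (Fin n) Γ(S, V))))
  haveI : IsOpenImmersion hV.fromSpec := hV.isOpenImmersion_fromSpec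
  let π : P ⟶ S := Spec.map ι₀ ≫ hV.fromSpec
  have hfac : i ≫ π = U.ι ≫ f := by
    have h1 : Spec.map ψ ≫ Spec.map ι₀ = Spec.map (f.appLE V U e) := by
      rw [← Spec.map_comp]
      exact congrArg Spec.map (CommRingCat.hom_ext φ.comp_algebraMap)
    show (hU.isoSpec.hom ≫ Spec.map ψ) ≫ Spec.map ι₀ ≫ hV.fromSpec = U.ι ≫ f
    rw [Category.assoc, reassoc_of% h1, IsAffineOpen.SpecMap_appLE_fromSpec f hV hU e,
      ← IsAffineOpen.isoSpec_inv_ι, Category.assoc, Iso.hom_inv_id_assoc]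
  refine ⟨U, P, i, π, hxU, hfac ▸ inferInstance, ⟨inferInstance, fun z => ?_⟩, inferInstance, hfac⟩
  let p : PrimeSpectrum R := i z
  obtain ⟨h, hh, m, g, hg, hspan⟩ := (isKoszulRegularIdeal_iff _).1 hI p.asIdeal p.2 (by
    intro a ha
    obtain ⟨q, hq⟩ : ∃ q : PrimeSpectrum Γ(X, U), PrimeSpectrum.comap φ.toRingHom q = p := ⟨hU.isoSpec.hom z, rfl⟩
    rw [← hq]
    show φ a ∈ q.asIdeal
    rw [show φ a = 0 from ha]
    exact zero_mem _)
  let h' : Γ(P, ⊤) := (Scheme.ΓSpecIso (CommRingCat.of R)).inv h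
  have hD : IsAffineOpen (P.basicOpen h') := (isAffineOpen_top P).basicOpen h'
  refine ⟨⟨P.basicOpen h', hD⟩, ?_, inferInstance, ?_⟩
  · show i z ∈ P.basicOpen h'
    rw [basicOpen_eq_of_affine']
    rw [show (Scheme.ΓSpecIso (CommRingCat.of R)).hom h' = h by simp [h']]
    exact hh
  letI : Algebra R Γ(P, P.basicOpen h') :=
    ((P.presheaf.map (homOfLE le_top).op).hom.comp (Scheme.ΓSpecIso (CommRingCat.of R)).inv.hom).toAlgebra
  haveI : IsLocalization.Away h Γ(P, P.basicOpen h') := by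
    have h1 := (isAffineOpen_top P).isLocalization_basicOpen h'
    exact IsLocalization.of_ringEquiv_left (M₁ := Submonoid.powers h')
      (Scheme.ΓSpecIso (CommRingCat.of R)).symm.commRingCatIsoToRingEquiv (Submonoid.map_powers _ _) fun _ => rfl
  obtain ⟨g', hg', hspan'⟩ := data_of_dvd (dvd_refl h) Γ(P, P.basicOpen h') hg hspan
  refine ⟨List.ofFn g', (KoszulExt.isExact_iff g').1 hg', ?_⟩
  have h2 : RingHom.ker (i.app (P.basicOpen h')).hom =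
      (RingHom.ker φ.toRingHom).map (algebraMap R Γ(P, P.basicOpen h')) := by
    rw [RingHom.algebraMap_toAlgebra, ← Ideal.map_map, ← i.ker_apply ⟨_, hD⟩,
      ← i.ker.map_ideal (U := ⟨_, hD⟩) (V := ⟨⊤, isAffineOpen_top P⟩) (show P.basicOpen h' ≤ ⊤ from le_top), i.ker_apply]
    refine congrArg (Ideal.map _) ?_
    ext y
    obtain ⟨r, rfl⟩ := (ConcreteCategory.bijective_of_isIso (Scheme.ΓSpecIso (CommRingCat.of R)).inv).2 y
    rw [RingHom.mem_ker]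
    have h3 : i.app ⊤ ((Scheme.ΓSpecIso (CommRingCat.of R)).inv r) =
        hU.isoSpec.hom.app ⊤ ((Scheme.ΓSpecIso Γ(X, U)).inv (φ r)) := by
      change ((Scheme.ΓSpecIso (CommRingCat.of R)).inv ≫ i.app ⊤) r = (CommRingCat.ofHom φ.toRingHom ≫ (Scheme.ΓSpecIso Γ(X, U)).inv ≫ hU.isoSpec.hom.app ⊤) r
      change (((Scheme.ΓSpecIso (CommRingCat.of R)).inv ≫ (Spec.map ψ).appTop) ≫ hU.isoSpec.hom.appTop) r = _
      rw [← Scheme.ΓSpecIso_inv_naturality]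
      rfl
    rw [h3]
    refine ((map_eq_zero_iff (hU.isoSpec.hom.app ⊤).hom
      (ConcreteCategory.bijective_of_isIso (hU.isoSpec.hom.app ⊤)).1).trans (map_eq_zero_iff
      (Scheme.ΓSpecIso Γ(X, U)).inv.hom (ConcreteCategory.bijective_of_isIso (Scheme.ΓSpecIso Γ(X, U)).inv).1)).trans ?_
    rw [Ideal.mem_map_iff_of_surjective _ (ConcreteCategory.bijective_of_isIso (Scheme.ΓSpecIso (CommRingCat.of R)).inv).2]
    constructor
    · exact fun hr => ⟨r, hr, rfl⟩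
    · rintro ⟨r', hr', he⟩
      rw [← (ConcreteCategory.bijective_of_isIso (Scheme.ΓSpecIso (CommRingCat.of R)).inv).1 he]
      exact hr'
  rw [h2, hspan', Ideal.ofList, setOf_mem_ofFn]

/-- Koszul at a point means LCI on some affine pair. -/
theorem isKoszulAt_iff (f : X ⟶ S) (x : X) : Synt.IsKoszulAt f x ↔ LCIAt f x :=
  ⟨lciAt_of_isKoszulAt, isKoszulAt_of_lciAt⟩

end Groth.Agent.LCIPres
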