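import Groth.Agent.LCIPres.Smooth
import Groth.Agent.LCIPres.KoszulAt
import Groth.Agent.LCIPres.Descent
import Mathlib

/-!
# LCI morphisms as a local property; faithfully flat descent
-/

set_option autoImplicit false
set_option linter.style.haveILetI false
set_option maxHeartbeats 400000

noncomputable section

universe u

open TensorProduct MvPolynomial CategoryTheory CategoryTheory.Limits AlgebraicGeometry

namespace Groth.Agent.LCIPres

/-- The LCI ring maps. -/
def LciRH {R S : Type u} [CommRing R] [CommRing S] (φ : R →+* S) : Prop :=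
  letI := φ.toAlgebra
  LCI.IsLCI R S

theorem lciRH_algebraMap (R S : Type u) [CommRing R] [CommRing S] [Algebra R S] :
    LciRH (algebraMap R S) ↔ LCI.IsLCI R S := by
  rw [LciRH, toAlgebra_algebraMap]

theorem lciRH_stableUnderCompositionWithLocalizationAwayTarget :
    RingHom.StableUnderCompositionWithLocalizationAwayTarget @LciRH := by
  intro R S T _ _ _ _ r _ φ hφ
  let := φ.toAlgebra
  let := ((algebraMap S T).comp φ).toAlgebra
  have : IsScalarTower R S T := .of_algebraMap_eq fun x => rfl
  exact isLCI_away hφ r T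

theorem lciRH_stableUnderCompositionWithLocalizationAwaySource :
    RingHom.StableUnderCompositionWithLocalizationAwaySource @LciRH := by
  intro R S T _ _ _ _ r _ φ hφ
  let := φ.toAlgebra
  let := (φ.comp (algebraMap R S)).toAlgebra
  have : IsScalarTower R S T := .of_algebraMap_eq fun x => rfl
  have : Algebra.Etale R S := Algebra.Etale.of_isLocalizationAway r
  exact isLCI_trans isLCI_of_smooth hφ

theorem lciRH_localizationAwayPreserves : RingHom.LocalizationAwayPreserves @LciRH := by
  intro R S _ _ φ r R' S' _ _ _ _ _ _ hφ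
  have h := lciRH_stableUnderCompositionWithLocalizationAwayTarget S' (φ r) φ hφ
  let ψ := IsLocalization.Away.map R' S' φ r
  let := ψ.toAlgebra
  let := ((algebraMap S S').comp φ).toAlgebra
  have : IsScalarTower R R' S' := .of_algebraMap_eq fun x => by
    simp [RingHom.algebraMap_toAlgebra, ψ, IsLocalization.Away.map]
  have : Algebra.Etale R R' := Algebra.Etale.of_isLocalizationAway r
  exact isLCI_cancel_etale (A := R) (B := R') h

theorem lciRH_ofLocalizationSpanTarget : RingHom.OfLocalizationSpanTarget @LciRH := by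
  intro R S _ _ φ s hs h
  let := φ.toAlgebra
  have h' : ∀ g ∈ s, LCI.IsLCI R (Localization.Away g) := fun g hg =>
    (lciRH_algebraMap R (Localization.Away g)).1 (h ⟨g, hg⟩)
  have : Algebra.FiniteType R S := Algebra.FiniteType.of_span_eq_top_target s hs fun g hg => (h' g hg).1
  exact isLCI_of_span s hs h'

theorem lciRH_ofLocalizationSpan : RingHom.OfLocalizationSpan @LciRH := by
  intro R S _ _ φ s hs h
  refine lciRH_ofLocalizationSpanTarget φ (φ '' s) (by rw [← Ideal.map_span, hs, Ideal.map_top]) ?_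
  rintro ⟨_, r, hr, rfl⟩
  have h' := lciRH_stableUnderCompositionWithLocalizationAwaySource (Localization.Away r) r _ (h ⟨r, hr⟩)
  rwa [show (Localization.awayMap φ r).comp (algebraMap R (Localization.Away r)) =
      (algebraMap S (Localization.Away (φ r))).comp φ from IsLocalization.map_comp _] at h'

theorem lciRH_propertyIsLocal : RingHom.PropertyIsLocal @LciRH :=
  ⟨lciRH_localizationAwayPreserves, lciRH_ofLocalizationSpanTarget, lciRH_ofLocalizationSpan,
    lciRH_stableUnderCompositionWithLocalizationAwayTarget⟩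

/-- The morphism property induced by LCI ring maps. -/
def lciMor : MorphismProperty Scheme.{u} := affineLocally @LciRH

instance : HasRingHomProperty lciMor.{u} @LciRH := ⟨lciRH_propertyIsLocal, rfl⟩

theorem lciMor_iff {X S : Scheme.{u}} (f : X ⟶ S) : lciMor f ↔
    ∀ (U : X.Opens) (V : S.Opens) (_ : IsAffineOpen U) (_ : IsAffineOpen V) (hUV : U ≤ f ⁻¹ᵁ V),
      letI := (f.appLE V U hUV).hom.toAlgebra
      LCI.IsLCI Γ(S, V) Γ(X, U) := by
  rw [HasRingHomProperty.iff_appLE (P := lciMor)]
  exact ⟨fun h U V hU hV e => h ⟨V, hV⟩ ⟨U, hU⟩ e, fun h V U e => h U.1 V.1 U.2 V.2 e⟩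

theorem lciMor_iff_forall_lciAt {X S : Scheme.{u}} (f : X ⟶ S) : lciMor f ↔ ∀ x, LCIAt f x := by
  rw [HasRingHomProperty.iff_exists_appLE (P := lciMor) lciRH_stableUnderCompositionWithLocalizationAwaySource]
  exact forall_congr' fun x =>
    ⟨fun ⟨V, U, hx, e, h⟩ => ⟨U.1, V.1, e, U.2, V.2, hx, h⟩,
      fun ⟨U, V, e, hU, hV, hx, h⟩ => ⟨⟨V, hV⟩, ⟨U, hU⟩, hx, e, h⟩⟩

/-- LCI in the sense of all affine pairs is the same as Koszul at every point. -/
theorem lciMor_iff_forall_isKoszulAt {X S : Scheme.{u}} (f : X ⟶ S) :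
    lciMor f ↔ ∀ x, Synt.IsKoszulAt f x :=
  (lciMor_iff_forall_lciAt f).trans (forall_congr' fun x => (isKoszulAt_iff f x).symm)

/-- Kernel of a base-changed presentation. -/
theorem ker_aeval_tmul {A B C : Type u} [CommRing A] [CommRing B] [CommRing C] [Algebra A B] [Algebra A C] {n : ℕ}
    {v : Fin n → C} (hv : Function.Surjective (aeval (R := A) v)) :
    Function.Surjective (aeval (R := B) fun i => (1 : B) ⊗ₜ[A] v i) ∧
    RingHom.ker (aeval (R := B) fun i => (1 : B) ⊗ₜ[A] v i).toRingHom =
      (RingHom.ker (aeval (R := A) v).toRingHom).map (MvPolynomial.map (algebraMap A B)) := by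
  let w : Fin n → B ⊗[A] C := fun i => (1 : B) ⊗ₜ[A] v i
  let e := MvPolynomial.algebraTensorAlgEquiv (σ := Fin n) A B
  let ψ := Algebra.TensorProduct.map (AlgHom.id B B) (aeval (R := A) v)
  have heq : (aeval (R := B) w).comp e.toAlgHom = ψ := by
    refine Algebra.TensorProduct.ext (Subsingleton.elim _ _) (MvPolynomial.algHom_ext fun i => ?_)
    simp [e, ψ, w]
  have hψ : Function.Surjective ψ := by
    intro z
    induction z using TensorProduct.induction_on with
    | zero => exact ⟨0, map_zero ψ⟩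
    | add x y hx hy =>
      obtain ⟨x', rfl⟩ := hx
      obtain ⟨y', rfl⟩ := hy
      exact ⟨x' + y', map_add ψ x' y'⟩
    | tmul b c =>
      obtain ⟨p, rfl⟩ := hv c
      exact ⟨b ⊗ₜ[A] p, Algebra.TensorProduct.map_tmul _ _ _ _⟩
  have hw : Function.Surjective (aeval (R := B) w) := fun z => by
    obtain ⟨x, hx⟩ := hψ z
    exact ⟨e x, (AlgHom.congr_fun heq x).trans hx⟩
  refine ⟨hw, ?_⟩
  have h1 : RingHom.ker ψ = (RingHom.ker (aeval (R := A) v)).map Algebra.TensorProduct.includeRight :=
    Algebra.TensorProduct.lTensor_ker (aeval (R := A) v) hv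
  have h2 : RingHom.ker ψ = (RingHom.ker (aeval (R := B) w).toRingHom).comap e.toRingEquiv.toRingHom := by
    rw [RingHom.comap_ker]
    ext x
    rw [RingHom.mem_ker, RingHom.mem_ker, ← heq]
    exact Iff.rfl
  have h3 := congrArg (Ideal.map e.toRingEquiv.toRingHom) (h2.symm.trans h1)
  rw [Ideal.map_comap_of_surjective e.toRingEquiv.toRingHom e.surjective] at h3
  rw [h3]
  change Ideal.map _ (Ideal.map (Algebra.TensorProduct.includeRight (R := A) (A := B) (B := MvPolynomial (Fin n) A)).toRingHom _) = _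
  rw [Ideal.map_map]
  refine congrArg (Ideal.map · _) (MvPolynomial.ringHom_ext (fun a => ?_) fun i => ?_)
  · simp [e]
  · simp [e]

/-- LCI descends along faithfully flat base change. -/
theorem isLCI_of_faithfullyFlat {A C : Type u} [CommRing A] [CommRing C] [Algebra A C] (B : Type u) [CommRing B]
    [Algebra A B] [Module.FaithfullyFlat A B] (h : LCI.IsLCI B (B ⊗[A] C)) : LCI.IsLCI A C := by
  haveI := h.1
  haveI : Algebra.FiniteType A C := Algebra.FiniteType.of_finiteType_tensorProduct_of_faithfullyFlat B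
  obtain ⟨n, v, hv⟩ := exists_pres A C
  obtain ⟨hw, hker⟩ := ker_aeval_tmul (B := B) hv
  have h1 := (isLCI_iff hw).1 h
  rw [KPres, hker] at h1
  letI : Algebra (MvPolynomial (Fin n) A) (MvPolynomial (Fin n) B) := MvPolynomial.algebraMvPolynomial
  haveI := PCHom.faithfullyFlat_map (A := A) (T := B) (n := n)
  exact (isLCI_iff hv).2 (isKoszulRegularIdeal_of_faithfullyFlat
    (B := MvPolynomial (Fin n) B) (RingHom.ker (aeval (R := A) v).toRingHom) h1)

/-- Base change of an LCI morphism along a local isomorphism. -/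
theorem lciMor_of_isPullback_localIso {X S T W : Scheme.{u}} {f : X ⟶ S} {p : T ⟶ S} {p' : W ⟶ X} {f' : W ⟶ T}
    [IsLocalIso p] (h : IsPullback p' f' f p) (hf : lciMor f) : lciMor f' := by
  choose O hO hOimm using IsLocalIso.exists_isOpenImmersion (f := p)
  refine IsZariskiLocalAtTarget.of_iSup_eq_top O (eq_top_iff.2 fun x _ => TopologicalSpace.Opens.mem_iSup.2 ⟨x, hO x⟩)
    fun x => ?_
  haveI := hOimm x
  exact IsZariskiLocalAtTarget.of_isPullback ((isPullback_morphismRestrict f' (O x)).flip.paste_horiz h) hf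

/-- Faithfully flat quasi-compact descent for LCI morphisms. -/
theorem lciMor_of_flat_surjective_quasiCompact {X S X' S' : Scheme.{u}} {f : X ⟶ S} {f' : X' ⟶ S'} {g' : X' ⟶ X}
    {g : S' ⟶ S} [Flat g] [Surjective g] [QuasiCompact g] (hc : IsPullback g' f' f g) (hf' : lciMor f') :
    lciMor f := by
  rw [IsZariskiLocalAtTarget.iff_of_openCover (P := lciMor) S.affineCover]
  intro i
  -- reduce to an affine base
  let R := S.affineCover.X i
  let jR := S.affineCover.f i
  let fR : pullback f jR ⟶ R := pullback.snd f jR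
  let gR : pullback g jR ⟶ R := pullback.snd g jR
  haveI : Flat gR := inferInstance
  haveI : Surjective gR := inferInstance
  haveI : QuasiCompact gR := inferInstance
  haveI : CompactSpace (pullback g jR : Scheme.{u}) := QuasiCompact.compactSpace_of_compactSpace gR
  obtain ⟨T, p, hpsurj, hploc, hTaff⟩ := Scheme.exists_hom_isAffine_of_isZariskiLocalAtSource (P := @IsLocalIso) (pullback g jR)
  let gT : T ⟶ R := p ≫ gR
  haveI : Flat p := IsLocalIso.le_of_isZariskiLocalAtSource @Flat _ _ p hploc
  haveI : Flat gT := inferInstance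
  haveI : Surjective gT := inferInstance
  have hq : lciMor (pullback.snd fR gT) := by
    -- `fR ×_R T = X' ×_{S'} T`
    let t : T ⟶ S' := p ≫ pullback.fst g jR
    have ht : t ≫ g = gT ≫ jR := by simp [t, gT, gR, pullback.condition]
    have hbig : IsPullback (pullback.fst fR gT ≫ pullback.fst f jR) (pullback.snd fR gT) f (gT ≫ jR) :=
      (IsPullback.of_hasPullback fR gT).paste_horiz (IsPullback.of_hasPullback f jR)
    rw [← ht] at hbig
    let l := hc.lift (pullback.fst fR gT ≫ pullback.fst f jR) (pullback.snd fR gT ≫ t) (by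
      rw [Category.assoc]; exact hbig.w)
    have hl : IsPullback l (pullback.snd fR gT) f' t :=
      IsPullback.of_right (by rw [hc.lift_fst]; exact hbig) (hc.lift_snd _ _ _) hc
    haveI : IsLocalIso p := hploc
    haveI : IsOpenImmersion (pullback.fst g jR) := inferInstance
    haveI : IsLocalIso (pullback.fst g jR) :=
      ⟨fun x => ⟨⊤, trivial, inferInstance⟩⟩
    haveI : IsLocalIso t := MorphismProperty.comp_mem (W := @IsLocalIso) _ _ ‹_› ‹_›
    exact lciMor_of_isPullback_localIso hl hf'
  -- reduce to an affine source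
  change lciMor (pullback.snd f jR)
  rw [IsZariskiLocalAtSource.iff_of_openCover (P := lciMor) (pullback f jR).affineCover]
  intro k
  change lciMor ((pullback f jR).affineCover.f k ≫ fR)
  let jX := (pullback f jR).affineCover.f k
  have hk : lciMor (pullback.snd (jX ≫ fR) gT) := by
    let l := pullback.map (jX ≫ fR) gT fR gT jX (𝟙 _) (𝟙 _) (by simp) (by simp)
    have he : pullback.snd (jX ≫ fR) gT = l ≫ pullback.snd fR gT :=
      ((pullback.lift_snd _ _ _).trans (Category.comp_id _)).symm
    rw [he]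
    exact IsZariskiLocalAtSource.comp hq l
  -- affine case
  obtain ⟨A, ⟨eA⟩⟩ : ∃ A : CommRingCat.{u}, Nonempty (R ≅ Spec A) := ⟨_, ⟨R.isoSpec⟩⟩
  obtain ⟨B, ⟨eB⟩⟩ : ∃ B : CommRingCat.{u}, Nonempty (T ≅ Spec B) := ⟨_, ⟨T.isoSpec⟩⟩
  obtain ⟨C, ⟨eC⟩⟩ : ∃ C : CommRingCat.{u}, Nonempty ((pullback f jR).affineCover.X k ≅ Spec C) :=
    ⟨_, ⟨Scheme.isoSpec _⟩⟩
  obtain ⟨φ, hφ⟩ := Spec.map_surjective (eC.inv ≫ jX ≫ fR ≫ eA.hom)
  obtain ⟨ψ, hψ⟩ := Spec.map_surjective (eB.inv ≫ gT ≫ eA.hom)
  letI : Algebra A B := ψ.hom.toAlgebra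
  letI : Algebra A C := φ.hom.toAlgebra
  haveI : Flat (Spec.map ψ) := by rw [hψ]; infer_instance
  haveI : Surjective (Spec.map ψ) := by rw [hψ]; infer_instance
  haveI : Module.FaithfullyFlat A B := by
    haveI : Module.Flat A B := (HasRingHomProperty.Spec_iff (P := @Flat)).1 ‹Flat (Spec.map ψ)›
    exact .of_comap_surjective (Spec.map ψ).surjective
  have hBC : LCI.IsLCI B (B ⊗[A] C) := by
    have h2 : lciMor (pullback.fst (Spec.map ψ) (Spec.map φ)) := by
      rw [hψ, hφ]
      let e : pullback (eB.inv ≫ gT ≫ eA.hom) (eC.inv ≫ jX ≫ fR ≫ eA.hom) ≅ pullback (jX ≫ fR) gT :=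
        asIso (pullback.map _ _ gT (jX ≫ fR) eB.inv eC.inv eA.inv (by simp) (by simp)) ≪≫ pullbackSymmetry _ _
      have he : pullback.fst (eB.inv ≫ gT ≫ eA.hom) (eC.inv ≫ jX ≫ fR ≫ eA.hom) =
          e.hom ≫ pullback.snd (jX ≫ fR) gT ≫ eB.hom := by
        simp only [e, Iso.trans_hom, asIso_hom, Category.assoc, pullbackSymmetry_hom_comp_snd_assoc, pullback.map, pullback.lift_fst_assoc]
        simp
      rw [he, MorphismProperty.cancel_left_of_respectsIso (P := lciMor),
        MorphismProperty.cancel_right_of_respectsIso (P := lciMor)]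
      exact hk
    change lciMor (pullback.fst (Spec.map (CommRingCat.ofHom (algebraMap A B))) (Spec.map (CommRingCat.ofHom (algebraMap A C)))) at h2
    rw [← pullbackSpecIso_hom_fst' A B C, MorphismProperty.cancel_left_of_respectsIso (P := lciMor),
      HasRingHomProperty.Spec_iff (P := lciMor)] at h2
    exact (lciRH_algebraMap _ _).1 h2
  have hAC : lciMor (Spec.map φ) := (HasRingHomProperty.Spec_iff (P := lciMor)).2 (isLCI_of_faithfullyFlat (B : Type u) hBC)
  rw [hφ, MorphismProperty.cancel_left_of_respectsIso (P := lciMor), ← Category.assoc,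
    MorphismProperty.cancel_right_of_respectsIso (P := lciMor)] at hAC
  exact hAC

end Groth.Agent.LCIPres
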