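import Groth.Agent.LCIPres.FibreBC
import Groth.Agent.LCIPres.KoszulAt
import Groth.Agent.LCIPres.Mor
import Groth.Agent.SyntLCI.KoszulMor
import Mathlib

/-!
# The LCI locus of a morphism of flat schemes over a base commutes with base change
-/

set_option autoImplicit false
set_option linter.style.haveILetI false
set_option maxHeartbeats 400000

universe u

open AlgebraicGeometry CategoryTheory MvPolynomial TensorProduct

namespace Groth.Agent.LCIPres

section Ring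

variable {B C : Type u} [CommRing B] [CommRing C] [Algebra B C]

/-- LCI near a prime in terms of a presentation. -/
theorem exists_isLCI_away_iff {n : ℕ} {v : Fin n → C} (hv : Function.Surjective (aeval (R := B) v)) (Q : Ideal C)
    [Q.IsPrime] :
    (∃ c ∉ Q, LCI.IsLCI B (Localization.Away c)) ↔
      KRAt (RingHom.ker (aeval (R := B) v).toRingHom) (Q.comap (aeval (R := B) v).toRingHom) := by
  set I := RingHom.ker (aeval (R := B) v).toRingHom with hIdef
  set q := Q.comap (aeval (R := B) v).toRingHom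
  have hIq : I ≤ q := fun x hx => by
    rw [Ideal.mem_comap, (RingHom.mem_ker).1 hx]
    exact Q.zero_mem
  constructor
  · rintro ⟨c, hc, hlci⟩
    obtain ⟨h, rfl⟩ := hv c
    have hKR := (isLCI_away_iff hv h (Localization.Away (aeval v h))).1 hlci
    let L := Localization.Away h
    have hh : h ∉ q := hc
    have hu : IsUnit (algebraMap _ (Localization.AtPrime q) h) := IsLocalization.map_units _ (⟨h, hh⟩ : q.primeCompl)
    have hdisj : Disjoint (↑(Submonoid.powers h) : Set (MvPolynomial (Fin n) B)) (↑q : Set (MvPolynomial (Fin n) B)) := by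
      rw [Set.disjoint_left]
      rintro _ ⟨k, rfl⟩ hk
      exact hh ((inferInstance : q.IsPrime).mem_of_pow_mem k hk)
    have hQp : (q.map (algebraMap _ L)).IsPrime := IsLocalization.isPrime_of_isPrime_disjoint _ L q inferInstance hdisj
    have hQc : (q.map (algebraMap _ L)).comap (algebraMap _ L) = q :=
      IsLocalization.comap_map_of_isPrime_disjoint _ L inferInstance hdisj
    obtain ⟨h₁, hh₁, N, g, hg, hspan⟩ := (isKoszulRegularIdeal_iff _).1 hKR _ hQp (Ideal.map_mono hIq)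
    obtain ⟨k, a, ha⟩ := IsLocalization.Away.surj h h₁
    have haq : a ∉ q := fun hm => by
      refine hh₁ ?_
      have h1 : algebraMap _ L a ∈ q.map (algebraMap _ L) := Ideal.mem_map_of_mem _ hm
      rw [← ha] at h1
      exact (Ideal.mul_unit_mem_iff_mem _ ((IsLocalization.Away.algebraMap_isUnit h).pow k)).1 h1
    let L₁ := Localization.Away h₁
    have : IsLocalization.Away (algebraMap _ L a) L₁ := by
      refine IsLocalization.Away.of_associated (S := L₁) (r := h₁) ?_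
      rw [← ha]
      exact ⟨((IsLocalization.Away.algebraMap_isUnit h).pow k).unit, rfl⟩
    have : IsLocalization.Away (h * a) L₁ := IsLocalization.Away.mul' L L₁ h a
    refine KRAt.mk' (h * a) (fun hm => ((inferInstance : q.IsPrime).mem_or_mem hm).elim hh haq) L₁ g hg ?_
    rw [IsScalarTower.algebraMap_eq _ L L₁, ← Ideal.map_map]
    exact hspan
  · rintro ⟨h, hh, N, g, hg, hspan⟩
    refine ⟨aeval v h, hh, (isLCI_away_iff hv h (Localization.Away (aeval v h))).2 ?_⟩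
    rw [isKoszulRegularIdeal_iff]
    intro p hp _
    haveI : Module.Flat (Localization.Away h) (Localization.Away (1 : Localization.Away h)) :=
      IsLocalization.flat _ (Submonoid.powers 1)
    refine ⟨1, fun h => hp.ne_top ((Ideal.eq_top_iff_one _).2 h), N, fun i => algebraMap _ _ (g i),
      isExact_of_flat hg, ?_⟩
    rw [hspan, Ideal.map_span, ← Set.range_comp]
    rfl

attribute [local instance] MvPolynomial.algebraMvPolynomial

/-- Base change invariance, for flat finitely presented algebras over a base. -/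
theorem exists_isLCI_away_baseChange (A A' B B' C C' : Type u) [CommRing A] [CommRing A'] [CommRing B] [CommRing B']
    [CommRing C] [CommRing C'] [Algebra A A'] [Algebra A B] [Algebra A C] [Algebra B C] [IsScalarTower A B C]
    [Algebra A' B'] [Algebra B B'] [Algebra A B'] [IsScalarTower A A' B'] [IsScalarTower A B B']
    [Algebra B' C'] [Algebra C C'] [Algebra B C'] [IsScalarTower B B' C'] [IsScalarTower B C C']
    [Algebra.IsPushout A A' B B'] [Algebra.IsPushout B B' C C']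
    [Algebra.FinitePresentation A B] [Module.Flat A B] [Algebra.FinitePresentation B C] [Module.Flat A C]
    (Q' : Ideal C') [Q'.IsPrime] :
    (∃ c ∉ Q', LCI.IsLCI B' (Localization.Away c)) ↔
      ∃ c ∉ Q'.comap (algebraMap C C'), LCI.IsLCI B (Localization.Away c) := by
  obtain ⟨n, v, hv⟩ := exists_pres B C
  let v' : Fin n → C' := fun i => algebraMap C C' (v i)
  let e : B' ⊗[B] C ≃ₐ[B'] C' := Algebra.IsPushout.equiv B B' C C'
  obtain ⟨hw, hker⟩ := ker_aeval_tmul (B := B') hv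
  have heq : aeval (R := B') v' = e.toAlgHom.comp (aeval (R := B') fun i => (1 : B') ⊗ₜ[B] v i) :=
    MvPolynomial.algHom_ext fun i => by simp [e, v', Algebra.IsPushout.equiv_tmul]
  have hv' : Function.Surjective (aeval (R := B') v') := by
    rw [heq]; exact e.surjective.comp hw
  have hker' : RingHom.ker (aeval (R := B') v').toRingHom =
      (RingHom.ker (aeval (R := B) v).toRingHom).map (algebraMap (MvPolynomial (Fin n) B) (MvPolynomial (Fin n) B')) := by
    refine Eq.trans ?_ hker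
    ext x
    simp only [RingHom.mem_ker, AlgHom.toRingHom_eq_coe, RingHom.coe_coe, heq, AlgHom.comp_apply]
    exact map_eq_zero_iff e.toAlgHom e.injective
  have hmap : algebraMap (MvPolynomial (Fin n) B) (MvPolynomial (Fin n) B') = MvPolynomial.map (algebraMap B B') := rfl
  haveI : IsScalarTower A (MvPolynomial (Fin n) B) (MvPolynomial (Fin n) B') := .of_algebraMap_eq fun a => by
    rw [hmap, IsScalarTower.algebraMap_apply A B (MvPolynomial (Fin n) B), MvPolynomial.algebraMap_eq,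
      MvPolynomial.map_C, ← IsScalarTower.algebraMap_apply A B B']
    rfl
  haveI : Algebra.IsPushout A B A' B' := Algebra.IsPushout.symm inferInstance
  haveI : Algebra.IsPushout A A' (MvPolynomial (Fin n) B) (MvPolynomial (Fin n) B') := Algebra.IsPushout.symm <|
    (Algebra.IsPushout.comp_iff (R := A) (S := B) (R' := A') (S' := B')
      (T := MvPolynomial (Fin n) B)).2 inferInstance
  haveI : Algebra.FinitePresentation A (MvPolynomial (Fin n) B) := Algebra.FinitePresentation.trans A B _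
  haveI : Module.Flat A (MvPolynomial (Fin n) B) := Module.Flat.trans A B _
  let I := RingHom.ker (aeval (R := B) v).toRingHom
  haveI : Module.Flat A (MvPolynomial (Fin n) B ⧸ I) :=
    Module.Flat.of_linearEquiv ((Ideal.quotientKerAlgEquivOfSurjective hv).toLinearEquiv.restrictScalars A)
  have hI : I.FG := Algebra.FinitePresentation.ker_fG_of_surjective (aeval (R := B) v) hv
  have hq : (Q'.comap (aeval (R := B') v').toRingHom).comap
        (algebraMap (MvPolynomial (Fin n) B) (MvPolynomial (Fin n) B')) =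
      (Q'.comap (algebraMap C C')).comap (aeval (R := B) v).toRingHom := by
    rw [Ideal.comap_comap, Ideal.comap_comap]
    congr 1
    refine MvPolynomial.ringHom_ext (fun b => ?_) fun i => ?_
    · simp [hmap, ← IsScalarTower.algebraMap_apply]
    · simp [hmap, v']
  rw [exists_isLCI_away_iff hv' Q', exists_isLCI_away_iff hv, hker',
    krAt_baseChange_iff A A' I hI _ (hker'.ge.trans (Ideal.comap_mono bot_le)), hq]

end Ring

variable {X Y : Scheme.{u}}

/-- LCI at a point, on any affine pair around it. -/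
theorem lciAt_iff (f : X ⟶ Y) {U : X.Opens} {V : Y.Opens} (hU : IsAffineOpen U) (hV : IsAffineOpen V)
    (e : U ≤ f ⁻¹ᵁ V) (x : X) (hx : x ∈ U) :
    LCIAt f x ↔ letI := (f.appLE V U e).hom.toAlgebra
      ∃ c ∉ (hU.primeIdealOf ⟨x, hx⟩).asIdeal, LCI.IsLCI Γ(Y, V) (Localization.Away c) := by
  letI algUV := (f.appLE V U e).hom.toAlgebra
  constructor
  · rintro ⟨U₁, V₁, e₁, hU₁, hV₁, hx₁, h⟩
    obtain ⟨b, b₁, hbb, hxb⟩ := exists_basicOpen_le_affine_inter hV hV₁ (f x) ⟨e hx, e₁ hx₁⟩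
    obtain ⟨c₀, hc₀, hxc₀⟩ := hU₁.exists_basicOpen_le (V := U ⊓ f ⁻¹ᵁ Y.basicOpen b) ⟨x, ⟨hx, hxb⟩⟩ hx₁
    obtain ⟨c, hc, hxc⟩ := hU.exists_basicOpen_le (V := X.basicOpen c₀) ⟨x, hxc₀⟩ hx
    refine ⟨c, (SyntLCI.mem_basicOpen_iff_notMem hU ⟨x, hx⟩ c).1 hxc, ?_⟩
    obtain ⟨D, hD⟩ : ∃ D : X.Opens, D = X.basicOpen c := ⟨_, rfl⟩
    have hDU₁ : D ≤ U₁ := hD ▸ hc.trans (X.basicOpen_le c₀)
    have hc' : D = X.basicOpen (X.presheaf.map (homOfLE (hc₀.trans inf_le_left)).op c) := by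
      rw [Scheme.basicOpen_res, ← hD]
      exact (inf_eq_right.2 (hD ▸ hc)).symm
    have hDb : D ≤ f ⁻¹ᵁ Y.basicOpen b := hD ▸ hc.trans (hc₀.trans inf_le_right)
    obtain ⟨c₁, hc₁⟩ : ∃ c₁ : Γ(X, U₁), D = X.basicOpen c₁ := by
      obtain ⟨c₁, hc₁⟩ := (hU₁.basicOpen_basicOpen_is_basicOpen c₀
        (X.presheaf.map (homOfLE (hc₀.trans inf_le_left)).op c) :)
      exact ⟨c₁, hc'.trans hc₁.symm⟩
    letI := (f.appLE V₁ U₁ e₁).hom.toAlgebra
    letI : Algebra Γ(Y, V) Γ(Y, Y.basicOpen b) := (Y.presheaf.map (homOfLE (Y.basicOpen_le b)).op).hom.toAlgebra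
    have hbV₁ : Y.basicOpen b ≤ V₁ := hbb.trans_le (Y.basicOpen_le b₁)
    letI : Algebra Γ(Y, V₁) Γ(Y, Y.basicOpen b) := (Y.presheaf.map (homOfLE hbV₁).op).hom.toAlgebra
    haveI : IsLocalization.Away b Γ(Y, Y.basicOpen b) := hV.isLocalization_basicOpen b
    haveI : IsLocalization.Away b₁ Γ(Y, Y.basicOpen b) := hV₁.isLocalization_of_eq_basicOpen b₁ (homOfLE hbV₁) hbb
    letI : Algebra Γ(X, U) Γ(X, D) := (X.presheaf.map (homOfLE (hD.trans_le (X.basicOpen_le c))).op).hom.toAlgebra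
    letI : Algebra Γ(X, U₁) Γ(X, D) := (X.presheaf.map (homOfLE hDU₁).op).hom.toAlgebra
    haveI : IsLocalization.Away c Γ(X, D) := hU.isLocalization_of_eq_basicOpen c _ hD
    haveI : IsLocalization.Away c₁ Γ(X, D) := hU₁.isLocalization_of_eq_basicOpen c₁ _ hc₁
    letI : Algebra Γ(Y, V₁) Γ(X, D) := (f.appLE V₁ D (hDU₁.trans e₁)).hom.toAlgebra
    letI : Algebra Γ(Y, Y.basicOpen b) Γ(X, D) := (f.appLE (Y.basicOpen b) D hDb).hom.toAlgebra
    letI : Algebra Γ(Y, V) Γ(X, D) := (f.appLE V D ((hD.trans_le (X.basicOpen_le c)).trans e)).hom.toAlgebra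
    haveI : IsScalarTower Γ(Y, V₁) Γ(X, U₁) Γ(X, D) := .of_algebraMap_eq' <| by
      show _ = (f.appLE V₁ U₁ e₁ ≫ X.presheaf.map _).hom
      rw [Scheme.Hom.appLE_map]; rfl
    haveI : IsScalarTower Γ(Y, V₁) Γ(Y, Y.basicOpen b) Γ(X, D) := .of_algebraMap_eq' <| by
      show _ = (Y.presheaf.map _ ≫ f.appLE (Y.basicOpen b) D hDb).hom
      rw [Scheme.Hom.map_appLE]; rfl
    haveI : IsScalarTower Γ(Y, V) Γ(Y, Y.basicOpen b) Γ(X, D) := .of_algebraMap_eq' <| by
      show _ = (Y.presheaf.map _ ≫ f.appLE (Y.basicOpen b) D hDb).hom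
      rw [Scheme.Hom.map_appLE]; rfl
    haveI : IsScalarTower Γ(Y, V) Γ(X, U) Γ(X, D) := .of_algebraMap_eq' <| by
      show _ = (f.appLE V U e ≫ X.presheaf.map _).hom
      rw [Scheme.Hom.appLE_map]; rfl
    have h1 : LCI.IsLCI Γ(Y, V₁) Γ(X, D) := isLCI_away h c₁ _
    haveI : Algebra.Etale Γ(Y, V₁) Γ(Y, Y.basicOpen b) := Algebra.Etale.of_isLocalizationAway b₁
    haveI : Algebra.Etale Γ(Y, V) Γ(Y, Y.basicOpen b) := Algebra.Etale.of_isLocalizationAway b
    have h2 : LCI.IsLCI Γ(Y, Y.basicOpen b) Γ(X, D) := isLCI_cancel_etale (A := Γ(Y, V₁)) h1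
    have h3 : LCI.IsLCI Γ(Y, V) Γ(X, D) := isLCI_trans (isLCI_of_smooth) h2
    exact isLCI_congr ((IsLocalization.algEquiv (Submonoid.powers c) Γ(X, D) (Localization.Away c)).restrictScalars Γ(Y, V)) h3
  · rintro ⟨c, hc, h⟩
    have hxc : x ∈ X.basicOpen c := (SyntLCI.mem_basicOpen_iff_notMem hU ⟨x, hx⟩ c).2 hc
    letI : Algebra Γ(X, U) Γ(X, X.basicOpen c) := (X.presheaf.map (homOfLE (X.basicOpen_le c)).op).hom.toAlgebra
    haveI : IsLocalization.Away c Γ(X, X.basicOpen c) := hU.isLocalization_basicOpen c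
    refine ⟨X.basicOpen c, V, (X.basicOpen_le c).trans e, hU.basicOpen c, hV, hxc, ?_⟩
    letI algD : Algebra Γ(Y, V) Γ(X, X.basicOpen c) := (f.appLE V (X.basicOpen c) ((X.basicOpen_le c).trans e)).hom.toAlgebra
    haveI : IsScalarTower Γ(Y, V) Γ(X, U) Γ(X, X.basicOpen c) := .of_algebraMap_eq' <| by
      show _ = (f.appLE V U e ≫ X.presheaf.map _).hom
      rw [Scheme.Hom.appLE_map]; rfl
    exact isLCI_congr ((IsLocalization.algEquiv (Submonoid.powers c) (Localization.Away c) Γ(X, X.basicOpen c)).restrictScalars Γ(Y, V)) h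

theorem algebraIsPushout_of_isPullback {W X Y S : Scheme.{u}} {p : W ⟶ X} {p₂ : W ⟶ Y} {a : X ⟶ S} {b : Y ⟶ S}
    (H : IsPullback p p₂ a b) {US : S.Opens} {UT : Y.Opens} {UX : X.Opens} (hUST : UT ≤ b ⁻¹ᵁ US)
    (hUSX : UX ≤ a ⁻¹ᵁ US) (hUS : IsAffineOpen US) (hUT : IsAffineOpen UT) (hUX : IsAffineOpen UX) {UY : W.Opens}
    (hUY : UY = p ⁻¹ᵁ UX ⊓ p₂ ⁻¹ᵁ UT) :
    IsPushout (a.appLE US UX hUSX) (b.appLE US UT hUST) (p.appLE UX UY (by simp [hUY]))
      (p₂.appLE UT UY (by simp [hUY])) :=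
  (isIso_pushoutSection_iff H hUST hUSX hUY).1 (isIso_pushoutSection_of_isAffineOpen H hUST hUSX hUY hUS hUT hUX)

/-- The LCI locus over a base commutes with base change. -/
theorem lciAt_baseChange_iff {S X' Y' S' : Scheme.{u}} (f : X ⟶ Y) (g : Y ⟶ S) [Flat (f ≫ g)]
    [LocallyOfFinitePresentation (f ≫ g)] [Flat g] [LocallyOfFinitePresentation g]
    (h : S' ⟶ S) (gY : Y' ⟶ Y) (g' : Y' ⟶ S') (hY : IsPullback gY g' g h)
    (gX : X' ⟶ X) (f' : X' ⟶ Y') (hX : IsPullback gX (f' ≫ g') (f ≫ g) h) (w : gX ≫ f = f' ≫ gY) (x' : X') :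
    LCIAt f' x' ↔ LCIAt f (gX x') := by
  have hpt : h (g' (f' x')) = g (f (gX x')) := by
    have := congrArg (fun φ : X' ⟶ S => φ x') hX.w
    simpa [Scheme.Hom.comp_apply] using this.symm
  obtain ⟨V, hV, hxV, -⟩ := exists_isAffineOpen_mem_and_subset (x := g (f (gX x'))) (U := ⊤) trivial
  obtain ⟨W, hW, hxW, eW⟩ := exists_isAffineOpen_mem_and_subset (x := f (gX x')) (U := g ⁻¹ᵁ V) hxV
  obtain ⟨U, hU, hxU, eU⟩ := exists_isAffineOpen_mem_and_subset (x := gX x') (U := f ⁻¹ᵁ W) hxW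
  obtain ⟨V', hV', hxV', eV'⟩ := exists_isAffineOpen_mem_and_subset (x := g' (f' x')) (U := h ⁻¹ᵁ V)
    (show h (g' (f' x')) ∈ V by rw [hpt]; exact hxV)
  replace eW : W ≤ g ⁻¹ᵁ V := eW
  replace eU : U ≤ f ⁻¹ᵁ W := eU
  replace eV' : V' ≤ h ⁻¹ᵁ V := eV'
  have eUV : U ≤ (f ≫ g) ⁻¹ᵁ V := fun y hy => eW (eU hy)
  let W' := gY ⁻¹ᵁ W ⊓ g' ⁻¹ᵁ V'
  let U' := gX ⁻¹ᵁ U ⊓ (f' ≫ g') ⁻¹ᵁ V'
  have eU' : U' ≤ f' ⁻¹ᵁ W' := fun y hy => by
    refine ⟨?_, hy.2⟩
    show gY (f' y) ∈ W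
    rw [← Scheme.Hom.comp_apply, ← w]
    exact eU hy.1
  haveI : IsAffine _ := hV
  haveI : IsAffine _ := hV'
  haveI : IsAffine _ := hW
  haveI : IsAffine _ := hU
  have hW' : IsAffineOpen W' :=
    .of_isIso (Scheme.Hom.isPullback_resLE hY (UY := W') eV' eW rfl).isoPullback.hom
  have hU' : IsAffineOpen U' :=
    .of_isIso (Scheme.Hom.isPullback_resLE hX (UY := U') eV' eUV rfl).isoPullback.hom
  have hxU' : x' ∈ U' := ⟨hxU, hxV'⟩
  rw [lciAt_iff f' hU' hW' eU' x' hxU', lciAt_iff f hU hW eU _ hxU]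
  have hpB := algebraIsPushout_of_isPullback hY eV' eW hV hV' hW (UY := W') rfl
  have hpC := algebraIsPushout_of_isPullback hX eV' eUV hV hV' hU (UY := U') rfl
  letI a₁ : Algebra Γ(S, V) Γ(S', V') := (h.appLE V V' eV').hom.toAlgebra
  letI a₂ : Algebra Γ(S, V) Γ(Y, W) := (g.appLE V W eW).hom.toAlgebra
  letI a₃ : Algebra Γ(S, V) Γ(X, U) := ((f ≫ g).appLE V U eUV).hom.toAlgebra
  letI a₄ : Algebra Γ(Y, W) Γ(X, U) := (f.appLE W U eU).hom.toAlgebra
  haveI : IsScalarTower Γ(S, V) Γ(Y, W) Γ(X, U) := .of_algebraMap_eq' <| by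
    show _ = (g.appLE V W eW ≫ f.appLE W U eU).hom
    rw [Scheme.Hom.appLE_comp_appLE]; rfl
  letI b₁ : Algebra Γ(S', V') Γ(Y', W') := (g'.appLE V' W' inf_le_right).hom.toAlgebra
  letI b₂ : Algebra Γ(Y, W) Γ(Y', W') := (gY.appLE W W' inf_le_left).hom.toAlgebra
  letI b₃ : Algebra Γ(S', V') Γ(X', U') := ((f' ≫ g').appLE V' U' inf_le_right).hom.toAlgebra
  letI b₄ : Algebra Γ(X, U) Γ(X', U') := (gX.appLE U U' inf_le_left).hom.toAlgebra
  letI b₅ : Algebra Γ(Y', W') Γ(X', U') := (f'.appLE W' U' eU').hom.toAlgebra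
  letI c₁ : Algebra Γ(S, V) Γ(Y', W') := ((g'.appLE V' W' inf_le_right).hom.comp (h.appLE V V' eV').hom).toAlgebra
  haveI : IsScalarTower Γ(S, V) Γ(S', V') Γ(Y', W') := .of_algebraMap_eq' rfl
  haveI : IsScalarTower Γ(S, V) Γ(Y, W) Γ(Y', W') := .of_algebraMap_eq' (congrArg CommRingCat.Hom.hom hpB.w).symm
  haveI : Algebra.IsPushout Γ(S, V) Γ(S', V') Γ(Y, W) Γ(Y', W') :=
    CommRingCat.isPushout_iff_isPushout.1 hpB.flip
  letI c₂ : Algebra Γ(S, V) Γ(X', U') := (((f' ≫ g').appLE V' U' inf_le_right).hom.comp (h.appLE V V' eV').hom).toAlgebra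
  haveI : IsScalarTower Γ(S, V) Γ(S', V') Γ(X', U') := .of_algebraMap_eq' rfl
  haveI : IsScalarTower Γ(S, V) Γ(X, U) Γ(X', U') := .of_algebraMap_eq' (congrArg CommRingCat.Hom.hom hpC.w).symm
  haveI : IsScalarTower Γ(S', V') Γ(Y', W') Γ(X', U') := .of_algebraMap_eq' <| by
    show _ = (g'.appLE V' W' inf_le_right ≫ f'.appLE W' U' eU').hom
    rw [Scheme.Hom.appLE_comp_appLE]; rfl
  haveI : IsScalarTower Γ(S, V) Γ(Y', W') Γ(X', U') := .of_algebraMap_eq fun z => by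
    rw [IsScalarTower.algebraMap_apply Γ(S, V) Γ(S', V') Γ(X', U'),
      IsScalarTower.algebraMap_apply Γ(S, V) Γ(S', V') Γ(Y', W'),
      IsScalarTower.algebraMap_apply Γ(S', V') Γ(Y', W') Γ(X', U')]
  haveI : Algebra.IsPushout Γ(S, V) Γ(S', V') Γ(X, U) Γ(X', U') :=
    CommRingCat.isPushout_iff_isPushout.1 hpC.flip
  letI c₃ : Algebra Γ(Y, W) Γ(X', U') := ((gX.appLE U U' inf_le_left).hom.comp (f.appLE W U eU).hom).toAlgebra
  haveI : IsScalarTower Γ(Y, W) Γ(X, U) Γ(X', U') := .of_algebraMap_eq' rfl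
  haveI : IsScalarTower Γ(Y, W) Γ(Y', W') Γ(X', U') := .of_algebraMap_eq' <| by
    show (f.appLE W U eU ≫ gX.appLE U U' inf_le_left).hom = (gY.appLE W W' inf_le_left ≫ f'.appLE W' U' eU').hom
    rw [Scheme.Hom.appLE_comp_appLE, Scheme.Hom.appLE_comp_appLE]
    simp only [w]
  haveI : Algebra.IsPushout Γ(S, V) Γ(Y, W) Γ(S', V') Γ(Y', W') := Algebra.IsPushout.symm inferInstance
  haveI : Algebra.IsPushout Γ(S, V) Γ(X, U) Γ(S', V') Γ(X', U') := Algebra.IsPushout.symm inferInstance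
  haveI : Algebra.IsPushout Γ(Y, W) Γ(Y', W') Γ(X, U) Γ(X', U') := Algebra.IsPushout.symm <|
    (Algebra.IsPushout.comp_iff (R := Γ(S, V)) (S := Γ(Y, W)) (R' := Γ(S', V')) (S' := Γ(Y', W'))
      (T := Γ(X, U))).1 inferInstance
  haveI : Algebra.FinitePresentation Γ(S, V) Γ(Y, W) :=
    (HasRingHomProperty.appLE (P := @LocallyOfFinitePresentation) g ‹_› ⟨V, hV⟩ ⟨W, hW⟩ eW :)
  haveI : Algebra.FinitePresentation Γ(S, V) Γ(X, U) :=
    (HasRingHomProperty.appLE (P := @LocallyOfFinitePresentation) (f ≫ g) ‹_› ⟨V, hV⟩ ⟨U, hU⟩ eUV :)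
  haveI : Module.Flat Γ(S, V) Γ(Y, W) := (HasRingHomProperty.appLE (P := @Flat) g ‹_› ⟨V, hV⟩ ⟨W, hW⟩ eW :)
  haveI : Module.Flat Γ(S, V) Γ(X, U) := (HasRingHomProperty.appLE (P := @Flat) (f ≫ g) ‹_› ⟨V, hV⟩ ⟨U, hU⟩ eUV :)
  haveI : Algebra.FinitePresentation Γ(Y, W) Γ(X, U) :=
    Algebra.FinitePresentation.of_restrict_scalars_finitePresentation Γ(S, V) Γ(Y, W) Γ(X, U)
  rw [exists_isLCI_away_baseChange Γ(S, V) Γ(S', V') Γ(Y, W) Γ(Y', W') Γ(X, U) Γ(X', U')
    (hU'.primeIdealOf ⟨x', hxU'⟩).asIdeal]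
  have hprime : (hU'.primeIdealOf ⟨x', hxU'⟩).asIdeal.comap (algebraMap Γ(X, U) Γ(X', U')) =
      (hU.primeIdealOf ⟨gX x', hxU⟩).asIdeal := by
    ext a
    rw [Ideal.mem_comap, ← not_iff_not, ← SyntLCI.mem_basicOpen_iff_notMem hU' ⟨x', hxU'⟩,
      ← SyntLCI.mem_basicOpen_iff_notMem hU ⟨gX x', hxU⟩]
    show x' ∈ X'.basicOpen (gX.appLE U U' inf_le_left a) ↔ x' ∈ gX ⁻¹ᵁ X.basicOpen a
    rw [Scheme.basicOpen_appLE, Scheme.preimage_basicOpen]
    exact ⟨fun h => h.2, fun h => ⟨hxU', h⟩⟩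
  rw [hprime]

theorem isOpen_lciAt (f : X ⟶ Y) : IsOpen {x | LCIAt f x} :=
  isOpen_iff_forall_mem_open.2 fun _ ⟨U, V, e, hU, hV, hx, h⟩ =>
    ⟨U, fun _ hy => ⟨U, V, e, hU, hV, hy, h⟩, U.2, hx⟩

end Groth.Agent.LCIPres
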