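import Groth.Agent.LCIPres.KoszulAt
import Groth.Agent.LCIPres.Smooth
import Groth.Agent.SyntLCI.KoszulMor
import Mathlib

/-!
# An immersion into a smooth scheme is Koszul regular exactly at the LCI points
-/

set_option autoImplicit false
set_option linter.style.haveILetI false
set_option maxHeartbeats 400000

universe u

open AlgebraicGeometry CategoryTheory

namespace Groth.Agent.LCIPres

theorem isClosedImmersion_restrict_coborder {X Y : Scheme.{u}} (i : X ⟶ Y) [IsImmersion i] (W : Y.Opens)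
    (hW : W ≤ i.coborderRange) : IsClosedImmersion (i ∣_ W) := by
  haveI : IsImmersion (i ∣_ W) := IsZariskiLocalAtTarget.restrict ‹_› W
  refine .of_isPreimmersion _ ?_
  have h : Set.range (i ∣_ W) = (Subtype.val : W → Y) ⁻¹' Set.range i := by
    ext y
    constructor
    · rintro ⟨z, rfl⟩
      exact ⟨z.1, (morphismRestrict_base_coe i W z).symm⟩
    · rintro ⟨z, hz⟩
      exact ⟨⟨z, show i z ∈ W from hz ▸ y.2⟩, Subtype.ext ((morphismRestrict_base_coe i W _).trans hz)⟩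
  rw [h]
  exact (isClosed_preimage_val_coborder (s := Set.range i)).preimage (continuous_inclusion (hW : (W : Set Y) ⊆ coborder (Set.range i)))

theorem app_surjective_of_restrict {X Y : Scheme.{u}} (i : X ⟶ Y) (W : Y.Opens) [IsClosedImmersion (i ∣_ W)]
    [IsAffine (W : Scheme.{u})] : Function.Surjective (i.app W).hom := by
  have h1 := (i ∣_ W).app_surjective ⊤ (isAffineOpen_top _)
  rw [morphismRestrict_app] at h1
  have h2 : Function.Surjective (i.app (W.ι ''ᵁ ⊤)) :=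
    ((Function.Surjective.of_comp_iff' (ConcreteCategory.bijective_of_isIso
      (X.presheaf.map (eqToHom (image_morphismRestrict_preimage i W ⊤)).op)) _).1 h1)
  have key : ∀ W'' : Y.Opens, W'' = W → Function.Surjective (i.app W'') → Function.Surjective (i.app W).hom := by
    rintro _ rfl h3; exact h3
  exact key _ W.ι_image_top h2

theorem ker_app_basicOpen {X Y : Scheme.{u}} (i : X ⟶ Y) {W : Y.Opens} (hW : IsAffineOpen W)
    (hiW : IsAffineOpen (i ⁻¹ᵁ W)) (c : Γ(Y, W)) :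
    RingHom.ker (i.app (Y.basicOpen c)).hom =
      (RingHom.ker (i.app W).hom).map (Y.presheaf.map (homOfLE (Y.basicOpen_le c)).op).hom := by
  have hpre'' : i ⁻¹ᵁ Y.basicOpen c = X.basicOpen (i.app W c) := Scheme.preimage_basicOpen i c
  letI algW : Algebra Γ(Y, W) Γ(Y, Y.basicOpen c) := (Y.presheaf.map (homOfLE (Y.basicOpen_le c)).op).hom.toAlgebra
  haveI : IsLocalization.Away c Γ(Y, Y.basicOpen c) := hW.isLocalization_basicOpen c
  letI algB'' : Algebra Γ(X, i ⁻¹ᵁ W) Γ(X, i ⁻¹ᵁ Y.basicOpen c) :=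
    (X.presheaf.map (homOfLE (i.preimage_mono (Y.basicOpen_le c))).op).hom.toAlgebra
  haveI : IsLocalization ((Submonoid.powers c).map (i.app W).hom) Γ(X, i ⁻¹ᵁ Y.basicOpen c) := by
    rw [Submonoid.map_powers]
    exact hiW.isLocalization_of_eq_basicOpen _ _ hpre''
  have hsq : (i.app (Y.basicOpen c)).hom.comp (algebraMap Γ(Y, W) Γ(Y, Y.basicOpen c)) =
      (algebraMap Γ(X, i ⁻¹ᵁ W) Γ(X, i ⁻¹ᵁ Y.basicOpen c)).comp (i.app W).hom :=
    congrArg CommRingCat.Hom.hom (i.naturality (homOfLE (Y.basicOpen_le c)).op)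
  have happ : (i.app (Y.basicOpen c)).hom =
      IsLocalization.map Γ(X, i ⁻¹ᵁ Y.basicOpen c) (i.app W).hom (Submonoid.powers c).le_comap_map :=
    IsLocalization.ringHom_ext (Submonoid.powers c) (hsq.trans (RingHom.ext fun a =>
      (IsLocalization.map_eq (M := Submonoid.powers c) (Submonoid.powers c).le_comap_map a).symm))
  rw [happ, IsLocalization.ker_map Γ(X, i ⁻¹ᵁ Y.basicOpen c) (i.app W).hom rfl]
  rfl

theorem exists_koszul_nhd_of_lciAt {S U P : Scheme.{u}} (q : U ⟶ S) (p : P ⟶ S) [Smooth p] (i : U ⟶ P) [IsImmersion i]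
    (hi : i ≫ p = q) (u : U) (h : LCIAt q u) :
    ∃ O : U.Opens, u ∈ O ∧ RegImm.IsRegularImmersion RegImm.Kind.koszul (O.ι ≫ i) := by
  classical
  obtain ⟨U₁, V, e, hU₁, hV, huU₁, hlci⟩ := h
  obtain ⟨O', hO', hO'U⟩ := i.isEmbedding.isInducing.isOpen_iff.1 U₁.2
  have hu1 : i u ∈ i.coborderRange ⊓ ⟨O', hO'⟩ ⊓ p ⁻¹ᵁ V := by
    refine ⟨⟨subset_coborder ⟨u, rfl⟩, ?_⟩, ?_⟩
    · show u ∈ i ⁻¹' O'
      rw [hO'U]; exact huU₁
    · show p (i u) ∈ V
      rw [← Scheme.Hom.comp_apply, hi]; exact e huU₁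
  obtain ⟨W, hW, huW, hWle⟩ := TopologicalSpace.Opens.isBasis_iff_nbhd.1 P.isBasis_affineOpens hu1
  haveI := isClosedImmersion_restrict_coborder i W (hWle.trans (inf_le_left.trans inf_le_left))
  haveI : IsAffine (W : Scheme.{u}) := hW
  have hiW : IsAffineOpen (i ⁻¹ᵁ W) := isAffine_of_isAffineHom (i ∣_ W)
  have hsurjW : Function.Surjective (i.app W).hom := app_surjective_of_restrict i W
  obtain ⟨b, b₁, hbb, hub⟩ := exists_basicOpen_le_affine_inter hiW hU₁ u ⟨huW, huU₁⟩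
  obtain ⟨h, rfl⟩ := hsurjW b
  let W' := P.basicOpen h
  have hW' : IsAffineOpen W' := hW.basicOpen h
  haveI := isClosedImmersion_restrict_coborder i W' ((P.basicOpen_le h).trans (hWle.trans (inf_le_left.trans inf_le_left)))
  have hpre : i ⁻¹ᵁ W' = U.basicOpen b₁ := (Scheme.preimage_basicOpen i h).trans hbb
  haveI : IsAffine (W' : Scheme.{u}) := hW'
  have hiW' : IsAffineOpen (i ⁻¹ᵁ W') := isAffine_of_isAffineHom (i ∣_ W')
  have e₁ : W' ≤ p ⁻¹ᵁ V := (P.basicOpen_le h).trans (hWle.trans inf_le_right)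
  have e₂ : i ⁻¹ᵁ W' ≤ q ⁻¹ᵁ V := hpre.trans_le ((U.basicOpen_le b₁).trans e)
  letI algU₁ : Algebra Γ(S, V) Γ(U, U₁) := (q.appLE V U₁ e).hom.toAlgebra
  have hleU : i ⁻¹ᵁ W' ≤ U₁ := hpre.trans_le (U.basicOpen_le b₁)
  letI algUB : Algebra Γ(U, U₁) Γ(U, i ⁻¹ᵁ W') := (U.presheaf.map (homOfLE hleU).op).hom.toAlgebra
  haveI : IsLocalization.Away b₁ Γ(U, i ⁻¹ᵁ W') := hU₁.isLocalization_of_eq_basicOpen b₁ (homOfLE hleU) hpre
  letI algC : Algebra Γ(S, V) Γ(P, W') := (p.appLE V W' e₁).hom.toAlgebra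
  letI algB : Algebra Γ(S, V) Γ(U, i ⁻¹ᵁ W') := (q.appLE V (i ⁻¹ᵁ W') e₂).hom.toAlgebra
  haveI : IsScalarTower Γ(S, V) Γ(U, U₁) Γ(U, i ⁻¹ᵁ W') := IsScalarTower.of_algebraMap_eq' (by
    show (q.appLE V (i ⁻¹ᵁ W') e₂).hom = (q.appLE V U₁ e ≫ U.presheaf.map _).hom
    rw [Scheme.Hom.appLE_map])
  letI algCB : Algebra Γ(P, W') Γ(U, i ⁻¹ᵁ W') := (i.app W').hom.toAlgebra
  haveI : IsScalarTower Γ(S, V) Γ(P, W') Γ(U, i ⁻¹ᵁ W') := IsScalarTower.of_algebraMap_eq' (by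
    show (q.appLE V (i ⁻¹ᵁ W') e₂).hom = (p.appLE V W' e₁ ≫ i.app W').hom
    rw [i.app_eq_appLE, Scheme.Hom.appLE_comp_appLE]
    simp only [hi])
  haveI : Algebra.Smooth Γ(S, V) Γ(P, W') := p.smooth_appLE hV hW' e₁
  have hCB : LCI.IsLCI Γ(P, W') Γ(U, i ⁻¹ᵁ W') :=
    isLCI_cancel_smooth (A := Γ(S, V)) (isLCI_away hlci b₁ Γ(U, i ⁻¹ᵁ W'))
  have hsurj : Function.Surjective (algebraMap Γ(P, W') Γ(U, i ⁻¹ᵁ W')) := app_surjective_of_restrict i W'
  have hKR : LCI.IsKoszulRegularIdeal (RingHom.ker (algebraMap Γ(P, W') Γ(U, i ⁻¹ᵁ W'))) := by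
    let v : Fin 0 → Γ(U, i ⁻¹ᵁ W') := finZeroElim
    let ε := MvPolynomial.isEmptyAlgEquiv Γ(P, W') (Fin 0)
    have hc : (MvPolynomial.aeval (R := Γ(P, W')) v).toRingHom =
        (algebraMap Γ(P, W') Γ(U, i ⁻¹ᵁ W')).comp ε.toRingEquiv.toRingHom := by
      refine MvPolynomial.ringHom_ext (fun a => ?_) fun j => j.elim0
      change MvPolynomial.aeval (R := Γ(P, W')) v (algebraMap Γ(P, W') _ a) =
        algebraMap Γ(P, W') Γ(U, i ⁻¹ᵁ W') (ε (algebraMap Γ(P, W') _ a))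
      rw [AlgHom.commutes, ε.commutes]
      rfl
    have hv : Function.Surjective (MvPolynomial.aeval (R := Γ(P, W')) v) := by
      change Function.Surjective (MvPolynomial.aeval (R := Γ(P, W')) v).toRingHom
      rw [hc]
      exact hsurj.comp ε.surjective
    have h1 := (isLCI_iff hv).1 hCB
    rw [KPres, hc, ← RingHom.comap_ker, kreg_comap_equiv] at h1
    exact h1
  have huW' : i u ∈ W' := by
    show u ∈ i ⁻¹ᵁ W'
    rw [hpre, ← hbb]
    exact hub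
  have hle : RingHom.ker (algebraMap Γ(P, W') Γ(U, i ⁻¹ᵁ W')) ≤ (hW'.primeIdealOf ⟨i u, huW'⟩).asIdeal := fun a ha => by
    by_contra hna
    have h2 := (SyntLCI.mem_basicOpen_iff_notMem hW' ⟨i u, huW'⟩ a).2 hna
    have h3 : u ∈ U.basicOpen (i.app W' a) := (Scheme.preimage_basicOpen i a).le h2
    rw [show i.app W' a = 0 from ha, Scheme.basicOpen_zero] at h3
    exact h3
  obtain ⟨c, hc, N, g, hg, hspan⟩ := (isKoszulRegularIdeal_iff _).1 hKR _ inferInstance hle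
  let W'' := P.basicOpen c
  have hW'' : IsAffineOpen W'' := hW'.basicOpen c
  letI algW : Algebra Γ(P, W') Γ(P, W'') := (P.presheaf.map (homOfLE (P.basicOpen_le c)).op).hom.toAlgebra
  haveI : IsLocalization.Away c Γ(P, W'') := hW'.isLocalization_basicOpen c
  haveI := isClosedImmersion_restrict_coborder i W''
    ((P.basicOpen_le c).trans ((P.basicOpen_le h).trans (hWle.trans (inf_le_left.trans inf_le_left))))
  obtain ⟨g', hg', hspan'⟩ := data_of_dvd (dvd_refl c) Γ(P, W'') hg hspan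
  have hkerW : RingHom.ker (i.app W'').hom = Ideal.span (Set.range g') :=
    (ker_app_basicOpen i hW' hiW' c).trans hspan'
  refine ⟨i ⁻¹ᵁ W'', (SyntLCI.mem_basicOpen_iff_notMem hW' ⟨i u, huW'⟩ c).2 hc, inferInstance, fun z => ?_⟩
  let O : U.Opens := i ⁻¹ᵁ W''
  have htop : (O.ι ≫ i) ⁻¹ᵁ W'' = ⊤ := top_le_iff.1 fun y _ => y.2
  refine ⟨⟨W'', hW''⟩, z.2, ?_, List.ofFn g', (KoszulExt.isExact_iff g').1 hg', ?_⟩
  · haveI hiso : IsIso (O.ι ∣_ (i ⁻¹ᵁ W'')) := by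
      haveI : IsOpenImmersion (O.ι ∣_ (i ⁻¹ᵁ W'')) := IsZariskiLocalAtTarget.restrict (inferInstance : IsOpenImmersion O.ι) _
      haveI : Surjective (O.ι ∣_ (i ⁻¹ᵁ W'')) := ⟨fun y =>
        ⟨⟨⟨y.1, y.2⟩, y.2⟩, Subtype.ext (morphismRestrict_base_coe O.ι _ _)⟩⟩
      exact (isIso_iff_isOpenImmersion_and_surjective _).mpr ⟨inferInstance, inferInstance⟩
    show IsClosedImmersion ((O.ι ≫ i) ∣_ W'')
    rw [morphismRestrict_comp]
    exact @MorphismProperty.RespectsIso.precomp _ _ (@IsClosedImmersion : MorphismProperty Scheme) _ _ _ _ _ hiso _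
      ‹IsClosedImmersion (i ∣_ W'')›
  · show RingHom.ker ((O.ι ≫ i).app W'').hom = _
    haveI : IsIso (O.ι.app (i ⁻¹ᵁ W'')) := O.ι.isIso_app _ (by rw [Scheme.Opens.opensRange_ι])
    have hbij : Function.Bijective (O.ι.app (i ⁻¹ᵁ W'')).hom :=
      ConcreteCategory.bijective_of_isIso _
    show RingHom.ker ((O.ι.app (i ⁻¹ᵁ W'')).hom.comp (i.app W'').hom) = _
    rw [← RingHom.comap_ker, (RingHom.injective_iff_ker_eq_bot _).1 hbij.1,
      ← RingHom.ker_eq_comap_bot, hkerW, NLAmp.ofList_ofFn]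

theorem lciAt_of_koszul {S U P : Scheme.{u}} (q : U ⟶ S) (p : P ⟶ S) [Smooth p] (i : U ⟶ P) (hi : i ≫ p = q) (u : U)
    (O : U.Opens) (hu : u ∈ O) (h : RegImm.IsRegularImmersion RegImm.Kind.koszul (O.ι ≫ i)) : LCIAt q u := by
  haveI := h.1
  refine lciAt_of_isKoszulAt ⟨O, P, O.ι ≫ i, p, hu, ?_, h, inferInstance, by rw [Category.assoc, hi]⟩
  rw [← hi, ← Category.assoc]
  infer_instance

theorem koszul_nhd_iff {S U P P' : Scheme.{u}} (q : U ⟶ S) (p : P ⟶ S) (p' : P' ⟶ S) [Smooth p] [Smooth p']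
    (i : U ⟶ P) (i' : U ⟶ P') [IsImmersion i] [IsImmersion i'] (hi : i ≫ p = q) (hi' : i' ≫ p' = q) (u : U) :
    (∃ V : U.Opens, u ∈ V ∧ RegImm.IsRegularImmersion RegImm.Kind.koszul (V.ι ≫ i)) ↔
      (∃ V : U.Opens, u ∈ V ∧ RegImm.IsRegularImmersion RegImm.Kind.koszul (V.ι ≫ i')) :=
  ⟨fun ⟨O, hu, h⟩ => exists_koszul_nhd_of_lciAt q p' i' hi' u (lciAt_of_koszul q p i hi u O hu h),
    fun ⟨O, hu, h⟩ => exists_koszul_nhd_of_lciAt q p i hi u (lciAt_of_koszul q p' i' hi' u O hu h)⟩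

end Groth.Agent.LCIPres
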