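import Groth.Agent.LCIPres.Map
import Groth.Agent.KoszulExt.Homology
import Groth.Agent.KoszulExt.MinLength
import Groth.Prelude.Def_LCI2
import Mathlib.RingTheory.Localization.Away.Basic
import Mathlib.RingTheory.Localization.Ideal
import Mathlib.RingTheory.Derivation.Basic
import Mathlib.RingTheory.RingHom.Flat

/-!
# Koszul-regular ideals along surjections with Koszul-regular kernel
-/

set_option autoImplicit false
set_option maxHeartbeats 400000

noncomputable section

universe u

namespace Groth.Agent.LCIPres

open KoszulExt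

/-- Where the two blocks of `cat` sit. -/
def catEquiv (m n : ℕ) : Fin m ⊕ Fin n ≃ Fin (n + m) :=
  finSumFinEquiv.trans (finCongr (Nat.add_comm m n))

theorem cat_catEquiv {A : Type u} [CommRing A] {n : ℕ} (g : Fin n → A) : ∀ {m : ℕ} (f : Fin m → A)
    (x : Fin m ⊕ Fin n), cat f g (catEquiv m n x) = Sum.elim f g x := by
  intro m
  induction m with
  | zero =>
    intro f x
    rcases x with j | j
    · exact j.elim0
    · exact congrArg g (Fin.ext (by simp [catEquiv]))
  | succ m ih =>
    intro f x
    rcases x with j | j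
    · cases j using Fin.cases with
      | zero => exact congrArg _ (show catEquiv (m + 1) n (Sum.inl 0) = (0 : Fin (n + m + 1)) from Fin.ext (by simp [catEquiv])) |>.trans rfl
      | succ j =>
        rw [show catEquiv (m + 1) n (Sum.inl j.succ) = (catEquiv m n (Sum.inl j)).succ from Fin.ext (by simp [catEquiv])]
        exact ih (fun i => f i.succ) (Sum.inl j)
    · rw [show catEquiv (m + 1) n (Sum.inr j) = (catEquiv m n (Sum.inr j)).succ from Fin.ext (by simp [catEquiv]; omega)]
      exact ih (fun i => f i.succ) (Sum.inr j)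

variable {R S : Type u} [CommRing R] [CommRing S]

/-- `I` is generated by an exact sequence near `p`. -/
def KRAt (I p : Ideal R) : Prop :=
  ∃ h : R, h ∉ p ∧ ∃ (n : ℕ) (g : Fin n → Localization.Away h), IsExact g ∧
    I.map (algebraMap R (Localization.Away h)) = Ideal.span (Set.range g)

theorem setOf_mem_ofFn {α : Type u} {n : ℕ} (g : Fin n → α) : {x | x ∈ List.ofFn g} = Set.range g := by
  ext x; exact List.mem_ofFn

theorem isKoszulRegularIdeal_iff (I : Ideal R) :
    LCI.IsKoszulRegularIdeal I ↔ ∀ p : Ideal R, p.IsPrime → I ≤ p → KRAt I p := by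
  constructor
  · intro h p hp hIp
    obtain ⟨g, hg, l, hl, hspan⟩ := h ⟨p, hp⟩ hIp
    refine ⟨g, hg, l.length, l.get, (isExact_iff _).2 (by rwa [List.ofFn_get]), ?_⟩
    rw [hspan, ← setOf_mem_ofFn, List.ofFn_get]
  · intro h p hIp
    obtain ⟨g, hg, n, f, hf, hspan⟩ := h p.asIdeal p.2 hIp
    exact ⟨g, hg, List.ofFn f, (isExact_iff f).1 hf, by rw [hspan, setOf_mem_ofFn]⟩

/-- Data on any localisation give `KRAt`. -/
theorem KRAt.mk' {I p : Ideal R} (h : R) (hp : h ∉ p) (L : Type u) [CommRing L] [Algebra R L]
    [IsLocalization.Away h L] {n : ℕ} (g : Fin n → L) (hg : IsExact g)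
    (hspan : I.map (algebraMap R L) = Ideal.span (Set.range g)) : KRAt I p := by
  let e := IsLocalization.algEquiv (Submonoid.powers h) L (Localization.Away h)
  refine ⟨h, hp, n, fun i => e.toRingEquiv (g i), isExact_equiv e.toRingEquiv hg, ?_⟩
  rw [← AlgHom.comp_algebraMap e.toAlgHom, ← Ideal.map_map, hspan, Ideal.map_span, ← Set.range_comp]
  rfl

/-- Data restrict to smaller basic opens. -/
theorem data_of_dvd {I : Ideal R} {h h' : R} (hd : h ∣ h') (L' : Type u) [CommRing L'] [Algebra R L']
    [IsLocalization.Away h' L'] {n : ℕ} {g : Fin n → Localization.Away h} (hg : IsExact g)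
    (hspan : I.map (algebraMap R (Localization.Away h)) = Ideal.span (Set.range g)) :
    ∃ g' : Fin n → L', IsExact g' ∧ I.map (algebraMap R L') = Ideal.span (Set.range g') := by
  let L := Localization.Away h
  have hu : IsUnit (algebraMap R L' h) :=
    isUnit_of_dvd_unit (map_dvd _ hd) (IsLocalization.Away.algebraMap_isUnit h')
  let : Algebra L L' := (IsLocalization.Away.lift (S := L) h hu).toAlgebra
  have : IsScalarTower R L L' := .of_algebraMap_eq fun z => (IsLocalization.Away.lift_eq h hu z).symm
  have : Module.Flat R L' := IsLocalization.flat L' (Submonoid.powers h')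
  have : Module.Flat L L' := (Module.flat_iff_of_isLocalization L (Submonoid.powers h) L').2 inferInstance
  refine ⟨fun i => algebraMap L L' (g i), isExact_of_flat hg, ?_⟩
  rw [IsScalarTower.algebraMap_eq R L L', ← Ideal.map_map, hspan, Ideal.map_span, ← Set.range_comp]
  rfl

/-- Data on a smaller neighbourhood. -/
theorem KRAt.exists_le {I p : Ideal R} [p.IsPrime] (hI : KRAt I p) {h' : R} (hh' : h' ∉ p) :
    ∃ h : R, h ∉ p ∧ h' ∣ h ∧ ∃ (n : ℕ) (g : Fin n → Localization.Away h), IsExact g ∧
      I.map (algebraMap R (Localization.Away h)) = Ideal.span (Set.range g) := by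
  obtain ⟨h, hh, n, g, hg, hspan⟩ := hI
  refine ⟨h * h', fun hm => (Ideal.IsPrime.mem_or_mem ‹_› hm).elim hh hh', dvd_mul_left _ _, n, ?_⟩
  exact data_of_dvd (h' := h * h') (dvd_mul_right _ _) _ hg hspan

/-- Koszul-regular ideals pull forward along flat maps. -/
theorem isKoszulRegularIdeal_map {I : Ideal R} (φ : R →+* S) (hφ : φ.Flat) (hI : LCI.IsKoszulRegularIdeal I) :
    LCI.IsKoszulRegularIdeal (I.map φ) := by
  algebraize [φ]
  rw [isKoszulRegularIdeal_iff] at hI ⊢
  intro q hq hIq
  obtain ⟨h, hh, n, g, hg, hspan⟩ := hI (q.comap φ) (q.comap_isPrime φ) (Ideal.map_le_iff_le_comap.1 hIq)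
  let L := Localization.Away h
  let L' := Localization.Away (φ h)
  let ψ : L →+* L' := Localization.awayMap φ h
  let : Algebra L L' := ψ.toAlgebra
  have hψ : ∀ z, ψ (algebraMap R L z) = algebraMap S L' (φ z) := IsLocalization.map_eq _
  have : IsScalarTower R L L' := .of_algebraMap_eq fun z => (hψ z).symm
  have : Module.Flat S L' := IsLocalization.flat L' (Submonoid.powers (φ h))
  have : Module.Flat R L' := Module.Flat.trans R S L'
  have : Module.Flat L L' := (Module.flat_iff_of_isLocalization L (Submonoid.powers h) L').2 inferInstance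
  refine KRAt.mk' (φ h) hh L' (fun i => algebraMap L L' (g i)) (isExact_of_flat hg) ?_
  rw [Ideal.map_map, show (algebraMap S L').comp φ = ψ.comp (algebraMap R L) from RingHom.ext fun z => (hψ z).symm,
    ← Ideal.map_map, hspan, Ideal.map_span, ← Set.range_comp]
  rfl

/-- Koszul regularity is invariant under ring isomorphisms. -/
theorem isKoszulRegularIdeal_map_equiv (e : R ≃+* S) (I : Ideal R) :
    LCI.IsKoszulRegularIdeal (I.map e.toRingHom) ↔ LCI.IsKoszulRegularIdeal I := by
  refine ⟨fun h => ?_, isKoszulRegularIdeal_map e.toRingHom (RingHom.Flat.of_bijective e.bijective)⟩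
  have h1 := isKoszulRegularIdeal_map e.symm.toRingHom (RingHom.Flat.of_bijective e.symm.bijective) h
  rwa [Ideal.map_map, show e.symm.toRingHom.comp e.toRingHom = RingHom.id R from RingHom.ext e.symm_apply_apply,
    Ideal.map_id] at h1

section Surjection

variable [Algebra R S] (hs : Function.Surjective (algebraMap R S))

include hs

/-- The localised surjection. -/
theorem exists_away_quotient (h : R) :
    ∃ (S' : Type u) (_ : CommRing S') (_ : Algebra S S') (_ : Algebra (Localization.Away h) S'),
      IsLocalization.Away (algebraMap R S h) S' ∧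
      (algebraMap (Localization.Away h) S').comp (algebraMap R (Localization.Away h)) =
        (algebraMap S S').comp (algebraMap R S) ∧
      Function.Surjective (algebraMap (Localization.Away h) S') ∧
      RingHom.ker (algebraMap (Localization.Away h) S') =
        (RingHom.ker (algebraMap R S)).map (algebraMap R (Localization.Away h)) := by
  let ψ : Localization.Away h →+* Localization.Away (algebraMap R S h) := Localization.awayMap (algebraMap R S) h
  have hM : (Submonoid.powers h).map (algebraMap R S) = Submonoid.powers (algebraMap R S h) := Submonoid.map_powers _ _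
  have : IsLocalization ((Submonoid.powers h).map (algebraMap R S)) (Localization.Away (algebraMap R S h)) := by
    rw [hM]; infer_instance
  have hψ : ∀ z, ψ (algebraMap R (Localization.Away h) z) =
      algebraMap S (Localization.Away (algebraMap R S h)) (algebraMap R S z) := IsLocalization.map_eq _
  refine ⟨_, inferInstance, inferInstance, ψ.toAlgebra, inferInstance, RingHom.ext hψ, ?_, ?_⟩
  · exact IsLocalization.map_surjective_of_surjective (Submonoid.powers h) (Localization.Away h) (Localization.Away (algebraMap R S h)) hs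
  · exact IsLocalization.ker_map (Localization.Away (algebraMap R S h)) (algebraMap R S) hM

/-- An ideal over a Koszul-regular kernel is Koszul-regular if its image is. -/
theorem isKoszulRegularIdeal_comap (hker : LCI.IsKoszulRegularIdeal (RingHom.ker (algebraMap R S))) {K : Ideal S}
    (hK : LCI.IsKoszulRegularIdeal K) : LCI.IsKoszulRegularIdeal (K.comap (algebraMap R S)) := by
  rw [isKoszulRegularIdeal_iff] at hker hK ⊢
  intro q hq hKq
  have hkq : RingHom.ker (algebraMap R S) ≤ q := (Ideal.comap_mono bot_le).trans hKq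
  have hqp : (q.map (algebraMap R S)).IsPrime := Ideal.map_isPrime_of_surjective hs hkq
  have hqc : (q.map (algebraMap R S)).comap (algebraMap R S) = q := by
    rw [Ideal.comap_map_of_surjective _ hs, ← RingHom.ker_eq_comap_bot, sup_eq_left.2 hkq]
  have hKq' : K ≤ q.map (algebraMap R S) := by
    rw [← Ideal.map_comap_of_surjective _ hs K]
    exact Ideal.map_mono hKq
  obtain ⟨b, hb, m, f₀, hf₀, hf₀span⟩ := hK _ hqp hKq'
  obtain ⟨t, rfl⟩ := hs b
  have htq : t ∉ q := fun ht => hb (Ideal.mem_map_of_mem _ ht)
  obtain ⟨h, hh, hth, n, g, hg, hgspan⟩ := (hker q hq hkq).exists_le htq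
  obtain ⟨S', _, _, _, hloc, hcomm, hsurj, hker'⟩ := exists_away_quotient hs h
  obtain ⟨f', hf', hfspan⟩ := data_of_dvd (map_dvd (algebraMap R S) hth) S' hf₀ hf₀span
  choose f hf_eq using fun i => hsurj (f' i)
  have hexf : IsExact fun i => algebraMap (Localization.Away h) S' (f i) := by simpa only [hf_eq] using hf'
  have hgk : RingHom.ker (algebraMap (Localization.Away h) S') = Ideal.span (Set.range g) := hker'.trans hgspan
  refine ⟨h, hh, n + m, cat f g, isExact_cat hg ((relExact_iff hsurj hgk f).2 hexf), ?_⟩
  rw [range_cat, Ideal.span_union, ← hgspan]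
  have h1 : ((K.comap (algebraMap R S)).map (algebraMap R (Localization.Away h))).map
      (algebraMap (Localization.Away h) S') = (Ideal.span (Set.range f)).map (algebraMap (Localization.Away h) S') := by
    rw [Ideal.map_map, hcomm, ← Ideal.map_map, Ideal.map_comap_of_surjective _ hs, hfspan, Ideal.map_span,
      ← Set.range_comp]
    exact congrArg _ (congrArg Set.range (funext fun i => (hf_eq i).symm))
  have h2 := congrArg (Ideal.comap (algebraMap (Localization.Away h) S')) h1
  rw [Ideal.comap_map_of_surjective _ hsurj, Ideal.comap_map_of_surjective _ hsurj, ← RingHom.ker_eq_comap_bot, hker',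
    sup_eq_left.2 (Ideal.map_mono (Ideal.comap_mono bot_le))] at h2
  exact h2

/-- The converse for a principal kernel `(s)` generated by a nonzerodivisor which is part of a minimal
generating system of the ideal. -/
theorem isKoszulRegularIdeal_map_of_span_singleton {s : R} (hker : RingHom.ker (algebraMap R S) = Ideal.span {s})
    (hreg : IsSMulRegular R s) {K : Ideal R} (hsK : s ∈ K) (hK : LCI.IsKoszulRegularIdeal K)
    (hmin : ∀ q : Ideal R, q.IsPrime → K ≤ q → ∀ t ∉ q, t * s ∉ q * K) :
    LCI.IsKoszulRegularIdeal (K.map (algebraMap R S)) := by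
  classical
  rw [isKoszulRegularIdeal_iff] at hK ⊢
  intro q' hq' hKq'
  let q := q'.comap (algebraMap R S)
  have hKq : K ≤ q := Ideal.map_le_iff_le_comap.1 hKq'
  have hqp : q.IsPrime := q'.comap_isPrime _
  obtain ⟨h₀, hh₀, N, g₀, hg₀, hg₀span⟩ := hK q hqp hKq
  obtain ⟨c₀, hc₀⟩ := Ideal.mem_span_range_iff_exists_fun.1 (hg₀span.le (Ideal.mem_map_of_mem _ hsK))
  choose a e ha using fun i => IsLocalization.Away.surj h₀ (c₀ i)
  obtain ⟨l, hl⟩ : ∃ l, e l ∉ q ∧ True := by
    by_contra hall
    simp only [and_true, not_exists, not_not] at hall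
    have hs1 : algebraMap R (Localization.Away h₀) s ∈
        (q * K).map (algebraMap R (Localization.Away h₀)) := by
      rw [← hc₀, Ideal.map_mul]
      refine Ideal.sum_mem _ fun i _ => Ideal.mul_mem_mul ?_ (hg₀span ▸ Ideal.subset_span ⟨i, rfl⟩)
      have := Ideal.mem_map_of_mem (algebraMap R (Localization.Away h₀)) (hall i)
      rw [← ha i] at this
      exact (Ideal.mul_unit_mem_iff_mem _ ((IsLocalization.Away.algebraMap_isUnit h₀).pow _)).1 this
    obtain ⟨t, ⟨k, rfl⟩, ht⟩ := (IsLocalization.algebraMap_mem_map_algebraMap_iff (Submonoid.powers h₀) _ _ _).1 hs1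
    exact hmin q hqp hKq _ (fun hm => hh₀ (hqp.mem_of_pow_mem _ hm)) ht
  let h := h₀ * e l
  have hh : h ∉ q := fun hm => (hqp.mem_or_mem hm).elim hh₀ hl.1
  let L₀ := Localization.Away h₀
  let L := Localization.Away h
  have hu : IsUnit (algebraMap R L h₀) := isUnit_of_mul_isUnit_left (y := algebraMap R L (e l))
    (by rw [← map_mul]; exact IsLocalization.Away.algebraMap_isUnit h)
  let : Algebra L₀ L := (IsLocalization.Away.lift (S := L₀) h₀ hu).toAlgebra
  have : IsScalarTower R L₀ L := .of_algebraMap_eq fun z => (IsLocalization.Away.lift_eq h₀ hu z).symm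
  have : Module.Flat R L := IsLocalization.flat L (Submonoid.powers h)
  have : Module.Flat L₀ L := (Module.flat_iff_of_isLocalization L₀ (Submonoid.powers h₀) L).2 inferInstance
  let g : Fin N → L := fun i => algebraMap L₀ L (g₀ i)
  let c : Fin N → L := fun i => algebraMap L₀ L (c₀ i)
  have hgspan : K.map (algebraMap R L) = Ideal.span (Set.range g) := by
    rw [IsScalarTower.algebraMap_eq R L₀ L, ← Ideal.map_map, hg₀span, Ideal.map_span, ← Set.range_comp]
    rfl
  have hcu : IsUnit (c l) := by
    have h1 : IsUnit (algebraMap R L (e l)) := isUnit_of_mul_isUnit_right (x := algebraMap R L h₀)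
      (by rw [← map_mul]; exact IsLocalization.Away.algebraMap_isUnit h)
    rw [IsScalarTower.algebraMap_apply R L₀ L, ← ha l, map_mul] at h1
    exact isUnit_of_mul_isUnit_left h1
  have hcsum : algebraMap R L s = ∑ i, c i * g i := by
    rw [IsScalarTower.algebraMap_apply R L₀ L, ← hc₀, map_sum]
    exact Finset.sum_congr rfl fun i _ => map_mul _ _ _
  let G : Fin N → L := Function.update g l (algebraMap R L s)
  have hG : IsExact G := by
    refine (isExact_of_flat hg₀ : IsExact g).of_matrix ((1 : Matrix (Fin N) (Fin N) L).updateRow l c) (fun i => ?_) ?_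
    · by_cases hi : i = l
      · subst hi; simp [G, hcsum, g]
      · simp [G, hi, Matrix.one_apply, g]
    · have : c = ∑ k, c k • (1 : Matrix (Fin N) (Fin N) L) k := by
        funext j; simp [Matrix.one_apply]
      rw [this, Matrix.det_updateRow_sum, Matrix.det_one, smul_eq_mul, mul_one,
        Ideal.span_singleton_eq_top.2 hcu, sup_top_eq]
  have hGspan : Ideal.span (Set.range G) = K.map (algebraMap R L) := by
    refine le_antisymm (Ideal.span_le.2 ?_) (hgspan.le.trans (Ideal.span_le.2 ?_))
    · rintro _ ⟨i, rfl⟩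
      by_cases hi : i = l
      · subst hi; simpa [G] using Ideal.mem_map_of_mem _ hsK
      · simpa [G, hi, hgspan] using Ideal.subset_span (Set.mem_range_self i)
    · rintro _ ⟨i, rfl⟩
      by_cases hi : i = l
      · subst hi
        refine (Ideal.unit_mul_mem_iff_mem _ hcu).1 ?_
        have h1 : c i * g i = algebraMap R L s - ∑ j ∈ Finset.univ.erase i, c j * g j := by
          rw [hcsum, ← Finset.add_sum_erase _ _ (Finset.mem_univ i)]; ring
        rw [h1]
        refine sub_mem (Ideal.subset_span ⟨i, by simp [G]⟩) (Ideal.sum_mem _ fun j hj => Ideal.mul_mem_left _ _ ?_)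
        exact Ideal.subset_span ⟨j, by simp [G, Finset.ne_of_mem_erase hj]⟩
      · exact Ideal.subset_span ⟨i, by simp [G, hi]⟩
  obtain ⟨M, rfl⟩ : ∃ M, N = M + 1 := ⟨N - 1, by have := l.pos; omega⟩
  let f : Fin M → L := fun i => G (l.succAbove i)
  let s' : Fin 1 → L := fun _ => algebraMap R L s
  have hσ : Function.Bijective (Sum.elim l.succAbove fun _ : Fin 1 => l) := by
    rw [Fintype.bijective_iff_injective_and_card]
    refine ⟨(Fin.succAbove_right_injective).sumElim (fun a b _ => Subsingleton.elim a b)
      (fun a _ => Fin.succAbove_ne l a), by simp⟩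
  have hcat : IsExact (cat f s') := by
    have h1 := hG.reindex ((catEquiv M 1).symm.trans (Equiv.ofBijective _ hσ))
    convert h1 using 1
    funext i
    obtain ⟨x, rfl⟩ := (catEquiv M 1).surjective i
    rw [cat_catEquiv]
    rcases x with x | x <;> simp [f, s', G]
  have hs' : IsExact s' := by
    have h1 : IsSMulRegular L (algebraMap R L s) := hreg.of_flat
    refine (isExact_iff _).2 (isKoszulRegularSeq_of_isWeaklyRegular ?_)
    simp only [s', List.ofFn_succ, List.ofFn_zero]
    exact (RingTheory.Sequence.isWeaklyRegular_singleton_iff _ _).2 h1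
  obtain ⟨S', _, _, _, hloc, hcomm, hsurj, hker'⟩ := exists_away_quotient hs h
  have hks : RingHom.ker (algebraMap L S') = Ideal.span (Set.range s') := by
    rw [hker', hker, Ideal.map_span, Set.image_singleton, Set.range_const]
  have hrel := relExact_of_cat hs' hcat
  refine KRAt.mk' (algebraMap R S h) hh S' (fun i => algebraMap L S' (f i)) ((relExact_iff hsurj hks f).1 hrel) ?_
  rw [Ideal.map_map, ← hcomm, ← Ideal.map_map, ← hGspan, Ideal.map_span, ← Set.range_comp]
  refine le_antisymm (Ideal.span_le.2 ?_) (Ideal.span_mono ?_)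
  · rintro _ ⟨i, rfl⟩
    by_cases hi : i = l
    · subst hi
      rw [Function.comp_apply, show algebraMap L S' (G i) = 0 from RingHom.mem_ker.1 (hks ▸ Ideal.subset_span
        ⟨0, by simp [s', G]⟩)]
      exact zero_mem _
    · obtain ⟨j, rfl⟩ := Fin.exists_succAbove_eq hi
      exact Ideal.subset_span ⟨j, rfl⟩
  · rintro _ ⟨j, rfl⟩
    exact ⟨l.succAbove j, rfl⟩

end Surjection

/-- A derivation unit at `s` shows that `s` is part of a minimal generating system. -/
theorem notMem_mul_of_derivation {k : Type u} [CommRing k] [Algebra k R] (D : Derivation k R R) {s : R} {q K : Ideal R} [q.IsPrime] (hKq : K ≤ q)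
    (hsK : s ∈ K) (hD : D s ∉ q) (t : R) (ht : t ∉ q) : t * s ∉ q * K := by
  intro h
  have h1 : D (t * s) ∈ q := by
    refine Submodule.mul_induction_on h (fun a ha b hb => ?_) fun a b ha hb => by rw [map_add]; exact add_mem ha hb
    rw [Derivation.leibniz, smul_eq_mul, smul_eq_mul]
    exact add_mem (Ideal.mul_mem_right _ _ ha) (Ideal.mul_mem_right _ _ (hKq hb))
  rw [Derivation.leibniz, smul_eq_mul, smul_eq_mul] at h1
  exact (Ideal.IsPrime.mem_or_mem ‹_› ((Submodule.add_mem_iff_left _ (Ideal.mul_mem_right _ _ (hKq hsK))).1 h1)).elim ht hD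

end Groth.Agent.LCIPres
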