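import Groth.Agent.KoszulExt.Complex

/-!
# Koszul exactness of concatenated sequences

For `g` exact generating `J`, the sequence `cat f g` is exact iff `f` is exact modulo `J`.
-/

set_option autoImplicit false
set_option maxHeartbeats 400000

noncomputable section

universe u

namespace Groth.Agent.LCIPres

open ExteriorAlgebra KoszulExt

variable {A : Type u} [CommRing A] {n : ℕ}

/-- `f` followed by `g`. -/
def cat : ∀ {m : ℕ}, (Fin m → A) → (Fin n → A) → (Fin (n + m) → A)
  | 0, _, g => g
  | _ + 1, f, g => Fin.cons (f 0) (cat (fun i => f i.succ) g)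

/-- The projection to the first `m` coordinates of `cat`. -/
def prj : ∀ m : ℕ, (Fin (n + m) → A) →ₗ[A] (Fin m → A)
  | 0 => 0
  | m + 1 => LinearMap.pi (Fin.cons (LinearMap.proj 0) fun i => LinearMap.proj i ∘ₗ prj m ∘ₗ projV)

/-- A section of `prj`. -/
def sec : ∀ m : ℕ, (Fin m → A) →ₗ[A] (Fin (n + m) → A)
  | 0 => 0
  | m + 1 => LinearMap.pi (Fin.cons (LinearMap.proj 0) fun i => LinearMap.proj i ∘ₗ sec m ∘ₗ projV)

theorem prj_succ_apply {m : ℕ} (v : Fin (n + (m + 1)) → A) :
    prj (m + 1) v = (Fin.cons (v 0) (prj m (projV v)) : Fin (m + 1) → A) := by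
  funext i
  cases i using Fin.cases <;> rfl

theorem sec_succ_apply {m : ℕ} (v : Fin (m + 1) → A) :
    sec (n := n) (m + 1) v = (Fin.cons (v 0) (sec m (projV v)) : Fin ((n + m) + 1) → A) := by
  funext i
  cases i using Fin.cases <;> rfl

theorem prj_sec : ∀ {m : ℕ} (v : Fin m → A), prj m (sec (n := n) m v) = v := by
  intro m
  induction m with
  | zero => intro v; exact Subsingleton.elim _ _
  | succ m ih =>
    intro v
    rw [prj_succ_apply, sec_succ_apply]
    funext i
    cases i using Fin.cases with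
    | zero => rfl
    | succ j => exact congrFun (ih (projV v)) j

theorem sum_cat : ∀ {m : ℕ} (f : Fin m → A) (g : Fin n → A) (v : Fin m → A),
    ∑ i, sec m v i * cat f g i = ∑ i, v i * f i := by
  intro m
  induction m with
  | zero => intro f g v; simp [sec]
  | succ m ih =>
    intro f g v
    rw [sec_succ_apply]
    change ∑ i : Fin ((n + m) + 1), _ = ∑ i : Fin (m + 1), _
    rw [Fin.sum_univ_succ, Fin.sum_univ_succ]
    exact congrArg _ (ih _ g (projV v))

theorem sum_prj : ∀ {m : ℕ} (f : Fin m → A) (v : Fin (n + m) → A),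
    ∑ i, prj m v i * f i = ∑ i, v i * cat f (0 : Fin n → A) i := by
  intro m
  induction m with
  | zero => intro f v; simp [cat, prj]
  | succ m ih =>
    intro f v
    rw [prj_succ_apply]
    change ∑ i : Fin (m + 1), _ = ∑ i : Fin ((n + m) + 1), _
    rw [Fin.sum_univ_succ, Fin.sum_univ_succ]
    exact congrArg _ (ih _ (projV v))

theorem cat_add : ∀ {m : ℕ} (f f' : Fin m → A) (g g' : Fin n → A), cat (f + f') (g + g') = cat f g + cat f' g' := by
  intro m
  induction m with
  | zero => intro f f' g g'; rfl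
  | succ m ih =>
    intro f f' g g'
    funext i
    cases i using Fin.cases with
    | zero => rfl
    | succ j => exact congrFun (ih (fun i => f i.succ) (fun i => f' i.succ) g g') j

omit [CommRing A] in
theorem range_cat : ∀ {m : ℕ} (f : Fin m → A) (g : Fin n → A), Set.range (cat f g) = Set.range f ∪ Set.range g := by
  intro m
  induction m with
  | zero => intro f g; simp [cat]
  | succ m ih =>
    intro f g
    change Set.range (Fin.cons (f 0) (cat (fun i => f i.succ) g) : Fin ((n + m) + 1) → A) = _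
    rw [Fin.range_cons, ih]
    conv_rhs => rw [← Fin.cons_self_tail f, Fin.range_cons, Set.insert_union]
    rfl

variable (J : Ideal A)

/-- Elements with all coordinates in `J`. -/
abbrev JE (m : ℕ) : Submodule A (ExteriorAlgebra A (Fin m → A)) := J • ⊤

variable {J}

theorem map_mem_JE {m k : ℕ} (L : ExteriorAlgebra A (Fin m → A) →ₗ[A] ExteriorAlgebra A (Fin k → A))
    {x : ExteriorAlgebra A (Fin m → A)} (hx : x ∈ JE J m) : L x ∈ JE J k :=
  Submodule.smul_induction_on hx (fun r hr y _ => by rw [map_smul]; exact Submodule.smul_mem_smul hr trivial)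
    fun x y hx hy => by rw [map_add]; exact add_mem hx hy

/-- `f` is exact modulo `J`. -/
def RelExact {m : ℕ} (f : Fin m → A) (J : Ideal A) : Prop :=
  ∀ k, ∀ z ∈ G A m (k + 1), ct f z ∈ JE J m → ∃ y ∈ G A m (k + 2), ct f y - z ∈ JE J m

/-- The projection on exterior algebras. -/
abbrev pE (m : ℕ) : ExteriorAlgebra A (Fin (n + m) → A) →ₐ[A] ExteriorAlgebra A (Fin m → A) :=
  ExteriorAlgebra.map (prj m)

theorem pE_split {m : ℕ} (a b : ExteriorAlgebra A (Fin (n + m) → A)) :
    pE (n := n) (m + 1) (split (a, b)) = split (pE m a, pE m b) := by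
  have h1 : ∀ c : ExteriorAlgebra A (Fin (n + m) → A), pE (n := n) (m + 1) (incl c) = incl (pE m c) := by
    intro c
    simp only [incl, pE, ← AlgHom.comp_apply, ExteriorAlgebra.map_comp_map]
    congr 2
    refine LinearMap.ext fun v => ?_
    show prj (m + 1) (inclV v) = inclV (prj m v)
    rw [prj_succ_apply, projV_inclV]
    rfl
  have h2 : prj (n := n) (A := A) (m + 1) (e0 (A := A) (n := n + m)) = e0 (A := A) := by
    rw [prj_succ_apply, show projV (e0 : Fin (n + m + 1) → A) = 0 from funext fun i => by simp [projV, e0, LinearMap.funLeft],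
      map_zero]
    funext i
    cases i using Fin.cases <;> simp [e0]
  rw [split_apply, split_apply, map_add, map_mul, h1, h1, ExteriorAlgebra.map_apply_ι, h2]

theorem mem_JE_of_split {m : ℕ} {a b : ExteriorAlgebra A (Fin m → A)} (h : split (a, b) ∈ JE J (m + 1)) :
    a ∈ JE J m ∧ b ∈ JE J m := by
  have hp : ∀ x : ExteriorAlgebra A (Fin m → A), ExteriorAlgebra.map projV (incl x) = x := fun x => by
    rw [incl, ← AlgHom.comp_apply, ExteriorAlgebra.map_comp_map,
      show projV ∘ₗ inclV = (LinearMap.id : (Fin m → A) →ₗ[A] _) from LinearMap.ext projV_inclV, ExteriorAlgebra.map_id]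
    rfl
  have hproj : projV (e0 : Fin (m + 1) → A) = 0 := funext fun i => by simp [projV, e0, LinearMap.funLeft]
  constructor
  · have h1 := map_mem_JE (ExteriorAlgebra.map (projV (A := A) (n := m))).toLinearMap h
    rwa [AlgHom.toLinearMap_apply, split_apply, map_add, map_mul, hp, ExteriorAlgebra.map_apply_ι, hproj, map_zero,
      zero_mul, add_zero] at h1
  · have h1 := map_mem_JE ((ExteriorAlgebra.map (projV (A := A) (n := m))).toLinearMap ∘ₗ ct d0) h
    have he : ∑ i, (e0 : Fin (m + 1) → A) i * (d0 : Fin (m + 1) → A) i = 1 := by simp [e0, Fin.sum_univ_succ]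
    rwa [LinearMap.comp_apply, split_apply, map_add, ct_d0_incl, zero_add, ct_ι_mul, he, one_smul, ct_d0_incl,
      mul_zero, sub_zero, AlgHom.toLinearMap_apply, hp] at h1

variable {g : Fin n → A}

/-- Cycles of `cat f g` which vanish modulo `(g)` after projection are boundaries of such. -/
theorem exists_boundary (hg : IsExact g) : ∀ {m : ℕ} (f : Fin m → A) {k : ℕ} {x}, x ∈ G A (n + m) k →
    pE m x ∈ JE (Ideal.span (Set.range g)) m → ct (cat f g) x = 0 →
      ∃ y ∈ G A (n + m) (k + 1), pE m y ∈ JE (Ideal.span (Set.range g)) m ∧ ct (cat f g) y = x := by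
  intro m
  induction m with
  | zero =>
    intro f k x hx hJ hc
    have hzero : ∀ {j : ℕ} {y}, y ∈ G A (n + 0) (j + 1) → pE (n := n) 0 y = 0 := fun {j y} hy =>
      (Submodule.mem_bot A).1 ((G_zero_eq_bot (A := A) (Nat.succ_ne_zero j)).le (map_mem (prj (n := n) 0) hy))
    rcases k with _ | k
    · rw [G, exteriorPower, pow_zero, Submodule.one_eq_range] at hx
      obtain ⟨r, rfl⟩ := hx
      have hr : r ∈ Ideal.span (Set.range g) := by
        have h1 : ExteriorAlgebra.algebraMapInv.toLinearMap (pE (n := n) 0 (algebraMap A _ r)) ∈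
            Ideal.span (Set.range g) := by
          refine Submodule.smul_induction_on hJ (fun c hc y _ => ?_) fun x y hx hy => by
            rw [map_add]; exact add_mem hx hy
          rw [map_smul, smul_eq_mul]
          exact Ideal.mul_mem_right _ _ hc
        rwa [AlgHom.commutes, AlgHom.toLinearMap_apply, ExteriorAlgebra.algebraMap_leftInverse] at h1
      obtain ⟨v, hv⟩ := Ideal.mem_span_range_iff_exists_fun.1 hr
      have hmem : ι A v ∈ G A (n + 0) 1 := by
        rw [G, exteriorPower, pow_one]; exact LinearMap.mem_range_self _ v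
      refine ⟨ι A v, hmem, by rw [hzero hmem]; exact zero_mem _, ?_⟩
      rw [ct_ι]
      exact congrArg _ hv
    · rw [isExact_iff, isKoszulRegularSeq_iff] at hg
      obtain ⟨y, hy, hyx⟩ := hg k x hx hc
      exact ⟨y, hy, by rw [hzero hy]; exact zero_mem _, hyx⟩
  | succ m ih =>
    intro f k x hx hJ hc
    obtain ⟨a, b, ha, hb, rfl⟩ := exists_split hx
    rw [pE_split] at hJ
    obtain ⟨hJa, hJb⟩ := mem_JE_of_split hJ
    rw [ct_split, ← map_zero (split : _ →ₗ[A] ExteriorAlgebra A (Fin (n + m + 1) → A))] at hc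
    obtain ⟨h1, h2⟩ := Prod.ext_iff.1 (split_injective hc)
    change ct (cat (fun i => f i.succ) g) a + f 0 • b = 0 at h1
    replace h2 : ct (cat (fun i => f i.succ) g) b = 0 := neg_eq_zero.1 h2
    obtain ⟨b', hb', hJb', hbb⟩ : ∃ b' ∈ G A (n + m) k,
        pE m b' ∈ JE (Ideal.span (Set.range g)) m ∧ ct (cat (fun i => f i.succ) g) b' = b := by
      rcases k with _ | k
      · rw [if_pos rfl] at hb
        exact ⟨0, zero_mem _, by simp, by rw [map_zero, hb]⟩
      · rw [if_neg (Nat.succ_ne_zero k), Nat.add_sub_cancel] at hb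
        exact ih (fun i => f i.succ) hb hJb h2
    obtain ⟨a', ha', hJa', haa⟩ := ih (fun i => f i.succ) (add_mem ha (Submodule.smul_mem _ (f 0) hb'))
      (by rw [map_add, map_smul]; exact add_mem hJa (Submodule.smul_mem _ _ hJb'))
      (by rw [map_add, map_smul, hbb, h1])
    refine ⟨split (a', -b'), split_mem ha' (neg_mem hb'), ?_, ?_⟩
    · rw [pE_split, map_neg]
      have : split (pE m a', -pE m b') =
          split (pE m a', 0) - split ((0 : ExteriorAlgebra A (Fin m → A)), pE m b') := by
        rw [← map_sub]; simp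
      rw [this]
      exact sub_mem (map_mem_JE (split ∘ₗ LinearMap.inl A _ _) hJa') (map_mem_JE (split ∘ₗ LinearMap.inr A _ _) hJb')
    · rw [ct_split]
      congr 1
      refine Prod.ext ?_ ?_
      · change ct (cat (fun i => f i.succ) g) a' + f 0 • -b' = a
        rw [haa, smul_neg, add_neg_cancel_right]
      · change -ct (cat (fun i => f i.succ) g) (-b') = b
        rw [map_neg, neg_neg, hbb]

theorem ct_add (f f' : Fin n → A) (x : ExteriorAlgebra A (Fin n → A)) : ct (f + f') x = ct f x + ct f' x := by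
  simp only [ct]
  rw [← LinearMap.add_apply, ← map_add]
  congr 2
  refine LinearMap.ext fun v => ?_
  simp [Fintype.linearCombination_apply, Finset.sum_add_distrib, mul_add]

theorem pE_ct {m : ℕ} (f : Fin m → A) {k : ℕ} {x} (hx : x ∈ G A (n + m) (k + 1)) :
    pE m (ct (cat f g) x) - ct f (pE m x) ∈ JE (Ideal.span (Set.range g)) m := by
  have h1 : cat f g = cat f 0 + cat 0 g := by rw [← cat_add, add_zero, zero_add]
  rw [h1, ct_add, map_add, ← ct_map (prj m) (cat f 0) f (sum_prj f), add_sub_cancel_left]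
  refine map_mem_JE (pE m).toLinearMap ?_
  refine Submodule.smul_mono ?_ le_top (ct_mem_span (n := n + m) (cat (0 : Fin m → A) g) x hx)
  rw [Ideal.span_le, range_cat]
  rintro _ (⟨i, rfl⟩ | ⟨i, rfl⟩)
  · exact zero_mem _
  · exact Ideal.subset_span ⟨i, rfl⟩

theorem pE_sec {m : ℕ} (z : ExteriorAlgebra A (Fin m → A)) : pE (n := n) m (ExteriorAlgebra.map (sec m) z) = z := by
  rw [← AlgHom.comp_apply, pE, ExteriorAlgebra.map_comp_map,
    show prj m ∘ₗ sec (n := n) m = (LinearMap.id : (Fin m → A) →ₗ[A] _) from LinearMap.ext prj_sec, ExteriorAlgebra.map_id]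
  rfl

/-- `f` exact modulo `(g)` and `g` exact give `cat f g` exact. -/
theorem isExact_cat {m : ℕ} {f : Fin m → A} (hg : IsExact g) (hf : RelExact f (Ideal.span (Set.range g))) :
    IsExact (cat f g) := by
  rw [isExact_iff, isKoszulRegularSeq_iff]
  intro k x hx hc
  have hp : ct f (pE m x) ∈ JE (Ideal.span (Set.range g)) m := by
    have := pE_ct (g := g) f hx
    rw [hc, map_zero, zero_sub, neg_mem_iff] at this
    exact this
  obtain ⟨y, hy, hyz⟩ := hf k _ (map_mem (prj m) hx) hp
  have hY := map_mem (sec (n := n) m) hy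
  have hmem : x - ct (cat f g) (ExteriorAlgebra.map (sec m) y) ∈ G A (n + m) (k + 1) := sub_mem hx (ct_mem hY).1
  obtain ⟨w, hw, -, hwx⟩ := exists_boundary hg f hmem (by
      have h1 := pE_ct (g := g) f hY
      rw [pE_sec] at h1
      rw [map_sub]
      have h2 := sub_mem (neg_mem h1) hyz
      convert h2 using 1
      abel) (by rw [map_sub, hc, ct_ct, sub_zero])
  exact ⟨w + ExteriorAlgebra.map (sec m) y, add_mem hw hY, by rw [map_add, hwx, sub_add_cancel]⟩

/-- If `cat f g` and `g` are exact then `f` is exact modulo `(g)`. -/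
theorem relExact_of_cat {m : ℕ} {f : Fin m → A} (hg : IsExact g) (h : IsExact (cat f g)) :
    RelExact f (Ideal.span (Set.range g)) := by
  rw [isExact_iff, isKoszulRegularSeq_iff] at h
  intro k z hz hzJ
  let x := ExteriorAlgebra.map (sec (n := n) m) z
  have hx : x ∈ G A (n + m) (k + 1) := map_mem _ hz
  have hcx : pE m (ct (cat f g) x) ∈ JE (Ideal.span (Set.range g)) m := by
    have h1 := pE_ct (g := g) f hx
    rw [pE_sec] at h1
    simpa using add_mem h1 hzJ
  obtain ⟨w, hw, hwJ, hwx⟩ := exists_boundary hg f (ct_mem hx).1 hcx (ct_ct _ _)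
  obtain ⟨y, hy, hyx⟩ := h k (x - w) (sub_mem hx hw) (by rw [map_sub, hwx, sub_self])
  refine ⟨pE m y, map_mem _ hy, ?_⟩
  have h1 := pE_ct (g := g) f hy
  rw [hyx, map_sub, pE_sec] at h1
  have h2 := sub_mem (neg_mem h1) hwJ
  convert h2 using 1
  abel

end Groth.Agent.LCIPres
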