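import Groth.Agent.LCIPres.FibreCrit
import Mathlib

/-!
# Base change invariance of Koszul regularity for flat quotients
-/

set_option autoImplicit false
set_option linter.style.haveILetI false

noncomputable section

universe u

open TensorProduct

namespace Groth.Agent.LCIPres

variable {A A' P P' : Type u} [CommRing A] [CommRing A'] [CommRing P] [CommRing P'] [Algebra A A'] [Algebra A P]
  [Algebra A' P'] [Algebra P P'] [Algebra A P'] [IsScalarTower A A' P'] [IsScalarTower A P P']
  [Algebra.IsPushout A A' P P']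

theorem flat_quotient_baseChange (I : Ideal P) [Module.Flat A (P ⧸ I)] :
    Module.Flat A' (P' ⧸ I.map (algebraMap P P')) :=
  Module.Flat.of_linearEquiv
    (((Algebra.TensorProduct.quotIdealMapEquivTensorQuot P' I).toLinearEquiv.restrictScalars A').trans
      (Algebra.IsPushout.cancelBaseChange A A' P P' (P ⧸ I)))

theorem exists_fibreMap (p' : Ideal A') [p'.IsPrime] :
    ∃ Φ : (p'.comap (algebraMap A A')).Fiber P →+* p'.Fiber P', Φ.Flat ∧
      Φ.comp (Algebra.TensorProduct.includeRight : P →ₐ[A] (p'.comap (algebraMap A A')).Fiber P).toRingHom =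
        (Algebra.TensorProduct.includeRight : P' →ₐ[A'] p'.Fiber P').toRingHom.comp (algebraMap P P') := by
  set p := p'.comap (algebraMap A A')
  let f : p.ResidueField →ₐ[A] p'.ResidueField := Ideal.ResidueField.mapₐ p p' (Algebra.ofId A A') rfl
  let m : p.Fiber P →ₐ[A] p'.ResidueField ⊗[A] P := Algebra.TensorProduct.map f (AlgHom.id A P)
  have hm : m.toRingHom.Flat := by
    refine RingHom.Flat.tensorProductMap (S := A) ?_ (RingHom.Flat.of_bijective Function.bijective_id)
    letI : Algebra p.ResidueField p'.ResidueField := f.toRingHom.toAlgebra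
    exact (inferInstance : Module.Flat p.ResidueField p'.ResidueField)
  let eP : A' ⊗[A] P ≃ₐ[A'] P' := Algebra.IsPushout.equiv A A' P P'
  let e : p'.ResidueField ⊗[A] P ≃ₐ[p'.ResidueField] p'.Fiber P' :=
    (Algebra.TensorProduct.cancelBaseChange A A' p'.ResidueField p'.ResidueField P).symm.trans
      (Algebra.TensorProduct.congr AlgEquiv.refl eP)
  refine ⟨e.toRingEquiv.toRingHom.comp m.toRingHom, hm.comp (RingHom.Flat.of_bijective e.bijective),
    RingHom.ext fun x => ?_⟩
  show e (m (1 ⊗ₜ[A] x)) = (1 : p'.ResidueField) ⊗ₜ[A'] algebraMap P P' x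
  simp [m, e, eP, Algebra.IsPushout.equiv_tmul]

/-- Koszul regularity at a point of a flat quotient is invariant under base change. -/
theorem krAt_baseChange_iff (A A' : Type u) {P P' : Type u} [CommRing A] [CommRing A'] [CommRing P] [CommRing P'] [Algebra A A']
    [Algebra A P] [Algebra A' P'] [Algebra P P'] [Algebra A P'] [IsScalarTower A A' P'] [IsScalarTower A P P']
    [Algebra.IsPushout A A' P P'] [Algebra.FinitePresentation A P] [Module.Flat A P] (I : Ideal P) (hI : I.FG)
    [Module.Flat A (P ⧸ I)] (q' : Ideal P') [q'.IsPrime] (hIq : I.map (algebraMap P P') ≤ q') :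
    KRAt (I.map (algebraMap P P')) q' ↔ KRAt I (q'.comap (algebraMap P P')) := by
  haveI : Algebra.FinitePresentation A' P' :=
    Algebra.FinitePresentation.equiv (Algebra.IsPushout.equiv A A' P P')
  haveI : Module.Flat A' P' :=
    Module.Flat.of_linearEquiv (Algebra.IsPushout.equiv A A' P P').symm.toLinearEquiv
  haveI := flat_quotient_baseChange (A' := A') (P' := P') (A := A) I
  set p' := q'.comap (algebraMap A' P') with hp'
  set q := q'.comap (algebraMap P P') with hq
  have hp : q.comap (algebraMap A P) = p'.comap (algebraMap A A') := by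
    rw [hq, hp', Ideal.comap_comap, Ideal.comap_comap, ← IsScalarTower.algebraMap_eq, ← IsScalarTower.algebraMap_eq]
  let Qb' := (PrimeSpectrum.preimageEquivFiber A' P' ⟨p', inferInstance⟩) ⟨⟨q', inferInstance⟩, rfl⟩
  have hQ' : Qb'.asIdeal.comap (Algebra.TensorProduct.includeRight : P' →ₐ[A'] p'.Fiber P').toRingHom = q' := by
    have := congrArg (fun z => z.1.asIdeal)
      ((PrimeSpectrum.preimageEquivFiber A' P' ⟨p', inferInstance⟩).symm_apply_apply ⟨⟨q', inferInstance⟩, rfl⟩)
    exact this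
  obtain ⟨Φ, hΦ, hΦc⟩ := exists_fibreMap (A := A) (P := P) (P' := P') p'
  have key : ∀ (r : Ideal A) [r.IsPrime] (_ : r = p'.comap (algebraMap A A')) (Ψ : r.Fiber P →+* p'.Fiber P'),
      Ψ.Flat → Ψ.comp (Algebra.TensorProduct.includeRight : P →ₐ[A] r.Fiber P).toRingHom =
        (Algebra.TensorProduct.includeRight : P' →ₐ[A'] p'.Fiber P').toRingHom.comp (algebraMap P P') →
      ((Qb'.asIdeal.comap Ψ).comap (Algebra.TensorProduct.includeRight : P →ₐ[A] r.Fiber P).toRingHom = q) ∧
      (KRAt ((I.map (algebraMap P P')).map (Algebra.TensorProduct.includeRight : P' →ₐ[A'] p'.Fiber P').toRingHom)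
          Qb'.asIdeal ↔
        KRAt (I.map (Algebra.TensorProduct.includeRight : P →ₐ[A] r.Fiber P).toRingHom) (Qb'.asIdeal.comap Ψ)) := by
    intro r _ _ Ψ hΨ hΨc
    refine ⟨by rw [Ideal.comap_comap, hΨc, ← Ideal.comap_comap, hQ'], ?_⟩
    rw [Ideal.map_map, ← hΨc, ← Ideal.map_map]
    haveI : IsNoetherianRing (r.Fiber P) := Algebra.FiniteType.isNoetherianRing r.ResidueField (r.Fiber P)
    algebraize [Ψ]
    haveI := Qb'.isPrime
    refine ⟨krAt_comap Qb'.asIdeal ?_, krAt_map Qb'.asIdeal⟩
    refine (Ideal.map_map _ _).trans_le ((Ideal.map_le_iff_le_comap).2 ?_)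
    rw [show (algebraMap (r.Fiber P) (p'.Fiber P')) = Ψ from rfl, hΨc, ← Ideal.comap_comap, hQ']
    exact Ideal.map_le_iff_le_comap.1 hIq
  have hr : ∃ Ψ : (q.comap (algebraMap A P)).Fiber P →+* p'.Fiber P', Ψ.Flat ∧
      Ψ.comp (Algebra.TensorProduct.includeRight : P →ₐ[A] (q.comap (algebraMap A P)).Fiber P).toRingHom =
        (Algebra.TensorProduct.includeRight : P' →ₐ[A'] p'.Fiber P').toRingHom.comp (algebraMap P P') := by
    have : ∀ (r : Ideal A) [r.IsPrime], r = p'.comap (algebraMap A A') →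
        ∃ Ψ : r.Fiber P →+* p'.Fiber P', Ψ.Flat ∧
          Ψ.comp (Algebra.TensorProduct.includeRight : P →ₐ[A] r.Fiber P).toRingHom =
            (Algebra.TensorProduct.includeRight : P' →ₐ[A'] p'.Fiber P').toRingHom.comp (algebraMap P P') := by
      intro r _ hr
      subst hr
      exact ⟨Φ, hΦ, hΦc⟩
    exact this _ hp
  obtain ⟨Ψ, hΨ, hΨc⟩ := hr
  obtain ⟨hcomap, hiff⟩ := key _ hp Ψ hΨ hΨc
  haveI := Qb'.isPrime
  rw [krAt_fibre_iff _ (hI.map _) q' hIq Qb'.asIdeal hQ', hiff,
    krAt_fibre_iff I hI q (Ideal.map_le_iff_le_comap.1 hIq) (Qb'.asIdeal.comap Ψ) hcomap]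

end Groth.Agent.LCIPres
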