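import Groth.Agent.LCIPres.Concat
import Groth.Agent.KoszulExt.BaseChange
import Mathlib.RingTheory.Ideal.Maps

/-!
# Exterior algebras along a ring map and relative exactness
-/

set_option autoImplicit false
set_option maxHeartbeats 400000

noncomputable section

universe u

namespace Groth.Agent.LCIPres

open ExteriorAlgebra KoszulExt

variable {A B : Type u} [CommRing A] [CommRing B] [Algebra A B] {n : ℕ}

variable (A B) in
/-- The scalar extension of vectors. -/
def mapV (n : ℕ) : (Fin n → A) →ₗ[A] (Fin n → B) := (Algebra.linearMap A B).compLeft (Fin n)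

theorem mapV_apply (v : Fin n → A) (i : Fin n) : mapV A B n v i = algebraMap A B (v i) := rfl

variable (A B) in
/-- The scalar extension of the exterior algebra. -/
def mapE (n : ℕ) : ExteriorAlgebra A (Fin n → A) →ₐ[A] ExteriorAlgebra B (Fin n → B) :=
  ExteriorAlgebra.lift A ⟨(ι B).restrictScalars A ∘ₗ mapV A B n, fun v => ι_sq_zero (mapV A B n v)⟩

theorem mapE_ι (v : Fin n → A) : mapE A B n (ι A v) = ι B (mapV A B n v) :=
  ExteriorAlgebra.lift_ι_apply A _ _ v

theorem mapE_mem {k : ℕ} {x : ExteriorAlgebra A (Fin n → A)} (hx : x ∈ G A n k) : mapE A B n x ∈ G B n k := by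
  refine G_induction (C := fun k x => mapE A B n x ∈ G B n k) (fun a => ?_)
    (fun k x y hx hy => by rw [map_add]; exact add_mem hx hy) (fun k v x _ hx => ?_) hx
  · rw [AlgHom.commutes, IsScalarTower.algebraMap_apply A B, G, exteriorPower, pow_zero, Submodule.one_eq_range]
    exact ⟨_, rfl⟩
  · rw [map_mul, mapE_ι]
    exact ι_mul_mem _ hx

theorem mapE_ct (f : Fin n → A) {k : ℕ} {x : ExteriorAlgebra A (Fin n → A)} (hx : x ∈ G A n k) :
    mapE A B n (ct f x) = ct (fun i => algebraMap A B (f i)) (mapE A B n x) := by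
  refine G_induction (C := fun _ x => mapE A B n (ct f x) = ct (fun i => algebraMap A B (f i)) (mapE A B n x))
    (fun a => ?_) (fun k x y hx hy => by rw [map_add, map_add, hx, hy, map_add, map_add]) (fun k v x _ hx => ?_) hx
  · rw [ct_algebraMap, map_zero, AlgHom.commutes, IsScalarTower.algebraMap_apply A B, ct_algebraMap]
  · rw [ct_ι_mul, map_sub, map_smul, map_mul, map_mul, mapE_ι, ct_ι_mul, hx]
    simp only [mapV_apply, ← map_mul, ← map_sum, algebraMap_smul]

theorem mapE_split (a b : ExteriorAlgebra A (Fin n → A)) :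
    mapE A B (n + 1) (split (a, b)) = split (mapE A B n a, mapE A B n b) := by
  have h1 : ∀ c : ExteriorAlgebra A (Fin n → A), mapE A B (n + 1) (incl c) = incl (mapE A B n c) := by
    intro c
    refine AlgHom.congr_fun (φ₁ := (mapE A B (n + 1)).comp incl)
      (φ₂ := ((incl : ExteriorAlgebra B (Fin n → B) →ₐ[B] _).restrictScalars A).comp (mapE A B n)) ?_ c
    refine ExteriorAlgebra.hom_ext (LinearMap.ext fun v => ?_)
    simp only [LinearMap.comp_apply, AlgHom.toLinearMap_apply, AlgHom.comp_apply, AlgHom.restrictScalars_apply, incl,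
      ExteriorAlgebra.map_apply_ι, mapE_ι]
    congr 1
    funext i
    cases i using Fin.cases <;> simp [inclV, mapV_apply]
  have h2 : mapV A B (n + 1) e0 = (e0 : Fin (n + 1) → B) := by
    funext i
    cases i using Fin.cases <;> simp [e0, mapV_apply]
  rw [split_apply, split_apply, map_add, map_mul, mapE_ι, h1, h1, h2]

theorem exists_mapE_eq (hsurj : Function.Surjective (algebraMap A B)) {k : ℕ} {z : ExteriorAlgebra B (Fin n → B)}
    (hz : z ∈ G B n k) : ∃ x ∈ G A n k, mapE A B n x = z := by
  refine G_induction (C := fun k z => ∃ x ∈ G A n k, mapE A B n x = z) (fun b => ?_) ?_ ?_ hz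
  · obtain ⟨a, rfl⟩ := hsurj b
    refine ⟨algebraMap A _ a, ?_, by rw [AlgHom.commutes, IsScalarTower.algebraMap_apply A B]⟩
    rw [G, exteriorPower, pow_zero, Submodule.one_eq_range]
    exact ⟨a, rfl⟩
  · rintro k _ _ ⟨x, hx, rfl⟩ ⟨y, hy, rfl⟩
    exact ⟨x + y, add_mem hx hy, map_add _ _ _⟩
  · rintro k w _ - ⟨x, hx, rfl⟩
    choose v hv using fun i => hsurj (w i)
    exact ⟨ι A v * x, ι_mul_mem v hx, by rw [map_mul, mapE_ι, show mapV A B n v = w from funext hv]⟩

theorem mapE_eq_zero_of_mem {J : Ideal A} (hJ : J ≤ RingHom.ker (algebraMap A B))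
    {x : ExteriorAlgebra A (Fin n → A)} (hx : x ∈ JE J n) : mapE A B n x = 0 := by
  refine Submodule.smul_induction_on hx (fun r hr y _ => ?_) fun x y hx hy => by rw [map_add, hx, hy, add_zero]
  rw [map_smul, ← algebraMap_smul B r, show algebraMap A B r = 0 from hJ hr, zero_smul]

theorem mem_JE_of_mapE_eq_zero {J : Ideal A} (hJ : RingHom.ker (algebraMap A B) ≤ J) :
    ∀ {n k : ℕ} {x : ExteriorAlgebra A (Fin n → A)}, x ∈ G A n k → mapE A B n x = 0 → x ∈ JE J n := by
  intro n
  induction n with
  | zero =>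
    intro k x hx h0
    rcases k with _ | k
    · rw [G, exteriorPower, pow_zero, Submodule.one_eq_range] at hx
      obtain ⟨r, rfl⟩ := hx
      rw [Algebra.linearMap_apply, AlgHom.commutes, IsScalarTower.algebraMap_apply A B] at h0
      have hr := congrArg ExteriorAlgebra.algebraMapInv h0
      rw [ExteriorAlgebra.algebraMap_leftInverse, map_zero] at hr
      rw [Algebra.linearMap_apply, Algebra.algebraMap_eq_smul_one]
      exact Submodule.smul_mem_smul (hJ hr) trivial
    · rw [G_zero_eq_bot (Nat.succ_ne_zero k)] at hx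
      rw [(Submodule.mem_bot A).1 hx]
      exact zero_mem _
  | succ n ih =>
    intro k x hx h0
    obtain ⟨a, b, ha, hb, rfl⟩ := exists_split hx
    rw [mapE_split, ← map_zero (split : _ →ₗ[B] ExteriorAlgebra B (Fin (n + 1) → B))] at h0
    obtain ⟨h1, h2⟩ := Prod.ext_iff.1 (split_injective h0)
    have hA : a ∈ JE J n := ih ha h1
    have hB : b ∈ JE J n := by
      rcases k with _ | k
      · rw [if_pos rfl] at hb; rw [hb]; exact zero_mem _
      · rw [if_neg (Nat.succ_ne_zero k), Nat.add_sub_cancel] at hb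
        exact ih hb h2
    rw [show ((a, b) : _ × ExteriorAlgebra A (Fin n → A)) = (a, 0) + (0, b) by simp, map_add]
    exact add_mem (map_mem_JE (split ∘ₗ LinearMap.inl A _ _) hA) (map_mem_JE (split ∘ₗ LinearMap.inr A _ _) hB)

/-- Exactness modulo an ideal is exactness over the quotient. -/
theorem relExact_iff {J : Ideal A} (hsurj : Function.Surjective (algebraMap A B))
    (hker : RingHom.ker (algebraMap A B) = J) (f : Fin n → A) :
    RelExact f J ↔ IsExact (fun i => algebraMap A B (f i)) := by
  rw [isExact_iff, isKoszulRegularSeq_iff]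
  constructor
  · intro h k z hz hz0
    obtain ⟨x, hx, rfl⟩ := exists_mapE_eq hsurj hz
    have h1 : ct f x ∈ JE J n := mem_JE_of_mapE_eq_zero hker.le (ct_mem hx).1 (by rw [mapE_ct f hx, hz0])
    obtain ⟨y, hy, hyx⟩ := h k x hx h1
    refine ⟨mapE A B n y, mapE_mem hy, ?_⟩
    rw [← mapE_ct f hy, ← sub_eq_zero, ← map_sub]
    exact mapE_eq_zero_of_mem hker.ge hyx
  · intro h k x hx hxJ
    obtain ⟨z, hz, hzx⟩ := h k (mapE A B n x) (mapE_mem hx) (by rw [← mapE_ct f hx, mapE_eq_zero_of_mem hker.ge hxJ])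
    obtain ⟨y, hy, rfl⟩ := exists_mapE_eq hsurj hz
    exact ⟨y, hy, mem_JE_of_mapE_eq_zero hker.le (sub_mem (ct_mem hy).1 hx)
      (by rw [map_sub, mapE_ct f hy, hzx, sub_self])⟩

/-- Exactness is invariant under ring isomorphisms. -/
theorem isExact_equiv {C D : Type u} [CommRing C] [CommRing D] (e : C ≃+* D) {f : Fin n → C} (hf : IsExact f) :
    IsExact fun i => e (f i) := by
  let : Algebra C D := e.toRingHom.toAlgebra
  have hker : RingHom.ker (algebraMap C D) = ⊥ :=
    (RingHom.injective_iff_ker_eq_bot _).1 e.injective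
  refine (relExact_iff (B := D) e.surjective hker f).1 fun k z hz hzJ => ?_
  replace hzJ : ct f z = 0 := by
    change _ ∈ ((⊥ : Ideal C) • ⊤ : Submodule C _) at hzJ
    rwa [Submodule.bot_smul, Submodule.mem_bot] at hzJ
  rw [isExact_iff, isKoszulRegularSeq_iff] at hf
  obtain ⟨y, hy, hyz⟩ := hf k z hz hzJ
  exact ⟨y, hy, by rw [hyz, sub_self]; exact zero_mem _⟩

/-- Exactness is preserved by a flat algebra. -/
theorem isExact_of_flat [Module.Flat A B] {f : Fin n → A} (hf : IsExact f) :
    IsExact fun i => algebraMap A B (f i) := by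
  have h := isExact_equiv (Algebra.TensorProduct.lid A B).toRingEquiv (hf.baseChange (A := A) (B := B))
  convert h using 1
  funext i
  exact ((Algebra.TensorProduct.lid A B).commutes (f i)).symm

end Groth.Agent.LCIPres
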