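import Groth.Agent.LCIPres.Smooth
import Groth.Agent.S7070
import Groth.Agent.PCHom.Local
import Mathlib

/-!
# Perfect ring maps cancel smooth ring maps
-/

set_option autoImplicit false
set_option linter.style.haveILetI false

universe u

open TensorProduct
attribute [local instance] HasDerivedCategory.standard

namespace Groth.Agent.LCIPres

attribute [local instance] Algebra.TensorProduct.rightAlgebra

theorem isPerfectHom_cancel_smooth {A B C : Type u} [CommRing A] [CommRing B] [CommRing C] [Algebra A B] [Algebra A C]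
    [Algebra B C] [IsScalarTower A B C] [Algebra.Smooth A B] (h : MoreMor.IsPerfectHom A C) :
    MoreMor.IsPerfectHom B C := by
  let μ : B ⊗[A] C →ₐ[B] C :=
    Algebra.TensorProduct.lift (Algebra.ofId B C) (AlgHom.id A C) fun _ _ => Commute.all _ _
  letI : Algebra (B ⊗[A] C) C := μ.toRingHom.toAlgebra
  haveI : IsScalarTower B (B ⊗[A] C) C := IsScalarTower.of_algebraMap_eq fun b => (μ.commutes b).symm
  haveI : IsScalarTower C (B ⊗[A] C) C := IsScalarTower.of_algebraMap_eq fun c => by
    show algebraMap C C c = μ (1 ⊗ₜ c)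
    simp [μ]
  haveI : Algebra.Smooth C (B ⊗[A] C) :=
    Algebra.Smooth.of_equiv (AlgEquiv.ofRingEquiv (f := (Algebra.TensorProduct.comm A C B).toRingEquiv)
      fun c => by exact Algebra.TensorProduct.comm_tmul A c 1)
  have h₁ : MoreMor.IsPerfectHom B (B ⊗[A] C) := PCHom.perfect_baseChange (A := A) (B := C) h
  have h₂ : MoreMor.IsPerfectHom (B ⊗[A] C) C :=
    S7070.result _ _ (isLCI_cancel_smooth (A := C) isLCI_of_smooth)
  exact PCHom.perfect_comp B (B ⊗[A] C) C h₁ h₂

end Groth.Agent.LCIPres
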