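import Groth.Agent.LCIPres.Ideal
import Mathlib.RingTheory.Polynomial.Quotient
import Mathlib.RingTheory.Localization.Away.AdjoinRoot
import Mathlib.Algebra.MvPolynomial.Equiv
import Mathlib.Algebra.Polynomial.Derivation
import Mathlib.RingTheory.FiniteType
import Mathlib.RingTheory.RingHom.Flat

/-!
# Local complete intersection homomorphisms: independence of the presentation, locality, composition
-/

set_option autoImplicit false
set_option maxHeartbeats 400000

noncomputable section

universe u

namespace Groth.Agent.LCIPres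

open KoszulExt MvPolynomial

variable {A C : Type u} [CommRing A] [CommRing C] [Algebra A C]

/-- The relations among the elements `v` form a Koszul-regular ideal. -/
def KPres (A : Type u) {C : Type u} [CommRing A] [CommRing C] [Algebra A C] {n : ℕ} (v : Fin n → C) : Prop :=
  LCI.IsKoszulRegularIdeal (RingHom.ker (aeval (R := A) v).toRingHom)

theorem isKoszulRegularIdeal_span_singleton {R : Type u} [CommRing R] {s : R} (hs : IsSMulRegular R s) :
    LCI.IsKoszulRegularIdeal (Ideal.span {s}) := by
  rw [isKoszulRegularIdeal_iff]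
  intro p hp _
  have : Module.Flat R (Localization.Away (1 : R)) := IsLocalization.flat _ (Submonoid.powers 1)
  refine KRAt.mk' 1 (fun h => hp.ne_top ((Ideal.eq_top_iff_one _).2 h)) (Localization.Away (1 : R))
    (fun _ : Fin 1 => algebraMap R _ s) ?_ (by rw [Ideal.map_span, Set.image_singleton, Set.range_const])
  refine (isExact_iff _).2 (isKoszulRegularSeq_of_isWeaklyRegular ?_)
  rw [List.ofFn_succ, List.ofFn_zero]
  exact (RingTheory.Sequence.isWeaklyRegular_singleton_iff _ _).2 hs.of_flat

/-- Koszul regularity is invariant under a ring isomorphism of presentations. -/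
theorem kreg_comap_equiv {R S : Type u} [CommRing R] [CommRing S] (e : R ≃+* S) (K : Ideal S) :
    LCI.IsKoszulRegularIdeal (K.comap e.toRingHom) ↔ LCI.IsKoszulRegularIdeal K := by
  conv_rhs => rw [← Ideal.map_comap_of_surjective e.toRingHom e.surjective K]
  exact (isKoszulRegularIdeal_map_equiv e _).symm

/-- Adjoining one more generator does not matter. -/
theorem kpres_cons {n : ℕ} {v : Fin n → C} (hv : Function.Surjective (aeval (R := A) v)) (c : C) :
    KPres A (Fin.cons c v : Fin (n + 1) → C) ↔ KPres A v := by
  obtain ⟨h, rfl⟩ := hv c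
  let R := MvPolynomial (Fin n) A
  let I := RingHom.ker (aeval (R := A) v).toRingHom
  let : Algebra (Polynomial R) R := (Polynomial.evalRingHom h).toAlgebra
  have hs : Function.Surjective (algebraMap (Polynomial R) R) := fun r => ⟨Polynomial.C r, Polynomial.eval_C⟩
  have hker : RingHom.ker (algebraMap (Polynomial R) R) = Ideal.span {Polynomial.X - Polynomial.C h} :=
    Polynomial.ker_evalRingHom h
  have hreg : IsSMulRegular (Polynomial R) (Polynomial.X - Polynomial.C h) :=
    (Polynomial.monic_X_sub_C h).isRegular.left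
  have hK : RingHom.ker (aeval (R := A) (Fin.cons (aeval v h) v : Fin (n + 1) → C)).toRingHom =
      (I.comap (algebraMap (Polynomial R) R)).comap (finSuccEquiv A n).toRingEquiv.toRingHom := by
    rw [RingHom.comap_ker, RingHom.comap_ker]
    congr 1
    refine MvPolynomial.ringHom_ext (fun a => ?_) fun i => ?_
    · simp [RingHom.algebraMap_toAlgebra, R, finSuccEquiv_apply]
    · cases i using Fin.cases <;> simp [RingHom.algebraMap_toAlgebra, R, finSuccEquiv_apply]
  rw [KPres, hK, kreg_comap_equiv]
  constructor
  · intro hJ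
    have h1 := isKoszulRegularIdeal_map_of_span_singleton hs hker hreg
      (K := I.comap (algebraMap (Polynomial R) R))
      (Ideal.comap_mono bot_le (hker.ge (Ideal.subset_span rfl))) hJ fun q hq hKq t ht => by
        refine notMem_mul_of_derivation (Polynomial.derivative' (R := R)) hKq
          (Ideal.comap_mono bot_le (hker.ge (Ideal.subset_span rfl))) ?_ t ht
        rw [show Polynomial.derivative' (Polynomial.X - Polynomial.C h) = (1 : Polynomial R) from
          (Polynomial.derivative_X_sub_C h)]
        exact fun h1 => hq.ne_top ((Ideal.eq_top_iff_one _).2 h1)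
    rwa [Ideal.map_comap_of_surjective _ hs] at h1
  · exact isKoszulRegularIdeal_comap hs (hker ▸ isKoszulRegularIdeal_span_singleton hreg)

/-- Renaming the generators does not matter. -/
theorem kpres_equiv {n m : ℕ} (σ : Fin n ≃ Fin m) (v : Fin m → C) : KPres A (v ∘ σ) ↔ KPres A v := by
  have h : (aeval (R := A) (v ∘ σ)) = (aeval v).comp (renameEquiv A σ).toAlgHom := by
    refine MvPolynomial.algHom_ext fun i => ?_
    simp
  rw [KPres, h, show RingHom.ker ((aeval (R := A) v).comp (renameEquiv A σ).toAlgHom).toRingHom =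
    (RingHom.ker (aeval (R := A) v).toRingHom).comap (renameEquiv A σ).toRingEquiv.toRingHom from
    (RingHom.comap_ker (aeval (R := A) v).toRingHom (renameEquiv A σ).toRingEquiv.toRingHom).symm]
  exact kreg_comap_equiv _ _

theorem surjective_aeval_of_range {n m : ℕ} {v : Fin n → C} {w : Fin m → C}
    (hv : Function.Surjective (aeval (R := A) v)) (h : Set.range v ⊆ Set.range w) :
    Function.Surjective (aeval (R := A) w) := by
  rw [← AlgHom.range_eq_top] at hv ⊢
  rw [eq_top_iff, ← hv, ← Algebra.adjoin_range_eq_range_aeval, ← Algebra.adjoin_range_eq_range_aeval]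
  exact Algebra.adjoin_mono h

/-- Adjoining more generators does not matter. -/
theorem kpres_cat {n : ℕ} {v : Fin n → C} (hv : Function.Surjective (aeval (R := A) v)) :
    ∀ {m : ℕ} (w : Fin m → C), KPres A (cat w v) ↔ KPres A v := by
  intro m
  induction m with
  | zero => intro w; exact Iff.rfl
  | succ m ih =>
    intro w
    refine (kpres_cons (surjective_aeval_of_range hv ?_) (w 0)).trans (ih fun i => w i.succ)
    rw [range_cat]
    exact Set.subset_union_right

/-- Independence of the presentation. -/
theorem kpres_iff {n m : ℕ} {v : Fin n → C} {w : Fin m → C} (hv : Function.Surjective (aeval (R := A) v))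
    (hw : Function.Surjective (aeval (R := A) w)) : KPres A v ↔ KPres A w := by
  have h : cat w v = cat v w ∘ ((catEquiv m n).symm.trans ((Equiv.sumComm _ _).trans (catEquiv n m))) := by
    funext i
    obtain ⟨x, rfl⟩ := (catEquiv m n).surjective i
    rw [Function.comp_apply, Equiv.trans_apply, Equiv.symm_apply_apply, Equiv.trans_apply, cat_catEquiv, cat_catEquiv]
    rcases x with x | x <;> rfl
  rw [← kpres_cat hv w, h, kpres_equiv, kpres_cat hw v]

/-- LCI in terms of any presentation. -/
theorem isLCI_iff {n : ℕ} {v : Fin n → C} (hv : Function.Surjective (aeval (R := A) v)) :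
    LCI.IsLCI A C ↔ KPres A v := by
  constructor
  · rintro ⟨-, m, f, hf, hI⟩
    have hfe : f = aeval fun i => f (X i) := aeval_unique f
    rw [hfe] at hf hI
    exact (kpres_iff hv hf).2 hI
  · intro h
    exact ⟨Algebra.FiniteType.iff_quotient_mvPolynomial''.2 ⟨n, aeval v, hv⟩, n, aeval v, hv, h⟩

theorem exists_pres (A C : Type u) [CommRing A] [CommRing C] [Algebra A C] [Algebra.FiniteType A C] :
    ∃ (n : ℕ) (v : Fin n → C), Function.Surjective (aeval (R := A) v) := by
  obtain ⟨n, f, hf⟩ := Algebra.FiniteType.iff_quotient_mvPolynomial''.1 (inferInstance : Algebra.FiniteType A C)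
  exact ⟨n, fun i => f (X i), (aeval_unique f) ▸ hf⟩

section Away

variable {n : ℕ} {v : Fin n → C} (hv : Function.Surjective (aeval (R := A) v))

include hv

/-- Inverting the image of `h`: presentation of `C_b` and the localised ideal. -/
theorem isLCI_away_iff (h : MvPolynomial (Fin n) A) (C' : Type u) [CommRing C'] [Algebra C C'] [Algebra A C']
    [IsScalarTower A C C'] [IsLocalization.Away (aeval v h) C'] :
    LCI.IsLCI A C' ↔ LCI.IsKoszulRegularIdeal
      ((RingHom.ker (aeval (R := A) v).toRingHom).map
        (algebraMap (MvPolynomial (Fin n) A) (Localization.Away h))) := by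
  let R := MvPolynomial (Fin n) A
  let L := Localization.Away h
  let φ : R →+* C := (aeval (R := A) v).toRingHom
  have hM : (Submonoid.powers h).map φ = Submonoid.powers (φ h) := Submonoid.map_powers _ _
  have : IsLocalization ((Submonoid.powers h).map φ) C' := by
    rw [hM]
    exact ‹IsLocalization.Away (aeval v h) C'›
  let ψ : L →+* C' := IsLocalization.map C' φ (Submonoid.powers h).le_comap_map
  have hψ : ∀ z, ψ (algebraMap R L z) = algebraMap C C' (φ z) := IsLocalization.map_eq _
  have hψs : Function.Surjective ψ := IsLocalization.map_surjective_of_surjective (Submonoid.powers h) L C' hv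
  have hψk : RingHom.ker ψ = (RingHom.ker φ).map (algebraMap R L) := IsLocalization.ker_map C' φ rfl
  let inv : C' := IsLocalization.Away.invSelf (S := C') (aeval v h)
  let v' : Fin (n + 1) → C' := Fin.cons inv fun i => algebraMap C C' (v i)
  let : Algebra (Polynomial R) L := (Polynomial.aeval (IsLocalization.Away.invSelf (S := L) h)).toRingHom.toAlgebra
  have hLeq : ∀ p, algebraMap (Polynomial R) L p =
      (Localization.awayEquivAdjoin h).symm (AdjoinRoot.mk _ p) := by
    intro p
    refine DFunLike.congr_fun (F := Polynomial R →ₐ[R] L) (Polynomial.algHom_ext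
      (f := Polynomial.aeval _) (g := (Localization.awayEquivAdjoin h).symm.toAlgHom.comp (AdjoinRoot.mkₐ _)) ?_) p
    simp [Localization.awayEquivAdjoin]
  have hs : Function.Surjective (algebraMap (Polynomial R) L) := fun z => by
    obtain ⟨p, hp⟩ := AdjoinRoot.mk_surjective ((Localization.awayEquivAdjoin h) z)
    exact ⟨p, by rw [hLeq, hp, AlgEquiv.symm_apply_apply]⟩
  let s : Polynomial R := Polynomial.C h * Polynomial.X - 1
  have hker : RingHom.ker (algebraMap (Polynomial R) L) = Ideal.span {s} := by
    ext p
    rw [RingHom.mem_ker, hLeq, EmbeddingLike.map_eq_zero_iff, AdjoinRoot.mk_eq_zero, Ideal.mem_span_singleton]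
  have hreg : IsSMulRegular (Polynomial R) s := by
    refine isLeftRegular_of_non_zero_divisor s fun p hp => ?_
    rw [sub_mul, one_mul, sub_eq_zero, mul_assoc] at hp
    refine Polynomial.ext fun i => ?_
    rw [Polynomial.coeff_zero]
    induction i with
    | zero => rw [← hp, Polynomial.coeff_C_mul, Polynomial.coeff_X_mul_zero, mul_zero]
    | succ i ih => rw [← hp, Polynomial.coeff_C_mul, Polynomial.coeff_X_mul, ih, mul_zero]
  have hK : RingHom.ker (aeval (R := A) v').toRingHom =
      ((RingHom.ker ψ).comap (algebraMap (Polynomial R) L)).comap (finSuccEquiv A n).toRingEquiv.toRingHom := by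
    rw [RingHom.comap_ker, RingHom.comap_ker]
    congr 1
    refine MvPolynomial.ringHom_ext (fun a => ?_) fun i => ?_
    · simp [RingHom.algebraMap_toAlgebra, R, L, finSuccEquiv_apply, hψ, φ, v', ← IsScalarTower.algebraMap_apply]
    · cases i using Fin.cases with
      | zero =>
        simp [RingHom.algebraMap_toAlgebra, R, L, finSuccEquiv_apply, v']
        refine (IsUnit.mul_right_inj (IsLocalization.Away.algebraMap_isUnit (S := C') (aeval v h))).1 ?_
        rw [IsLocalization.Away.mul_invSelf]
        have h1 := congrArg ψ (IsLocalization.Away.mul_invSelf (S := L) h)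
        rw [map_mul, map_one, hψ] at h1
        exact h1.symm
      | succ i => simp [RingHom.algebraMap_toAlgebra, R, L, finSuccEquiv_apply, hψ, φ, v']
  have hv' : Function.Surjective (aeval (R := A) v') := by
    intro z
    obtain ⟨x, rfl⟩ := hψs z
    obtain ⟨p, rfl⟩ := hs x
    refine ⟨(finSuccEquiv A n).symm p, ?_⟩
    have h1 : ∀ q : MvPolynomial (Fin (n + 1)) A, q ∈ RingHom.ker (aeval (R := A) v').toRingHom ↔
        ψ (algebraMap (Polynomial R) L (finSuccEquiv A n q)) = 0 := fun q => by rw [hK]; rfl
    have h2 : (aeval (R := A) v').toRingHom =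
        (ψ.comp (algebraMap (Polynomial R) L)).comp (finSuccEquiv A n).toRingEquiv.toRingHom := by
      refine MvPolynomial.ringHom_ext (fun a => ?_) fun i => ?_
      · simp [RingHom.algebraMap_toAlgebra, R, L, finSuccEquiv_apply, hψ, φ, v', ← IsScalarTower.algebraMap_apply]
      · cases i using Fin.cases with
        | zero =>
          simp [RingHom.algebraMap_toAlgebra, R, L, finSuccEquiv_apply, v']
          refine (IsUnit.mul_right_inj (IsLocalization.Away.algebraMap_isUnit (S := C') (aeval v h))).1 ?_
          rw [IsLocalization.Away.mul_invSelf]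
          have h3 := congrArg ψ (IsLocalization.Away.mul_invSelf (S := L) h)
          rw [map_mul, map_one, hψ] at h3
          exact h3.symm
        | succ i => simp [RingHom.algebraMap_toAlgebra, R, L, finSuccEquiv_apply, hψ, φ, v']
    refine (RingHom.congr_fun h2 _).trans ?_
    simp
  rw [isLCI_iff hv', KPres, hK, kreg_comap_equiv, ← hψk]
  refine ⟨fun h1 => ?_, isKoszulRegularIdeal_comap hs (hker ▸ isKoszulRegularIdeal_span_singleton hreg)⟩
  have hsmem : s ∈ (RingHom.ker ψ).comap (algebraMap (Polynomial R) L) :=
    Ideal.comap_mono bot_le (hker.ge (Ideal.subset_span rfl))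
  have h2 := isKoszulRegularIdeal_map_of_span_singleton hs hker hreg hsmem h1 fun q hq hKq t ht => by
    refine notMem_mul_of_derivation (Polynomial.derivative' (R := R)) hKq hsmem ?_ t ht
    rw [show Polynomial.derivative' s = Polynomial.C h from by simp [s, Polynomial.derivative']]
    intro hC
    have h3 : Polynomial.C h * Polynomial.X - 1 ∈ q := hKq hsmem
    refine hq.ne_top ((Ideal.eq_top_iff_one _).2 ?_)
    simpa using sub_mem (Ideal.mul_mem_right Polynomial.X q hC) h3
  rwa [Ideal.map_comap_of_surjective _ hs] at h2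

end Away

/-- Localisations of LCI algebras are LCI. -/
theorem isLCI_away (hC : LCI.IsLCI A C) (b : C) (C' : Type u) [CommRing C'] [Algebra C C'] [Algebra A C']
    [IsScalarTower A C C'] [IsLocalization.Away b C'] : LCI.IsLCI A C' := by
  have := hC.1
  obtain ⟨n, v, hv⟩ := exists_pres A C
  obtain ⟨h, rfl⟩ := hv b
  exact (isLCI_away_iff hv h C').2
    (isKoszulRegularIdeal_map _ (RingHom.flat_algebraMap_iff.2 (IsLocalization.flat _ (Submonoid.powers h)))
      ((isLCI_iff hv).1 hC))

/-- LCI is invariant under isomorphisms. -/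
theorem isLCI_congr {C' : Type u} [CommRing C'] [Algebra A C'] (e : C ≃ₐ[A] C') (hC : LCI.IsLCI A C) :
    LCI.IsLCI A C' := by
  obtain ⟨hft, n, f, hf, hI⟩ := hC
  refine ⟨hft.equiv e, n, e.toAlgHom.comp f, e.surjective.comp hf, ?_⟩
  convert hI using 1
  refine Ideal.ext fun x => ?_
  exact (RingHom.mem_ker (f := (e.toAlgHom.comp f).toRingHom)).trans (map_eq_zero_iff e e.injective)

/-- LCI is local on the target. -/
theorem isLCI_of_span [Algebra.FiniteType A C] (s : Set C) (hs : Ideal.span s = ⊤)
    (h : ∀ b ∈ s, LCI.IsLCI A (Localization.Away b)) : LCI.IsLCI A C := by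
  obtain ⟨n, v, hv⟩ := exists_pres A C
  rw [isLCI_iff hv]
  let R := MvPolynomial (Fin n) A
  let φ : R →+* C := (aeval (R := A) v).toRingHom
  rw [KPres, isKoszulRegularIdeal_iff]
  intro p hp hIp
  have hp' : (p.map φ).IsPrime := Ideal.map_isPrime_of_surjective hv hIp
  obtain ⟨b, hb, hbp⟩ : ∃ b ∈ s, b ∉ p.map φ := Set.not_subset.1 fun hsub =>
    hp'.ne_top (top_le_iff.1 (hs ▸ Ideal.span_le.2 hsub))
  obtain ⟨t, rfl⟩ := hv b
  have htp : t ∉ p := fun ht => hbp (Ideal.mem_map_of_mem φ ht)
  let L := Localization.Away t
  have hK := (isKoszulRegularIdeal_iff _).1 ((isLCI_away_iff hv t (Localization.Away (aeval v t))).1 (h _ hb))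
  have hd : Disjoint (Submonoid.powers t : Set R) (p : Set R) := (Ideal.disjoint_powers_iff_notMem_of_isPrime _).2 htp
  let p' := p.map (algebraMap R L)
  have hp'' : p'.IsPrime := IsLocalization.isPrime_of_isPrime_disjoint (.powers t) _ _ hp hd
  obtain ⟨b', hb', k, g, hg, hgspan⟩ := hK p' hp'' (Ideal.map_mono hIp)
  obtain ⟨a, e, he⟩ := IsLocalization.Away.surj t b'
  have hep : e ∉ p := fun hm => by
    have h1 : b' * algebraMap R L t ^ a ∈ p' := he ▸ Ideal.mem_map_of_mem _ hm
    exact hb' ((Ideal.mul_unit_mem_iff_mem _ ((IsLocalization.Away.algebraMap_isUnit t).pow a)).1 h1)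
  let L' := Localization.Away (algebraMap R L e)
  obtain ⟨g', hg', hg'span⟩ := data_of_dvd (h' := algebraMap R L e) ⟨_, he.symm⟩ L' hg hgspan
  have : IsLocalization.Away (t * e) L' := IsLocalization.Away.mul' L L' t e
  refine KRAt.mk' (t * e) (fun hm => (hp.mem_or_mem hm).elim htp hep) L' g' hg' ?_
  rw [IsScalarTower.algebraMap_eq R L L', ← Ideal.map_map, hg'span]

/-- LCI homomorphisms compose. -/
theorem isLCI_trans {B : Type u} [CommRing B] [Algebra A B] [Algebra B C] [IsScalarTower A B C]
    (h₁ : LCI.IsLCI A B) (h₂ : LCI.IsLCI B C) : LCI.IsLCI A C := by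
  have := h₁.1
  have := h₂.1
  obtain ⟨n, v, hv⟩ := exists_pres A B
  obtain ⟨m, w, hw⟩ := exists_pres B C
  have hI := (isLCI_iff hv).1 h₁
  have hJ := (isLCI_iff hw).1 h₂
  let R := MvPolynomial (Fin n) A
  let R' := MvPolynomial (Fin m) R
  let φ : R →+* B := (aeval (R := A) v).toRingHom
  let : Algebra R' (MvPolynomial (Fin m) B) := (MvPolynomial.map φ).toAlgebra
  have hs : Function.Surjective (algebraMap R' (MvPolynomial (Fin m) B)) := MvPolynomial.map_surjective φ hv
  have hker : LCI.IsKoszulRegularIdeal (RingHom.ker (algebraMap R' (MvPolynomial (Fin m) B))) := by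
    rw [RingHom.algebraMap_toAlgebra, MvPolynomial.ker_map]
    exact isKoszulRegularIdeal_map _
      (RingHom.flat_algebraMap_iff.2 (inferInstanceAs (Module.Flat R (MvPolynomial (Fin m) R)))) hI
  have hK := isKoszulRegularIdeal_comap hs hker hJ
  let u : Fin (n + m) → C := cat w fun i => algebraMap B C (v i)
  let e : MvPolynomial (Fin (n + m)) A ≃ₐ[A] R' :=
    (renameEquiv A (catEquiv m n).symm).trans (sumAlgEquiv A (Fin m) (Fin n))
  have hcomp : (aeval (R := A) u).toRingHom =
      ((aeval (R := B) w).toRingHom.comp (algebraMap R' (MvPolynomial (Fin m) B))).comp e.toRingEquiv.toRingHom := by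
    refine MvPolynomial.ringHom_ext (fun a => ?_) fun i => ?_
    · simp [e, RingHom.algebraMap_toAlgebra, R', R, φ, ← IsScalarTower.algebraMap_apply]
    · obtain ⟨x, rfl⟩ := (catEquiv m n).surjective i
      rcases x with x | x <;> simp [e, u, cat_catEquiv, RingHom.algebraMap_toAlgebra, R', R, φ]
  have hu : Function.Surjective (aeval (R := A) u) := by
    change Function.Surjective (aeval (R := A) u).toRingHom
    rw [hcomp]
    exact (hw.comp hs).comp e.surjective
  rw [isLCI_iff hu, KPres, hcomp, ← RingHom.comap_ker, ← RingHom.comap_ker, kreg_comap_equiv]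
  exact hK

end Groth.Agent.LCIPres
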