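import Groth.Agent.LCIPres.Ideal
import Groth.Agent.KoszulExt.Homology
import Groth.Agent.KoszulExt.MinLength
import Groth.Agent.CAlgReg.Basic
import Groth.Agent.SyntLCI.Pres
import Groth.Agent.S2189
import Mathlib

/-!
# Ideals with regular quotient inside ideals generated by regular sequences
-/

set_option autoImplicit false
set_option linter.style.haveILetI false

noncomputable section

universe u

open IsLocalRing RingTheory.Sequence

namespace Groth.Agent.LCIPres

section Converse

open KoszulExt

variable {A : Type u} [CommRing A]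

/-- In a Noetherian local ring, sequences in the maximal ideal with exact Koszul complex are weakly regular. -/
theorem isWeaklyRegular_reverse_of_isExact [IsLocalRing A] [IsNoetherianRing A] :
    ∀ (n : ℕ) (f : Fin n → A), (∀ i, f i ∈ maximalIdeal A) → IsExact f →
      IsWeaklyRegular A (List.ofFn f).reverse := by
  intro n
  induction n with
  | zero => intro f _ _; simp
  | succ n ih =>
    intro f hm hf
    let f' : Fin n → A := fun i => f i.succ
    rw [isExact_iff, isKoszulRegularSeq_iff] at hf
    have key : ∀ k (z : ExteriorAlgebra A (Fin n → A)), z ∈ G A n (k + 1) → ct f' z = 0 →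
        ∃ a b, a ∈ G A n (k + 2) ∧ b ∈ G A n (k + 1) ∧ ct f' b = 0 ∧ ct f' a + f 0 • b = z := by
      intro k z hz hz0
      obtain ⟨Y, hY, hY'⟩ := hf k (split (z, 0)) (split_mem hz (zero_mem _)) (by
        rw [ct_split, map_zero, smul_zero, add_zero, neg_zero, hz0]
        exact map_zero _)
      obtain ⟨a, b, ha, hb, rfl⟩ := exists_split hY
      rw [if_neg (Nat.succ_ne_zero _)] at hb
      simp only [Nat.add_sub_cancel, show k + 2 - 1 = k + 1 from rfl] at hb
      rw [ct_split] at hY'
      obtain ⟨h1, h2⟩ := Prod.ext_iff.1 (split_injective hY')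
      exact ⟨a, b, ha, hb, neg_eq_zero.1 h2, h1⟩
    have hex : IsExact f' := by
      rw [isExact_iff, isKoszulRegularSeq_iff]
      intro k
      let Zs := G A n (k + 1) ⊓ LinearMap.ker (ct f')
      let Bs := (G A n (k + 2)).map (ct f')
      have hle : Zs ≤ Bs ⊔ maximalIdeal A • Zs := by
        intro z hz
        obtain ⟨a, b, ha, hb, hb0, hab⟩ := key k z hz.1 hz.2
        rw [← hab]
        exact Submodule.add_mem_sup (Submodule.mem_map_of_mem ha) (Submodule.smul_mem_smul (hm 0) ⟨hb, hb0⟩)
      have hGfg : (G A n (k + 1)).FG := Submodule.FG.pow (Module.Finite.iff_fg.1 inferInstance) _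
      have : IsNoetherian A (G A n (k + 1)) := isNoetherian_of_fg_of_noetherian _ hGfg
      have hfg : Zs.FG := Submodule.FG.of_le_of_isNoetherian (show Zs ≤ G A n (k + 1) from inf_le_left)
      intro z hz hz0
      exact Submodule.mem_map.1 (Submodule.le_of_le_smul_of_le_jacobson_bot hfg
        (maximalIdeal_le_jacobson ⊥) hle ⟨hz, hz0⟩)
    rw [List.ofFn_succ, List.reverse_cons, isWeaklyRegular_append_iff, isWeaklyRegular_singleton_iff]
    refine ⟨ih f' (fun i => hm i.succ) hex, ?_⟩
    have hI : Ideal.ofList (List.ofFn f').reverse = Ideal.span (Set.range f') := by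
      refine congrArg Ideal.span ?_
      ext z
      simp [List.mem_ofFn]
    refine IsSMulRegular.of_right_eq_zero_of_smul fun x => Submodule.Quotient.induction_on _ x fun r hr => ?_
    rw [← Submodule.Quotient.mk_smul, Submodule.Quotient.mk_eq_zero, smul_eq_mul, smul_eq_mul, Ideal.mul_top,
      hI] at hr
    rw [Submodule.Quotient.mk_eq_zero, smul_eq_mul, Ideal.mul_top, hI]
    obtain ⟨v, hv⟩ := Ideal.mem_span_range_iff_exists_fun.1 hr
    have hG1 : ∀ w : Fin n → A, ExteriorAlgebra.ι A w ∈ G A n 1 := fun w => by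
      rw [G, ExteriorAlgebra.exteriorPower, pow_one]; exact LinearMap.mem_range_self _ _
    have hG0 : algebraMap A (ExteriorAlgebra A (Fin n → A)) r ∈ G A n 0 := by
      rw [G, ExteriorAlgebra.exteriorPower, pow_zero, Submodule.one_eq_range]; exact ⟨r, rfl⟩
    obtain ⟨Y, hY, hY'⟩ := hf 0 (split (-ExteriorAlgebra.ι A v, algebraMap A _ r))
      (split_mem (neg_mem (hG1 v)) hG0) (by
        rw [ct_split, map_neg, ct_ι, ct_algebraMap, neg_zero, Algebra.smul_def, ← map_mul]
        change split (-algebraMap A (ExteriorAlgebra A (Fin n → A)) (∑ i, v i * f' i) + _, 0) = 0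
        rw [hv, neg_add_cancel]
        exact map_zero _)
    obtain ⟨a, b, ha, hb, rfl⟩ := exists_split hY
    rw [if_neg (Nat.succ_ne_zero _), show (0 + 2 - 1 : ℕ) = 1 from rfl] at hb
    rw [ct_split] at hY'
    have h2 : -ct f' b = algebraMap A _ r := (Prod.ext_iff.1 (split_injective hY')).2
    have h3 := ct_mem_span f' b hb
    have h4 : ExteriorAlgebra.algebraMapInv (ct f' b) ∈ Ideal.span (Set.range f') := by
      refine Submodule.smul_induction_on h3 (fun c hc y _ => ?_) fun x y hx hy => by
        rw [map_add]; exact add_mem hx hy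
      rw [map_smul, smul_eq_mul]
      exact Ideal.mul_mem_right _ _ hc
    rw [neg_eq_iff_eq_neg.1 h2, map_neg, ExteriorAlgebra.algebraMap_leftInverse, neg_mem_iff] at h4
    exact h4

theorem isWeaklyRegular_of_isExact [IsLocalRing A] [IsNoetherianRing A] {n : ℕ} {f : Fin n → A}
    (hm : ∀ i, f i ∈ maximalIdeal A) (hf : IsExact f) : IsWeaklyRegular A (List.ofFn f) := by
  have h := isWeaklyRegular_reverse_of_isExact n (fun i => f (Fin.revPerm i)) (fun i => hm _) (hf.reindex Fin.revPerm)
  have h1 : (List.ofFn fun i => f (Fin.revPerm i)).reverse = List.ofFn f := by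
    refine List.ext_getElem (by simp) fun j h1 h2 => ?_
    simp only [List.getElem_reverse, List.getElem_ofFn, List.length_ofFn]
    congr 1
    ext
    simp only [Fin.revPerm_apply, Fin.val_rev]
    rw [List.length_ofFn] at h2
    omega
  rwa [h1] at h

/-- Exactness with a generator exchanged. -/
theorem isExact_update {n : ℕ} {g : Fin n → A} (hg : IsExact g) (c : Fin n → A) (j : Fin n) (hc : IsUnit (c j)) :
    IsExact (Function.update g j (∑ i, c i * g i)) := by
  classical
  refine hg.of_matrix ((1 : Matrix (Fin n) (Fin n) A).updateRow j c) (fun i => ?_) ?_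
  · rcases eq_or_ne i j with rfl | h
    · simp
    · simp [Matrix.updateRow_ne h, Matrix.one_apply, Function.update_of_ne h]
  · have h1 : ((1 : Matrix (Fin n) (Fin n) A).updateRow j c).det = c j := by
      have h2 := Matrix.det_updateRow_sum (1 : Matrix (Fin n) (Fin n) A) j c
      rw [Matrix.det_one, smul_eq_mul, mul_one] at h2
      rw [← h2]
      congr 2
      funext k
      simp [Finset.sum_apply, Matrix.one_apply]
    rw [h1, Ideal.span_singleton_eq_top.2 hc, sup_top_eq]

theorem span_update {n : ℕ} {g : Fin n → A} (c : Fin n → A) (j : Fin n) (hc : IsUnit (c j)) :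
    Ideal.span (Set.range (Function.update g j (∑ i, c i * g i))) = Ideal.span (Set.range g) := by
  classical
  refine le_antisymm (Ideal.span_le.2 ?_) (Ideal.span_le.2 ?_)
  · rintro _ ⟨i, rfl⟩
    rcases eq_or_ne i j with rfl | h
    · rw [Function.update_self]
      exact Ideal.sum_mem _ fun k _ => Ideal.mul_mem_left _ _ (Ideal.subset_span ⟨k, rfl⟩)
    · rw [Function.update_of_ne h]
      exact Ideal.subset_span ⟨i, rfl⟩
  · have hne : ∀ i, i ≠ j → g i ∈ Ideal.span (Set.range (Function.update g j (∑ i, c i * g i))) :=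
      fun i h => Ideal.subset_span ⟨i, Function.update_of_ne h _ _⟩
    rintro _ ⟨i, rfl⟩
    rcases eq_or_ne i j with rfl | h
    · refine (Ideal.unit_mul_mem_iff_mem _ hc).1 ?_
      rw [← add_sub_cancel_right (c i * g i) (∑ k ∈ Finset.univ.erase i, c k * g k),
        Finset.add_sum_erase _ (fun k => c k * g k) (Finset.mem_univ i)]
      exact sub_mem (Ideal.subset_span ⟨i, Function.update_self _ _ _⟩)
        (Ideal.sum_mem _ fun k hk => Ideal.mul_mem_left _ _ (hne k (Finset.ne_of_mem_erase hk)))
    · exact hne i h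

end Converse

section Quot

theorem eq_bot_of_le_sq {R : Type u} [CommRing R] [IsLocalRing R] [IsNoetherianRing R] {J : Ideal R}
    (hJ : J ≤ maximalIdeal R ^ 2) (hT : IsRegularLocalRing (R ⧸ J)) : J = ⊥ := by
  classical
  have hJm : J ≤ maximalIdeal R := hJ.trans (Ideal.pow_le_self two_ne_zero)
  have hfg : Submodule.FG (maximalIdeal (R ⧸ J)) := IsNoetherian.noetherian _
  obtain ⟨t, hfin, hcard, ht⟩ : ∃ t : Set (R ⧸ J), t.Finite ∧ t.ncard = (maximalIdeal (R ⧸ J)).spanFinrank ∧
      Ideal.span t = maximalIdeal (R ⧸ J) :=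
    ⟨_, hfg.finite_generators, hfg.generators_ncard, Submodule.span_generators _⟩
  let π := Ideal.Quotient.mk J
  have hπ : Function.Surjective π := Ideal.Quotient.mk_surjective
  let s := Function.surjInv hπ '' t
  have hs : π '' s = t := by
    rw [Set.image_image]
    simp [Function.surjInv_eq hπ]
  have hmap : (Ideal.span s).map π = maximalIdeal (R ⧸ J) := by rw [Ideal.map_span, hs, ht]
  have hmax : (maximalIdeal (R ⧸ J)).comap π = maximalIdeal R := by
    haveI := IsLocalHom.of_surjective π hπ
    exact IsLocalRing.maximalIdeal_comap π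
  have hle : maximalIdeal R ≤ Ideal.span s ⊔ maximalIdeal R • maximalIdeal R := by
    rw [smul_eq_mul, ← pow_two]
    intro x hx
    have hx' : π x ∈ (Ideal.span s).map π := hmap.ge (hmax.ge hx)
    obtain ⟨y, hy, hxy⟩ := (Ideal.mem_map_iff_of_surjective π hπ).1 hx'
    rw [show x = y + (x - y) by ring]
    exact Submodule.add_mem_sup hy (hJ (Ideal.Quotient.eq.1 hxy.symm))
  have hsm : Ideal.span s ≤ maximalIdeal R := fun x hx => hmax.le (hmap.le (Ideal.mem_map_of_mem π hx))
  have heq : Ideal.span s = maximalIdeal R := le_antisymm hsm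
    (Submodule.le_of_le_smul_of_le_jacobson_bot (IsNoetherian.noetherian _) (maximalIdeal_le_jacobson ⊥) hle)
  have h1 : (maximalIdeal R).spanFinrank ≤ (maximalIdeal (R ⧸ J)).spanFinrank := by
    rw [← heq, ← hcard]
    exact (Submodule.spanFinrank_span_le_ncard_of_finite (hfin.image _)).trans (Set.ncard_image_le hfin)
  have h2 : ((maximalIdeal (R ⧸ J)).spanFinrank : WithBot ℕ∞) ≤ ringKrullDim R :=
    CAlgReg.dim_eq_spanFinrank.symm.trans_le (ringKrullDim_le_of_surjective _ hπ)
  haveI : IsRegularLocalRing R := IsRegularLocalRing.of_spanFinrank_maximalIdeal_le (R := R)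
    ((Nat.cast_le.2 h1).trans h2)
  have hdom : IsDomain R := CAlgReg.isDomain
  by_contra hne
  obtain ⟨y, hy, hy0⟩ := Submodule.exists_mem_ne_zero_of_ne_bot hne
  have h3 : ringKrullDim (R ⧸ J) + 1 ≤ ringKrullDim R :=
    (add_le_add (ringKrullDim_le_of_surjective (Ideal.Quotient.factor ((Ideal.span_singleton_le_iff_mem _).2 hy))
      (Ideal.Quotient.factor_surjective _)) le_rfl).trans
      (ringKrullDim_quotient_succ_le_of_nonZeroDivisor (mem_nonZeroDivisors_of_ne_zero hy0))
  rw [CAlgReg.dim_eq_spanFinrank (R := R), CAlgReg.dim_eq_spanFinrank (R := R ⧸ J)] at h3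
  have h4 : (maximalIdeal (R ⧸ J)).spanFinrank + 1 ≤ (maximalIdeal R).spanFinrank := by exact_mod_cast h3
  omega

/-- An ideal with regular quotient inside an ideal generated by a regular sequence is generated by part of one,
chosen among given generators. -/
theorem exists_regular_prefix_of_span : ∀ (r : ℕ) (R : Type u) [CommRing R] [IsLocalRing R] [IsNoetherianRing R]
    (g : Fin r → R), (∀ i, g i ∈ maximalIdeal R) → KoszulExt.IsExact g → ∀ J : Ideal R,
    J ≤ Ideal.span (Set.range g) → IsRegularLocalRing (R ⧸ J) → ∀ S : Set R, Ideal.span S = J →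
    ∃ l l' : List R, (∀ z ∈ l, z ∈ S) ∧ Ideal.ofList l = J ∧ Ideal.ofList (l ++ l') = Ideal.span (Set.range g) ∧
      IsWeaklyRegular R (l ++ l') := by
  intro r
  induction r with
  | zero =>
    intro R _ _ _ g _ _ J hJ _ S _
    rw [Set.range_eq_empty, Ideal.span_empty] at hJ
    exact ⟨[], [], by simp, by simp [le_bot_iff.1 hJ], by simp, by simp⟩
  | succ r ih =>
    intro R _ _ _ g hm hg J hJK hT S hS
    by_cases hsq : J ≤ maximalIdeal R ^ 2
    · refine ⟨[], List.ofFn g, by simp, by simp [eq_bot_of_le_sq hsq hT], ?_, ?_⟩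
      · rw [List.nil_append, Ideal.ofList, setOf_mem_ofFn]
      · rw [List.nil_append]
        exact isWeaklyRegular_of_isExact hm hg
    obtain ⟨x, hxS, hx2⟩ : ∃ x ∈ S, x ∉ maximalIdeal R ^ 2 := by
      by_contra hne
      push Not at hne
      exact hsq (hS ▸ Ideal.span_le.2 hne)
    have hxJ : x ∈ J := hS.le (Ideal.subset_span hxS)
    obtain ⟨c, hc⟩ := Ideal.mem_span_range_iff_exists_fun.1 (hJK hxJ)
    obtain ⟨j, hj⟩ : ∃ j, IsUnit (c j) := by
      by_contra hne
      push Not at hne
      refine hx2 ?_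
      rw [← hc, pow_two]
      exact Ideal.sum_mem _ fun i _ => Ideal.mul_mem_mul (hne i) (hm i)
    let h : Fin (r + 1) → R := Function.update g j (∑ i, c i * g i) ∘ Equiv.swap 0 j
    have hh : KoszulExt.IsExact h := (isExact_update hg c j hj).reindex (Equiv.swap 0 j)
    have hspan : Ideal.span (Set.range h) = Ideal.span (Set.range g) := by
      rw [show Set.range h = Set.range (Function.update g j (∑ i, c i * g i)) from EquivLike.range_comp _ _]
      exact span_update c j hj
    have hh0 : h 0 = x := by simp [h, hc]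
    have hhm : ∀ i, h i ∈ maximalIdeal R := fun i =>
      (hspan.trans_le (Ideal.span_le.2 (Set.range_subset_iff.2 hm))) (Ideal.subset_span ⟨i, rfl⟩)
    have hreg := isWeaklyRegular_of_isExact hhm hh
    rw [List.ofFn_succ, hh0, isWeaklyRegular_cons_iff] at hreg
    let P := Ideal.span ({x} : Set R)
    have hxm : x ∈ maximalIdeal R := hh0 ▸ hhm 0
    haveI : Nontrivial (R ⧸ P) := Ideal.Quotient.nontrivial_iff.2 fun htop =>
      (maximalIdeal.isMaximal R).ne_top (top_le_iff.1 (htop ▸ (Ideal.span_singleton_le_iff_mem _).2 hxm))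
    haveI : IsLocalRing (R ⧸ P) := .of_surjective' _ Ideal.Quotient.mk_surjective
    let π := Ideal.Quotient.mk P
    have hπ : Function.Surjective π := Ideal.Quotient.mk_surjective
    let e : QuotSMulTop x R ≃ₗ[R] R ⧸ P :=
      Submodule.quotEquivOfEq _ _ (by rw [← Submodule.ideal_span_singleton_smul, smul_eq_mul, Ideal.mul_top])
    have htail := hreg.2
    rw [e.isWeaklyRegular_congr, ← isWeaklyRegular_map_algebraMap_iff (R ⧸ P), List.map_ofFn] at htail
    let g' : Fin r → R ⧸ P := fun i => π (h i.succ)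
    have hg' : KoszulExt.IsExact g' :=
      (KoszulExt.isExact_iff g').2 (KoszulExt.isKoszulRegularSeq_of_isWeaklyRegular htail)
    have hloc : ∀ a ∈ maximalIdeal R, π a ∈ maximalIdeal (R ⧸ P) := by
      haveI := IsLocalHom.of_surjective π hπ
      intro a ha
      exact (IsLocalRing.maximalIdeal_comap π).ge ha
    have hker : RingHom.ker π = P := Ideal.mk_ker
    have hPJ : P ≤ J := (Ideal.span_singleton_le_iff_mem _).2 hxJ
    have hPK : P ≤ Ideal.span (Set.range g) := hPJ.trans hJK
    have hK' : (Ideal.span (Set.range g)).map π = Ideal.span (Set.range g') := by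
      rw [← hspan, Ideal.map_span, ← Set.range_comp]
      refine le_antisymm (Ideal.span_le.2 (Set.range_subset_iff.2 fun i => ?_))
        (Ideal.span_mono (Set.range_subset_iff.2 fun i => ⟨i.succ, rfl⟩))
      cases i using Fin.cases with
      | zero =>
        show π (h 0) ∈ _
        rw [hh0, Ideal.Quotient.eq_zero_iff_mem.2 (Ideal.mem_span_singleton_self x)]
        exact zero_mem _
      | succ i => exact Ideal.subset_span ⟨i, rfl⟩
    haveI hT' : IsRegularLocalRing ((R ⧸ P) ⧸ J.map π) :=
      IsRegularLocalRing.of_ringEquiv (R := R ⧸ J)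
        ((Ideal.quotEquivOfEq (sup_eq_right.2 hPJ).symm).trans (DoubleQuot.quotQuotEquivQuotSup P J).symm)
    obtain ⟨l0, l0', hl0S, hl0, hl0', hw⟩ := ih (R ⧸ P) g' (fun i => hloc _ (hhm _)) hg' (J.map π)
      ((Ideal.map_mono hJK).trans hK'.le) hT' (π '' S) (by rw [← Ideal.map_span, hS])
    obtain ⟨L, hLS, rfl⟩ : ∃ L : List R, (∀ z ∈ L, z ∈ S) ∧ L.map π = l0 := by
      clear hl0 hl0' hw
      induction l0 with
      | nil => exact ⟨[], by simp, rfl⟩
      | cons a t iht =>
        obtain ⟨b, hb, rfl⟩ := hl0S a List.mem_cons_self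
        obtain ⟨L, hL, rfl⟩ := iht fun z hz => hl0S z (List.mem_cons_of_mem _ hz)
        exact ⟨b :: L, List.forall_mem_cons.2 ⟨hb, hL⟩, rfl⟩
    obtain ⟨L', rfl⟩ : ∃ L' : List R, L'.map π = l0' := List.map_surjective_iff.2 hπ l0'
    have key : ∀ (M : List R) (K : Ideal R), P ≤ K → (Ideal.ofList M).map π = K.map π →
        Ideal.ofList (x :: M) = K := by
      intro M K hPK hMK
      have h1 := congrArg (Ideal.comap π) hMK
      rw [Ideal.comap_map_of_surjective _ hπ, Ideal.comap_map_of_surjective _ hπ, ← RingHom.ker_eq_comap_bot, hker,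
        sup_eq_left.2 hPK] at h1
      rw [Ideal.ofList_cons, sup_comm]
      exact h1
    refine ⟨x :: L, L', List.forall_mem_cons.2 ⟨hxS, hLS⟩, key L J hPJ (by rw [Ideal.map_ofList, hl0]), ?_, ?_⟩
    · rw [List.cons_append]
      refine key (L ++ L') _ hPK ?_
      rw [Ideal.map_ofList, List.map_append, hl0', hK']
    · rw [List.cons_append, isWeaklyRegular_cons_iff, e.isWeaklyRegular_congr,
        ← isWeaklyRegular_map_algebraMap_iff (R ⧸ P), List.map_append]
      exact ⟨hreg.1, hw⟩

theorem exists_regular_prefix (r : ℕ) (R : Type u) [CommRing R] [IsLocalRing R] [IsNoetherianRing R]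
    (g : Fin r → R) (hm : ∀ i, g i ∈ maximalIdeal R) (hg : KoszulExt.IsExact g) (J : Ideal R)
    (hJ : J ≤ Ideal.span (Set.range g)) (hT : IsRegularLocalRing (R ⧸ J)) :
    ∃ l l' : List R, Ideal.ofList l = J ∧ Ideal.ofList (l ++ l') = Ideal.span (Set.range g) ∧
      IsWeaklyRegular R (l ++ l') := by
  obtain ⟨l, l', -, h⟩ := exists_regular_prefix_of_span r R g hm hg J hJ hT J (Submodule.span_eq J)
  exact ⟨l, l', h⟩

/-- In a regular local ring, ideals with regular quotient are generated by regular sequences. -/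
theorem exists_regular_of_isRegularLocalRing {R : Type u} [CommRing R] [IsRegularLocalRing R] (J : Ideal R)
    (hT : IsRegularLocalRing (R ⧸ J)) : ∃ l : List R, Ideal.ofList l = J ∧ IsWeaklyRegular R l := by
  classical
  have hfg : Submodule.FG (maximalIdeal R) := IsNoetherian.noetherian _
  have hfin := hfg.finite_generators
  let gens := hfin.toFinset.toList
  have hlen : gens.length = (maximalIdeal R).spanFinrank := by
    rw [Finset.length_toList, ← Set.ncard_eq_toFinset_card _ hfin, hfg.generators_ncard]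
  have hspan : Ideal.ofList gens = maximalIdeal R := by
    rw [Ideal.ofList]
    simp [gens, Ideal.span, Submodule.span_generators]
  have hreg := CAlgReg.isRegular_generators CAlgReg.dim_eq_spanFinrank gens hlen hspan
  have hspan' : Ideal.span (Set.range gens.get) = maximalIdeal R := by
    rw [← hspan, Ideal.ofList]
    exact congrArg Ideal.span (Set.ext fun z => by simp [List.mem_iff_get])
  obtain ⟨l, l', hl, -, hw⟩ := exists_regular_prefix gens.length R gens.get
    (fun i => hspan'.le (Ideal.subset_span ⟨i, rfl⟩))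
    ((KoszulExt.isExact_iff _).2 (by
      rw [List.ofFn_get]
      exact KoszulExt.isKoszulRegularSeq_of_isWeaklyRegular hreg.toIsWeaklyRegular))
    J (by
      rw [hspan']
      haveI := hT
      exact le_maximalIdeal (Ideal.Quotient.nontrivial_iff.1 inferInstance)) hT
  exact ⟨l, hl, ((isWeaklyRegular_append_iff R l l').1 hw).1⟩

/-- The image of the rest of a regular sequence is regular modulo a prefix. -/
theorem isWeaklyRegular_suffix {R : Type u} [CommRing R] {l l' : List R} (h : IsWeaklyRegular R (l ++ l')) :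
    IsWeaklyRegular (R ⧸ Ideal.ofList l) (l'.map (Ideal.Quotient.mk (Ideal.ofList l))) := by
  have h1 := ((isWeaklyRegular_append_iff R l l').1 h).2
  rw [(Submodule.quotEquivOfEq _ _ (by rw [smul_eq_mul, Ideal.mul_top]) :
      (R ⧸ (Ideal.ofList l • ⊤ : Submodule R R)) ≃ₗ[R] R ⧸ Ideal.ofList l).isWeaklyRegular_congr,
    ← isWeaklyRegular_map_algebraMap_iff (R ⧸ Ideal.ofList l)] at h1
  exact h1

end Quot

section Spread

variable {P : Type u} [CommRing P] [IsNoetherianRing P]

/-- A regularly generated localisation spreads out to a basic open. -/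
theorem exists_away_of_atPrime {I : Ideal P} (q : Ideal P) [hq : q.IsPrime] (l : List (Localization.AtPrime q))
    (hl : Ideal.ofList l = I.map (algebraMap P (Localization.AtPrime q)))
    (hreg : IsWeaklyRegular (Localization.AtPrime q) l) :
    ∃ G : P, G ∉ q ∧ ∃ l' : List (Localization.Away G), LCI.IsKoszulRegularSeq (Localization.Away G) l' ∧
      I.map (algebraMap P (Localization.Away G)) = Ideal.span {z | z ∈ l'} := by
  classical
  obtain ⟨r, x, rfl⟩ : ∃ (r : ℕ) (x : Fin r → _), l = List.ofFn x := ⟨_, l.get, (List.ofFn_get l).symm⟩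
  let Lq := Localization.AtPrime q
  let α := algebraMap P Lq
  have hxI : ∀ i, x i ∈ I.map α := fun i => hl.le (Ideal.subset_span (List.mem_ofFn.2 ⟨i, rfl⟩))
  choose au hau using fun i => (IsLocalization.mem_map_algebraMap_iff q.primeCompl Lq).1 (hxI i)
  let a : Fin r → P := fun i => (au i).1.1
  have hu : ∀ i, IsUnit (α (au i).2) := fun i => IsLocalization.map_units Lq _
  have hmap : ∀ S : Set (Fin r), (Ideal.span (a '' S)).map α = Ideal.span (x '' S) := by
    intro S
    rw [Ideal.map_span, Set.image_image]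
    refine le_antisymm (Ideal.span_le.mpr ?_) (Ideal.span_le.mpr ?_)
    · rintro _ ⟨i, hi, rfl⟩
      show α (a i) ∈ _
      rw [← hau i]
      exact Ideal.mul_mem_right _ _ (Ideal.subset_span ⟨i, hi, rfl⟩)
    · rintro _ ⟨i, hi, rfl⟩
      have h1 : α (a i) ∈ Ideal.span ((fun i => α (a i)) '' S) := Ideal.subset_span ⟨i, hi, rfl⟩
      rw [show α (a i) = x i * α (au i).2 from (hau i).symm, Ideal.mul_unit_mem_iff_mem _ (hu i)] at h1
      exact h1
  rw [S2189.weaklyRegular_iff] at hreg
  let C : Fin r → Ideal P := fun i => Submodule.comap (LinearMap.mulLeft P (a i)) (Ideal.span (a '' Set.Iio i))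
  have hC : ∀ i, ∃ g, g ∉ q ∧ ∀ w ∈ C i, g * w ∈ Ideal.span (a '' Set.Iio i) := fun i => S2189.exists_killer q _ _ (by
    rw [Ideal.map_le_iff_le_comap]
    intro w hw
    rw [Ideal.mem_comap, hmap]
    refine hreg i _ ((Ideal.mul_unit_mem_iff_mem _ (hu i)).mp ?_)
    rw [show x i * α w * α (au i).2 = α (a i * w) by rw [mul_right_comm, hau i, map_mul], ← hmap]
    exact Ideal.mem_map_of_mem _ hw)
  choose g hgp hgC using hC
  obtain ⟨g₀, hg₀, hg₀I⟩ := S2189.exists_killer q I (Ideal.span (Set.range a)) (by
    rw [show Set.range a = a '' Set.univ by simp, hmap, Set.image_univ]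
    refine hl.symm.le.trans ?_
    rw [Ideal.ofList, setOf_mem_ofFn])
  set G := g₀ * ∏ i, g i with hG
  let S := Localization.Away G
  let β := algebraMap P S
  have hGu : IsUnit (β G) := IsLocalization.Away.algebraMap_isUnit G
  have hGq : G ∉ q := fun hh => by
    rcases hq.mem_or_mem hh with h1 | h1
    · exact hg₀ h1
    · obtain ⟨i, -, hi⟩ := Ideal.IsPrime.prod_mem_iff.mp h1
      exact hgp i hi
  refine ⟨G, hGq, List.ofFn fun i => β (a i), KoszulExt.isKoszulRegularSeq_of_isWeaklyRegular
    ((S2189.weaklyRegular_iff _).mpr fun i w hw => ?_), ?_⟩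
  · rw [show (fun i => β (a i)) '' Set.Iio i = β '' (a '' Set.Iio i) by rw [Set.image_image], ← Ideal.map_span] at hw ⊢
    obtain ⟨⟨w₀, u⟩, hw₀⟩ := IsLocalization.surj (Submonoid.powers G) w
    have hu' : IsUnit (β u) := IsLocalization.map_units S u
    rw [← Ideal.mul_unit_mem_iff_mem _ hu', hw₀]
    have h1 : β (a i * w₀) ∈ (Ideal.span (a '' Set.Iio i)).map β := by
      rw [map_mul, ← hw₀, ← mul_assoc]
      exact Ideal.mul_mem_right _ _ hw
    obtain ⟨m, hm, hmw⟩ := (IsLocalization.algebraMap_mem_map_algebraMap_iff (Submonoid.powers G) _ _ _).mp h1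
    have h2 := hgC i (m * w₀) (by
      show a i * (m * w₀) ∈ Ideal.span (a '' Set.Iio i)
      rwa [mul_left_comm])
    obtain ⟨t, ht⟩ := Finset.dvd_prod_of_mem g (Finset.mem_univ i)
    have h3 : G * m * w₀ ∈ Ideal.span (a '' Set.Iio i) := by
      rw [hG, ht, show g₀ * (g i * t) * m * w₀ = g₀ * t * (g i * (m * w₀)) by ring]
      exact Ideal.mul_mem_left _ _ h2
    exact (IsLocalization.algebraMap_mem_map_algebraMap_iff (Submonoid.powers G) _ _ _).mpr
      ⟨G * m, mul_mem (Submonoid.mem_powers G) hm, h3⟩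
  · rw [setOf_mem_ofFn]
    refine le_antisymm (Ideal.map_le_iff_le_comap.mpr fun w hw => ?_) (Ideal.span_le.mpr ?_)
    · rw [Ideal.mem_comap, ← Ideal.unit_mul_mem_iff_mem _ hGu, ← map_mul]
      have h1 : G * w ∈ Ideal.span (Set.range a) := by
        rw [hG, show g₀ * (∏ i, g i) * w = (∏ i, g i) * (g₀ * w) by ring]
        exact Ideal.mul_mem_left _ _ (hg₀I w hw)
      have h2 := Ideal.mem_map_of_mem β h1
      rwa [Ideal.map_span, ← Set.range_comp] at h2
    · rintro _ ⟨i, rfl⟩
      exact Ideal.mem_map_of_mem _ (au i).1.2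

/-- Locally regularly generated ideals of Noetherian rings are Koszul regular. -/
theorem isKoszulRegularIdeal_of_local {I : Ideal P}
    (h : ∀ (q : Ideal P) [q.IsPrime], I ≤ q → ∃ l : List (Localization.AtPrime q),
      Ideal.ofList l = I.map (algebraMap P (Localization.AtPrime q)) ∧ IsWeaklyRegular (Localization.AtPrime q) l) :
    LCI.IsKoszulRegularIdeal I := by
  rintro ⟨q, hq⟩ hIq
  obtain ⟨l, hl, hreg⟩ := h q hIq
  exact exists_away_of_atPrime q l hl hreg

omit [IsNoetherianRing P] in
/-- Koszul regular ideals are generated by exact sequences in the local rings. -/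
theorem exists_exact_atPrime {I : Ideal P} (h : LCI.IsKoszulRegularIdeal I) (q : Ideal P) [q.IsPrime] (hIq : I ≤ q) :
    ∃ (r : ℕ) (y : Fin r → Localization.AtPrime q), KoszulExt.IsExact y ∧
      Ideal.span (Set.range y) = I.map (algebraMap P (Localization.AtPrime q)) := by
  obtain ⟨h', hh', r, g, hg, hspan⟩ := (isKoszulRegularIdeal_iff _).1 h q inferInstance hIq
  let L := Localization.Away h'
  let Lq := Localization.AtPrime q
  have hu : IsUnit (algebraMap P Lq h') := IsLocalization.map_units Lq (⟨h', hh'⟩ : q.primeCompl)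
  let φ : L →+* Lq := IsLocalization.Away.lift h' hu
  letI : Algebra L Lq := φ.toAlgebra
  haveI : IsScalarTower P L Lq := .of_algebraMap_eq fun z => (IsLocalization.Away.lift_eq h' hu z).symm
  haveI : Module.Flat P Lq := IsLocalization.flat Lq q.primeCompl
  haveI : Module.Flat L Lq := (Module.flat_iff_of_isLocalization L (Submonoid.powers h') Lq).2 inferInstance
  refine ⟨r, fun i => algebraMap L Lq (g i), isExact_of_flat hg, ?_⟩
  rw [IsScalarTower.algebraMap_eq P L Lq, ← Ideal.map_map, hspan, Ideal.map_span, ← Set.range_comp]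
  rfl

end Spread

end Groth.Agent.LCIPres
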