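import Groth.Agent.LCIPres.RegCancel
import Mathlib

/-!
# Rings of affine opens of regular schemes
-/

set_option autoImplicit false

universe u

open CategoryTheory AlgebraicGeometry

namespace Groth.Agent.LCIPres

/-- Affine opens of locally Noetherian schemes with regular local rings have regular rings. -/
theorem isRegularRing_of_affine {Y : Scheme.{u}} [IsLocallyNoetherian Y]
    (hY : ∀ y : Y, IsRegularLocalRing (Y.presheaf.stalk y)) {V : Y.Opens} (hV : IsAffineOpen V) :
    IsRegularRing Γ(Y, V) := by
  haveI : IsNoetherianRing Γ(Y, V) := IsLocallyNoetherian.component_noetherian ⟨V, hV⟩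
  rw [isRegularRing_iff]
  intro p _
  let y : PrimeSpectrum Γ(Y, V) := ⟨p, inferInstance⟩
  have hy : hV.fromSpec y ∈ V := hV.range_fromSpec.le ⟨y, rfl⟩
  letI := TopCat.Presheaf.algebra_section_stalk Y.presheaf (⟨hV.fromSpec y, hy⟩ : V)
  haveI : IsLocalization.AtPrime (Y.presheaf.stalk (hV.fromSpec y)) p := hV.isLocalization_stalk' y hy
  haveI := hY (hV.fromSpec y)
  exact IsRegularLocalRing.of_ringEquiv
    (IsLocalization.algEquiv p.primeCompl (Y.presheaf.stalk (hV.fromSpec y)) (Localization.AtPrime p)).toRingEquiv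

end Groth.Agent.LCIPres
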