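import Groth.Agent.LCIPres.Mor
import Groth.Agent.SyntLCI.Nhd
import Groth.Agent.SyntLCI.Base
import Groth.Agent.S4091
import Mathlib

/-!
# Descent of LCI along syntomic algebras
-/

set_option autoImplicit false
set_option linter.style.haveILetI false
set_option maxHeartbeats 400000

noncomputable section

universe u

open MvPolynomial RingTheory.Sequence TensorProduct

namespace Groth.Agent.LCIPres

/-- The image of a Koszul-regular ideal modulo a regular sequence which is part of a minimal system of
generators everywhere is Koszul-regular. -/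
theorem isKoszulRegularIdeal_map_of_indep : ∀ (r : ℕ) (R S : Type u) [CommRing R] [CommRing S] [Algebra R S],
    Function.Surjective (algebraMap R S) → ∀ a : Fin r → R, RingHom.ker (algebraMap R S) = Ideal.span (Set.range a) →
    IsWeaklyRegular R (List.ofFn a) → ∀ K : Ideal R, (∀ i, a i ∈ K) → LCI.IsKoszulRegularIdeal K →
    (∀ q : Ideal R, q.IsPrime → K ≤ q → ∀ c : Fin r → R, ∑ i, c i * a i ∈ q * K → ∀ i, c i ∈ q) →
    LCI.IsKoszulRegularIdeal (K.map (algebraMap R S)) := by
  intro r
  induction r with
  | zero =>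
    intro R S _ _ _ hs a hker _ K _ hK _
    have hinj : Function.Injective (algebraMap R S) := by
      rw [RingHom.injective_iff_ker_eq_bot, hker, Set.range_eq_empty, Ideal.span_empty]
    exact isKoszulRegularIdeal_map _ (RingHom.Flat.of_bijective ⟨hinj, hs⟩) hK
  | succ r ih =>
    intro R S _ _ _ hs a hker hreg K haK hK hind
    classical
    let R₁ := R ⧸ Ideal.span {a 0}
    let mk := Ideal.Quotient.mk (Ideal.span {a 0})
    have h0 : ∀ x ∈ Ideal.span {a 0}, algebraMap R S x = 0 := fun x hx =>
      RingHom.mem_ker.1 (hker ▸ Ideal.span_mono (Set.singleton_subset_iff.2 (Set.mem_range_self 0)) hx)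
    let : Algebra R₁ S := (Ideal.Quotient.lift _ (algebraMap R S) h0).toAlgebra
    have hcomp : algebraMap R S = (algebraMap R₁ S).comp (algebraMap R R₁) := RingHom.ext fun _ => rfl
    have hs₁ : Function.Surjective (algebraMap R₁ S) := fun y => by
      obtain ⟨x, rfl⟩ := hs y; exact ⟨mk x, rfl⟩
    let a₁ : Fin r → R₁ := fun i => mk (a i.succ)
    have hker₁ : RingHom.ker (algebraMap R₁ S) = Ideal.span (Set.range a₁) := by
      show RingHom.ker (Ideal.Quotient.lift _ (algebraMap R S) h0) = _
      have hr : Set.range a = insert (a 0) (Set.range fun i : Fin r => a i.succ) := by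
        ext x; simp [Fin.exists_fin_succ, eq_comm]
      rw [Ideal.ker_quotient_lift, hker, Ideal.map_span, hr, Set.image_insert_eq,
        ← Set.range_comp, show mk (a 0) = 0 from Ideal.Quotient.eq_zero_iff_mem.2 (Ideal.mem_span_singleton_self _),
        Ideal.span_insert_zero]
      rfl
    rw [List.ofFn_succ, isWeaklyRegular_cons_iff] at hreg
    let e : QuotSMulTop (a 0) R ≃ₗ[R] R₁ := Submodule.quotEquivOfEq _ _
      (by rw [← Submodule.ideal_span_singleton_smul, smul_eq_mul, Ideal.mul_top])
    have hreg₁ : IsWeaklyRegular R₁ (List.ofFn a₁) := by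
      have h := (e.isWeaklyRegular_congr _).1 hreg.2
      rw [← isWeaklyRegular_map_algebraMap_iff R₁ R₁, List.map_ofFn] at h
      exact h
    have hK₁ : LCI.IsKoszulRegularIdeal (K.map (algebraMap R R₁)) :=
      isKoszulRegularIdeal_map_of_span_singleton (S := R₁) Ideal.Quotient.mk_surjective Ideal.mk_ker hreg.1 (haK 0) hK
        fun q hq hKq t ht hmem => ht (by
          have h1 := hind q hq hKq (Pi.single 0 t) (by simpa [Pi.single_apply, ite_mul] using hmem) 0
          simpa using h1)
    rw [hcomp, ← Ideal.map_map]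
    refine ih R₁ S hs₁ a₁ hker₁ hreg₁ _ (fun i => Ideal.mem_map_of_mem _ (haK _)) hK₁ fun q₁ hq₁ hKq₁ c hc => ?_
    choose d hd using fun i => Ideal.Quotient.mk_surjective (c i)
    let q := q₁.comap (algebraMap R R₁)
    have hq : q₁ * K.map (algebraMap R R₁) = (q * K).map (algebraMap R R₁) := by
      rw [Ideal.map_mul, Ideal.map_comap_of_surjective (algebraMap R R₁) Ideal.Quotient.mk_surjective]
    rw [hq] at hc
    obtain ⟨z, hz, hzc⟩ := (Ideal.mem_map_iff_of_surjective (algebraMap R R₁) Ideal.Quotient.mk_surjective).1 hc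
    have h1 : mk (z - ∑ i, d i * a i.succ) = 0 := by
      rw [map_sub, sub_eq_zero, map_sum]
      refine hzc.trans (Finset.sum_congr rfl fun i _ => ?_)
      rw [map_mul, hd i]
    obtain ⟨b, hb⟩ := Ideal.mem_span_singleton'.1 (Ideal.Quotient.eq_zero_iff_mem.1 h1)
    have h2 := hind q (Ideal.comap_isPrime _ _) (Ideal.map_le_iff_le_comap.1 hKq₁) (Fin.cons b d) (by
      rw [Fin.sum_univ_succ]
      simp only [Fin.cons_zero, Fin.cons_succ]
      rw [hb, sub_add_cancel]
      exact hz)
    intro i
    rw [← hd i]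
    simpa using! h2 i.succ

/-- A flat algebra is faithfully flat over basic opens in the image of its spectrum. -/
theorem faithfullyFlat_away_of_subset {A B : Type u} [CommRing A] [CommRing B] [Algebra A B] [Module.Flat A B] (h : A)
    (hsub : (PrimeSpectrum.basicOpen h : Set (PrimeSpectrum A)) ⊆ Set.range (PrimeSpectrum.comap (algebraMap A B)))
    (A' B' : Type u) [CommRing A'] [CommRing B'] [Algebra A A'] [Algebra B B'] [Algebra A' B'] [Algebra A B']
    [IsScalarTower A A' B'] [IsScalarTower A B B'] [IsLocalization.Away h A'] [IsLocalization.Away (algebraMap A B h) B'] :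
    Module.FaithfullyFlat A' B' := by
  have : Module.Flat B B' := IsLocalization.flat B' (Submonoid.powers (algebraMap A B h))
  have : Module.Flat A B' := Module.Flat.trans A B B'
  have : Module.Flat A' B' := (Module.flat_iff_of_isLocalization A' (Submonoid.powers h) B').2 inferInstance
  refine .of_comap_surjective fun p₁ => ?_
  let p := p₁.asIdeal.comap (algebraMap A A')
  have hp : h ∉ p := fun hm =>
    p₁.2.ne_top (Ideal.eq_top_of_isUnit_mem _ hm (IsLocalization.Away.algebraMap_isUnit h))
  obtain ⟨Q, hQ⟩ := hsub (show (⟨p, inferInstance⟩ : PrimeSpectrum A) ∈ PrimeSpectrum.basicOpen h from hp)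
  have hQh : algebraMap A B h ∉ Q.asIdeal := fun hm => hp ((PrimeSpectrum.ext_iff.1 hQ).le hm)
  have hd : Disjoint (Submonoid.powers (algebraMap A B h) : Set B) (Q.asIdeal : Set B) :=
    (Ideal.disjoint_powers_iff_notMem_of_isPrime _).2 hQh
  refine ⟨⟨Q.asIdeal.map (algebraMap B B'), IsLocalization.isPrime_of_isPrime_disjoint _ _ _ Q.2 hd⟩, ?_⟩
  refine PrimeSpectrum.ext ?_
  have h1 : (PrimeSpectrum.comap (algebraMap A' B')
      ⟨Q.asIdeal.map (algebraMap B B'), IsLocalization.isPrime_of_isPrime_disjoint _ _ _ Q.2 hd⟩).asIdeal.comap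
        (algebraMap A A') = p := by
    rw [PrimeSpectrum.comap_asIdeal, Ideal.comap_comap, ← IsScalarTower.algebraMap_eq A A' B',
      IsScalarTower.algebraMap_eq A B B', ← Ideal.comap_comap]
    show ((Q.asIdeal.map (algebraMap B B')).under B).comap (algebraMap A B) = p
    rw [IsLocalization.under_map_of_isPrime_disjoint _ _ Q.2 hd]
    exact PrimeSpectrum.ext_iff.1 hQ
  rw [← IsLocalization.map_comap (Submonoid.powers h) A' (PrimeSpectrum.comap _ _).asIdeal, Ideal.under, h1,
    show p = p₁.asIdeal.comap _ from rfl, ← Ideal.under, IsLocalization.map_comap (Submonoid.powers h) A']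

/-- Descent along a relative global complete intersection over a finite type algebra. -/
theorem exists_isLCI_away_of_relGCI {A C : Type u} [CommRing A] [CommRing C] [Algebra A C] [Algebra.FiniteType A C]
    (L : Type u) [CommRing L] [Algebra A L] [Algebra C L] [IsScalarTower A C L] (hL : LCI.IsLCI A L)
    {m r : ℕ} (F : Fin r → MvPolynomial (Fin m) C) (hF : Synt.IsRelGCI C m r F)
    (e : L ≃ₐ[C] Synt.RelGCIRing C m r F) (q : Ideal L) [q.IsPrime] :
    ∃ c : C, c ∉ q.comap (algebraMap C L) ∧ LCI.IsLCI A (Localization.Away c) := by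
  classical
  obtain ⟨n, v, hv⟩ := exists_pres A C
  let R := MvPolynomial (Fin n) A
  let φ : R →+* C := (aeval (R := A) v).toRingHom
  have hφ : Function.Surjective φ := hv
  let I := RingHom.ker φ
  letI : Algebra R C := φ.toAlgebra
  letI : Algebra R L := ((algebraMap C L).comp φ).toAlgebra
  haveI : IsScalarTower R C L := .of_algebraMap_eq fun _ => rfl
  haveI : IsScalarTower A R L := .of_algebraMap_eq fun x => by
    show _ = algebraMap C L (aeval v (algebraMap A R x))
    rw [AlgHom.commutes, ← IsScalarTower.algebraMap_apply]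
  have hRL : LCI.IsLCI R L := isLCI_cancel_polynomial hL
  -- the presentation of `L` over `R`
  let ψ : MvPolynomial (Fin m) C →ₐ[C] L := e.symm.toAlgHom.comp (Ideal.Quotient.mkₐ C _)
  have hψ : Function.Surjective ψ := e.symm.surjective.comp Ideal.Quotient.mk_surjective
  have hψker : RingHom.ker ψ.toRingHom = Ideal.span (Set.range F) := by
    ext x
    rw [RingHom.mem_ker]
    show e.symm (Ideal.Quotient.mk _ x) = 0 ↔ _
    rw [map_eq_zero_iff _ e.symm.injective, Ideal.Quotient.eq_zero_iff_mem]
  let T := MvPolynomial (Fin m) R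
  let μ : T →+* MvPolynomial (Fin m) C := MvPolynomial.map φ
  have hμ : Function.Surjective μ := MvPolynomial.map_surjective φ hφ
  let w : Fin m → L := fun j => ψ (X j)
  have hw : (aeval (R := R) w).toRingHom = ψ.toRingHom.comp μ := by
    refine MvPolynomial.ringHom_ext (fun x => ?_) fun j => ?_
    · simp [μ, RingHom.algebraMap_toAlgebra]
    · simp [μ, w]
  have hw' : Function.Surjective (aeval (R := R) w) := by
    show Function.Surjective (aeval (R := R) w).toRingHom
    rw [hw]
    exact hψ.comp hμ
  have hJKR := (isLCI_iff hw').1 hRL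
  rw [KPres, hw] at hJKR
  set J := RingHom.ker (ψ.toRingHom.comp μ)
  have hμker : RingHom.ker μ = I.map (MvPolynomial.C : R →+* T) := by
    rw [show RingHom.ker μ = RingHom.ker (MvPolynomial.map φ) from rfl, MvPolynomial.ker_map]
  choose a ha using fun i => hμ (F i)
  have haJ : ∀ i, a i ∈ J := fun i => by
    rw [RingHom.mem_ker, RingHom.comp_apply, ha]
    exact (hψker.ge (Ideal.subset_span ⟨i, rfl⟩) :)
  have hJeq : J = I.map (MvPolynomial.C : R →+* T) ⊔ Ideal.span (Set.range a) := by
    rw [show J = (RingHom.ker ψ.toRingHom).comap μ from (RingHom.comap_ker _ _).symm, hψker,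
      show Ideal.span (Set.range F) = (Ideal.span (Set.range a)).map μ from by
        rw [Ideal.map_span, ← Set.range_comp]; exact congrArg _ (congrArg Set.range (funext ha).symm),
      Ideal.comap_map_of_surjective μ hμ, ← RingHom.ker_eq_comap_bot, hμker, sup_comm]
  -- the point and the comparison of the fibres
  let Q : Ideal T := q.comap (ψ.toRingHom.comp μ)
  let p : Ideal R := Q.comap (algebraMap R T)
  have hIp : I ≤ p := fun x hx => by
    show ψ (μ (algebraMap R T x)) ∈ q
    rw [MvPolynomial.algebraMap_eq, MvPolynomial.map_C, show φ x = 0 from hx, map_zero, map_zero]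
    exact zero_mem _
  have hfib : ∀ (Q : Ideal T) [Q.IsPrime], J ≤ Q →
      ∃ (Λ : Type u) (_ : CommRing Λ) (_ : IsLocalRing Λ) (θ : Localization.AtPrime Q →+* Λ),
        Function.Surjective θ ∧ RingHom.ker θ = SyntLCI.fibIdeal Q ∧
        (IsLocalRing.maximalIdeal Λ).comap (θ.comp (algebraMap T _)) = Q ∧
        IsWeaklyRegular Λ (List.ofFn fun i => θ (algebraMap T _ (a i))) ∧
        J.map (θ.comp (algebraMap T _)) = Ideal.span (Set.range fun i => θ (algebraMap T _ (a i))) := by
    intro Q _ hJQ
    have hkQ : RingHom.ker μ ≤ Q := le_trans (fun x hx => by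
      rw [RingHom.mem_ker, RingHom.comp_apply, RingHom.mem_ker.1 hx, map_zero]) hJQ
    let Qb := Q.map μ
    haveI : Qb.IsPrime := Ideal.map_isPrime_of_surjective hμ hkQ
    have hQb : Qb.comap μ = Q := by
      rw [Ideal.comap_map_of_surjective μ hμ, ← RingHom.ker_eq_comap_bot, sup_eq_left.2 hkQ]
    have hFQ : Ideal.span (Set.range F) ≤ Qb := Ideal.span_le.2 (by
      rintro _ ⟨i, rfl⟩; rw [← ha i]; exact Ideal.mem_map_of_mem _ (hJQ (haJ i)))
    have hM : Q.primeCompl.map μ = Qb.primeCompl := by
      have h1 := SyntLCI.map_primeCompl_comap μ hμ Qb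
      convert h1 using 2
      ext x
      simp only [Ideal.mem_primeCompl_iff, hQb]
    let S := Localization.AtPrime Qb
    haveI : IsLocalization (Q.primeCompl.map μ) S := by rw [hM]; exact Localization.isLocalization
    let θ₀ : Localization.AtPrime Q →+* S := IsLocalization.map S μ Q.primeCompl.le_comap_map
    have hθ₀ : ∀ x, θ₀ (algebraMap T _ x) = algebraMap (MvPolynomial (Fin m) C) S (μ x) := IsLocalization.map_eq _
    have hθ₀s : Function.Surjective θ₀ := IsLocalization.map_surjective_of_surjective _ _ _ hμ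
    have hθ₀k : RingHom.ker θ₀ = (RingHom.ker μ).map (algebraMap T _) := IsLocalization.ker_map S μ rfl
    let Λ := S ⧸ SyntLCI.fibIdeal Qb
    haveI : Nontrivial Λ := Ideal.Quotient.nontrivial_iff.2 (ne_top_of_le_ne_top
      (IsLocalRing.maximalIdeal.isMaximal S).ne_top (SyntLCI.fibIdeal_le Qb))
    haveI : IsLocalRing Λ := IsLocalRing.of_surjective' (Ideal.Quotient.mk _) Ideal.Quotient.mk_surjective
    let θ : Localization.AtPrime Q →+* Λ := (Ideal.Quotient.mk _).comp θ₀
    have hθs : Function.Surjective θ := Ideal.Quotient.mk_surjective.comp hθ₀s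
    have hqp : (Qb.comap (algebraMap C (MvPolynomial (Fin m) C))) = (Q.comap (algebraMap R T)).map φ := by
      have h1 : (Qb.comap (algebraMap C (MvPolynomial (Fin m) C))).comap φ = Q.comap (algebraMap R T) := by
        rw [Ideal.comap_comap, ← hQb, Ideal.comap_comap]
        refine congrArg (Ideal.comap · Qb) (RingHom.ext fun x => ?_)
        simp [μ, T, MvPolynomial.algebraMap_eq]
      rw [← h1, Ideal.map_comap_of_surjective φ hφ]
    have hθk : RingHom.ker θ = SyntLCI.fibIdeal Q := by
      have h1 : SyntLCI.fibIdeal Qb = (SyntLCI.fibIdeal Q).map θ₀ := by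
        rw [SyntLCI.fibIdeal, SyntLCI.fibIdeal, hqp, Ideal.map_map, Ideal.map_map]
        refine congrArg (Ideal.map · _) (RingHom.ext fun x => ?_)
        rw [RingHom.comp_apply, RingHom.comp_apply, IsScalarTower.algebraMap_apply R T (Localization.AtPrime Q), hθ₀,
          IsScalarTower.algebraMap_apply C (MvPolynomial (Fin m) C) S]
        simp [μ, T, MvPolynomial.algebraMap_eq]
      rw [show RingHom.ker θ = (RingHom.ker (Ideal.Quotient.mk (SyntLCI.fibIdeal Qb))).comap θ₀ from
          (RingHom.comap_ker _ _).symm, Ideal.mk_ker, h1, Ideal.comap_map_of_surjective θ₀ hθ₀s,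
        ← RingHom.ker_eq_comap_bot, hθ₀k, hμker, Ideal.map_map, sup_eq_left]
      refine le_trans (Ideal.map_mono ?_) (le_of_eq rfl)
      intro x hx
      show algebraMap R T x ∈ Q
      exact hJQ (hJeq.ge (Submodule.mem_sup_left (Ideal.mem_map_of_mem _ hx)))
    refine ⟨Λ, inferInstance, inferInstance, θ, hθs, hθk, ?_, ?_, ?_⟩
    · have h2 : (IsLocalRing.maximalIdeal Λ).comap θ = IsLocalRing.maximalIdeal (Localization.AtPrime Q) := by
        haveI := Ideal.comap_isMaximal_of_surjective θ hθs (K := IsLocalRing.maximalIdeal Λ)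
        exact IsLocalRing.eq_maximalIdeal inferInstance
      rw [← Ideal.comap_comap, h2]
      exact IsLocalization.AtPrime.comap_maximalIdeal _ Q
    · have h := SyntLCI.fibre_regular hF Qb hFQ
      have he : (fun i => θ (algebraMap T _ (a i))) =
          fun i => Ideal.Quotient.mk (SyntLCI.fibIdeal Qb) (algebraMap (MvPolynomial (Fin m) C) S (F i)) := funext fun i => by
        show Ideal.Quotient.mk _ (θ₀ (algebraMap T _ (a i))) = _
        rw [hθ₀, ha]
      rw [he]
      exact h
    · rw [hJeq, Ideal.map_sup, Ideal.map_span, ← Set.range_comp, sup_eq_right.2]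
      · rfl
      · rw [← hμker, Ideal.map_le_iff_le_comap]
        intro x hx
        rw [Ideal.mem_comap, RingHom.comp_apply]
        show Ideal.Quotient.mk _ (θ₀ (algebraMap T _ x)) ∈ _
        rw [hθ₀, RingHom.mem_ker.1 hx, map_zero, map_zero]
        exact zero_mem _
  -- slicing
  have hJQ : J ≤ Q := fun x hx => by
    show (ψ.toRingHom.comp μ) x ∈ q
    rw [RingHom.mem_ker.1 hx]; exact zero_mem _
  obtain ⟨Λ, _, _, θ, hθs, hθk, hθm, hθreg, -⟩ := hfib Q hJQ
  let a' : Fin r → T := a
  have hreg : IsWeaklyRegular (Localization.AtPrime Q ⧸ SyntLCI.fibIdeal Q)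
      ((List.ofFn a).map (algebraMap T (Localization.AtPrime Q ⧸ SyntLCI.fibIdeal Q))) := by
    let ε : (Localization.AtPrime Q ⧸ SyntLCI.fibIdeal Q) ≃+* Λ :=
      (Ideal.quotEquivOfEq hθk.symm).trans (RingHom.quotientKerEquivOfSurjective hθs)
    haveI : IsLocalRing (Localization.AtPrime Q ⧸ SyntLCI.fibIdeal Q) := ε.symm.isLocalRing
    have h1 := SyntLCI.isWeaklyRegular_map_ringEquiv (R := Λ) (R' := Localization.AtPrime Q ⧸ SyntLCI.fibIdeal Q) ε.symm hθreg
    rw [List.map_ofFn] at h1 ⊢
    have he : (⇑(algebraMap T (Localization.AtPrime Q ⧸ SyntLCI.fibIdeal Q)) ∘ a) =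
        ⇑ε.symm ∘ fun i => θ (algebraMap T _ (a i)) := funext fun i => by
      rw [Function.comp_apply, Function.comp_apply, RingEquiv.eq_symm_apply]
      rfl
    rw [he]
    exact h1
  obtain ⟨h, hhQ, hsl⟩ := SyntLCI.exists_sliced_mul Q a hreg
  specialize hsl 1
  rw [mul_one] at hsl
  let Th := Localization.Away h
  let al : Fin r → Th := fun i => algebraMap T Th (a i)
  have hregh : IsWeaklyRegular Th (List.ofFn al) := by
    have h1 := (isWeaklyRegular_map_algebraMap_iff Th Th (List.ofFn a)).2 hsl.isWeaklyRegular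
    rw [List.map_ofFn] at h1
    exact h1
  let R' := Th ⧸ Ideal.span (Set.range al)
  have hflat : Module.Flat R R' := by
    haveI := hsl.flat_quotient
    refine Module.Flat.of_linearEquiv (M := Th ⧸ Ideal.ofList (List.ofFn a) • (⊤ : Submodule T Th)) ?_
    refine LinearEquiv.restrictScalars R ((Submodule.quotEquivOfEq _
      ((Ideal.span (Set.range al)).restrictScalars T) ?_).trans (Submodule.Quotient.restrictScalarsEquiv T _)).symm
    rw [Ideal.smul_top_eq_map, NLAmp.ofList_ofFn, Ideal.map_span, ← Set.range_comp]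
    rfl
  haveI : Algebra.FinitePresentation R R' :=
    haveI : Algebra.FinitePresentation R Th :=
      haveI : Algebra.FinitePresentation T Th := IsLocalization.Away.finitePresentation h
      .trans R T Th
    Algebra.FinitePresentation.quotient (Submodule.fg_span (Set.finite_range al))
  let K := J.map (algebraMap T Th)
  haveI : Module.Flat T Th := IsLocalization.flat Th (Submonoid.powers h)
  have hK : LCI.IsKoszulRegularIdeal K := isKoszulRegularIdeal_map _ (RingHom.flat_algebraMap_iff.2 inferInstance) hJKR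
  have hKR' : LCI.IsKoszulRegularIdeal (K.map (algebraMap Th R')) := by
    refine isKoszulRegularIdeal_map_of_indep r Th R' Ideal.Quotient.mk_surjective al Ideal.mk_ker hregh K
      (fun i => Ideal.mem_map_of_mem _ (haJ i)) hK fun q' hq' hKq' c hc i => ?_
    let Q' := q'.comap (algebraMap T Th)
    have hJQ' : J ≤ Q' := Ideal.map_le_iff_le_comap.1 hKq'
    obtain ⟨Λ', _, _, θ', -, -, hθm', hθreg', hθJ'⟩ := hfib Q' hJQ'
    let χ₀ : T →+* Λ' := θ'.comp (algebraMap T (Localization.AtPrime Q'))
    have hh' : h ∉ Q' := fun hm => hq'.ne_top (Ideal.eq_top_of_isUnit_mem _ hm (IsLocalization.Away.algebraMap_isUnit h))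
    have hu : IsUnit (χ₀ h) := IsLocalRing.notMem_maximalIdeal.1 fun hm => hh' (hθm'.le hm)
    let χ : Th →+* Λ' := IsLocalization.Away.lift h hu
    have hχ : ∀ x, χ (algebraMap T Th x) = χ₀ x := IsLocalization.Away.lift_eq h hu
    have hq'm : q'.map χ ≤ IsLocalRing.maximalIdeal Λ' := by
      rw [← IsLocalization.map_comap (Submonoid.powers h) Th q', Ideal.map_map,
        show χ.comp (algebraMap T Th) = χ₀ from RingHom.ext hχ, Ideal.map_le_iff_le_comap]
      exact hθm'.ge
    have hKχ : K.map χ = Ideal.span (Set.range fun i => χ₀ (a i)) := by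
      rw [Ideal.map_map, show χ.comp (algebraMap T Th) = χ₀ from RingHom.ext hχ]
      exact hθJ'
    have h1 : ∑ i, χ (c i) * χ₀ (a i) ∈ IsLocalRing.maximalIdeal Λ' • Ideal.span (Set.range fun i => χ₀ (a i)) := by
      have := Ideal.mem_map_of_mem χ hc
      rw [map_sum, Ideal.map_mul, hKχ] at this
      simp only [map_mul, al, hχ] at this
      exact Ideal.mul_mono hq'm le_rfl this
    obtain ⟨d, hd, hds⟩ := (Submodule.mem_ideal_smul_span_iff_exists_sum _ (fun i => χ₀ (a i)) _).1 h1
    rw [Finsupp.sum_fintype _ _ (fun _ => by simp)] at hds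
    simp only [smul_eq_mul] at hds
    have hex := (KoszulExt.isExact_iff _).2 (KoszulExt.isKoszulRegularSeq_of_isWeaklyRegular hθreg')
    have h2 := hex.rel_mem (v := fun i => χ (c i) - d i) (by
      simp only [sub_mul, Finset.sum_sub_distrib, sub_eq_zero]; exact hds.symm) i
    have h3 : Ideal.span (Set.range fun i => χ₀ (a i)) ≤ IsLocalRing.maximalIdeal Λ' := Ideal.span_le.2 (by
      rintro _ ⟨j, rfl⟩; exact hθm'.ge (hJQ' (haJ j)))
    have h4 : χ (c i) ∈ IsLocalRing.maximalIdeal Λ' := by simpa using add_mem (h3 h2) (hd i)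
    have h5 : ((IsLocalRing.maximalIdeal Λ').comap χ).comap (algebraMap T Th) = Q' := by
      rw [Ideal.comap_comap, show χ.comp (algebraMap T Th) = χ₀ from RingHom.ext hχ]; exact hθm'
    rw [← IsLocalization.map_comap (Submonoid.powers h) Th q', Ideal.under, show q'.comap (algebraMap T Th) = _ from h5.symm,
      ← Ideal.under, IsLocalization.map_comap (Submonoid.powers h) Th]
    exact h4
  have hIR' : K.map (algebraMap Th R') = I.map (algebraMap R R') := by
    rw [show K = J.map (algebraMap T Th) from rfl, hJeq, Ideal.map_sup, Ideal.map_sup, sup_eq_left.2,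
      Ideal.map_map, Ideal.map_map]
    · rfl
    · rw [Ideal.map_map, Ideal.map_span, Ideal.span_le]
      rintro _ ⟨_, ⟨i, rfl⟩, rfl⟩
      have : (algebraMap Th R').comp (algebraMap T Th) (a i) = 0 :=
        Ideal.Quotient.eq_zero_iff_mem.2 (Ideal.subset_span ⟨i, rfl⟩)
      rw [this]
      exact zero_mem _
  rw [hIR'] at hKR'
  -- descent near the point
  have hd : Disjoint (Submonoid.powers h : Set T) (Q : Set T) :=
    (Ideal.disjoint_powers_iff_notMem_of_isPrime _).2 hhQ
  let Qh := Q.map (algebraMap T Th)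
  haveI : Qh.IsPrime := IsLocalization.isPrime_of_isPrime_disjoint _ _ _ inferInstance hd
  have hle : Ideal.span (Set.range al) ≤ Qh := Ideal.span_le.2 (by
    rintro _ ⟨i, rfl⟩; exact Ideal.mem_map_of_mem _ (hJQ (haJ i)))
  haveI hQ'p : (Qh.map (algebraMap Th R')).IsPrime :=
    Ideal.map_isPrime_of_surjective Ideal.Quotient.mk_surjective (by rw [Ideal.mk_ker]; exact hle)
  have hover : PrimeSpectrum.comap (algebraMap R R') ⟨Qh.map (algebraMap Th R'), hQ'p⟩ = ⟨p, inferInstance⟩ := by
    refine PrimeSpectrum.ext ?_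
    rw [PrimeSpectrum.comap_asIdeal, IsScalarTower.algebraMap_eq R Th R', ← Ideal.comap_comap,
      Ideal.comap_map_of_surjective (algebraMap Th R') Ideal.Quotient.mk_surjective, ← RingHom.ker_eq_comap_bot,
      show RingHom.ker (algebraMap Th R') = Ideal.span (Set.range al) from Ideal.mk_ker, sup_eq_left.2 hle,
      IsScalarTower.algebraMap_eq R T Th, ← Ideal.comap_comap]
    show (Qh.under T).comap (algebraMap R T) = p
    rw [IsLocalization.under_map_of_isPrime_disjoint _ _ inferInstance hd]
  haveI : Algebra.HasGoingDown R R' := inferInstance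
  obtain ⟨_, ⟨g, rfl⟩, hgp, hgsub⟩ := PrimeSpectrum.isTopologicalBasis_basic_opens.exists_subset_of_mem_open
    (show (⟨p, inferInstance⟩ : PrimeSpectrum R) ∈ Set.range (PrimeSpectrum.comap (algebraMap R R')) from ⟨_, hover⟩)
    (PrimeSpectrum.isOpenMap_comap_of_hasGoingDown_of_finitePresentation (R := R) (S := R')).isOpen_range
  let Rg := Localization.Away g
  let R'g := Localization.Away (algebraMap R R' g)
  letI : Algebra Rg R'g := (Localization.awayMap (algebraMap R R') g).toAlgebra
  haveI : IsScalarTower R Rg R'g := .of_algebraMap_eq fun x => by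
    show _ = Localization.awayMap (algebraMap R R') g (algebraMap R Rg x)
    simp only [Localization.awayMap, IsLocalization.Away.map]
    erw [IsLocalization.map_eq]
    exact IsScalarTower.algebraMap_apply R R' R'g x
  haveI := faithfullyFlat_away_of_subset g hgsub Rg R'g
  have hIg : LCI.IsKoszulRegularIdeal (I.map (algebraMap R Rg)) := by
    refine isKoszulRegularIdeal_of_faithfullyFlat (B := R'g) _ ?_
    rw [Ideal.map_map, ← IsScalarTower.algebraMap_eq, IsScalarTower.algebraMap_eq R R' R'g, ← Ideal.map_map]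
    exact isKoszulRegularIdeal_map _
      (RingHom.flat_algebraMap_iff.2 (IsLocalization.flat R'g (Submonoid.powers (algebraMap R R' g)))) hKR'
  refine ⟨φ g, fun hm => hgp ?_, (isLCI_away_iff hv g (Localization.Away (φ g))).2 hIg⟩
  show ψ (μ (algebraMap R T g)) ∈ q
  rw [MvPolynomial.algebraMap_eq, MvPolynomial.map_C, ← MvPolynomial.algebraMap_eq, ψ.commutes]
  exact hm

/-- LCI descends along syntomic algebras, near the image of each prime. -/
theorem exists_isLCI_away_of_isSyntomic {A C C' : Type u} [CommRing A] [CommRing C] [CommRing C'] [Algebra A C]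
    [Algebra A C'] [Algebra C C'] [IsScalarTower A C C'] (hC : Synt.IsSyntomic C C') (h : LCI.IsLCI A C')
    (q : Ideal C') [q.IsPrime] :
    ∃ c : C, c ∉ q.comap (algebraMap C C') ∧ LCI.IsLCI A (Localization.Away c) := by
  haveI := hC.1
  haveI := hC.2.1
  -- make `A → C` of finite type near the point
  obtain ⟨_, ⟨c, rfl⟩, hcq, hcsub⟩ := PrimeSpectrum.isTopologicalBasis_basic_opens.exists_subset_of_mem_open
    (show PrimeSpectrum.comap (algebraMap C C') ⟨q, inferInstance⟩ ∈ Set.range (PrimeSpectrum.comap (algebraMap C C'))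
      from ⟨_, rfl⟩)
    (PrimeSpectrum.isOpenMap_comap_of_hasGoingDown_of_finitePresentation (R := C) (S := C')).isOpen_range
  let C₁ := Localization.Away c
  let L₁ := Localization.Away (algebraMap C C' c)
  letI : Algebra C₁ L₁ := (Localization.awayMap (algebraMap C C') c).toAlgebra
  haveI : IsScalarTower C C₁ L₁ := .of_algebraMap_eq fun x => by
    show _ = Localization.awayMap (algebraMap C C') c (algebraMap C C₁ x)
    simp only [Localization.awayMap, IsLocalization.Away.map]
    erw [IsLocalization.map_eq]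
    exact IsScalarTower.algebraMap_apply C C' L₁ x
  haveI : IsScalarTower A C₁ L₁ := .of_algebraMap_eq fun x => by
    rw [IsScalarTower.algebraMap_apply A C C₁, ← IsScalarTower.algebraMap_apply C C₁ L₁, ← IsScalarTower.algebraMap_apply]
  haveI := faithfullyFlat_away_of_subset c hcsub C₁ L₁
  have hL₁ : LCI.IsLCI A L₁ := isLCI_away h (algebraMap C C' c) L₁
  have hsyn₁ : Synt.IsSyntomic C₁ L₁ :=
    SyntLCI.isSyntomic_of_localization_base C C₁ L₁ (Submonoid.powers c)
      (SyntLCI.isSyntomic_away C hC (algebraMap C C' c) L₁)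
  haveI hft : Algebra.FiniteType A C₁ := by
    haveI := hsyn₁.2.1
    haveI := hL₁.1
    let p₁ := AlgebraicGeometry.Spec.map (CommRingCat.ofHom (algebraMap C₁ L₁))
    let q₁ := AlgebraicGeometry.Spec.map (CommRingCat.ofHom (algebraMap A C₁))
    haveI : AlgebraicGeometry.Flat p₁ := (AlgebraicGeometry.HasRingHomProperty.Spec_iff (P := @AlgebraicGeometry.Flat)).2
      (RingHom.flat_algebraMap_iff.2 inferInstance)
    haveI : AlgebraicGeometry.LocallyOfFinitePresentation p₁ :=
      (AlgebraicGeometry.HasRingHomProperty.Spec_iff (P := @AlgebraicGeometry.LocallyOfFinitePresentation)).2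
        (RingHom.finitePresentation_algebraMap.2 inferInstance)
    haveI : AlgebraicGeometry.Surjective p₁ := ⟨PrimeSpectrum.comap_surjective_of_faithfullyFlat⟩
    have hpq : AlgebraicGeometry.LocallyOfFiniteType (CategoryTheory.CategoryStruct.comp p₁ q₁) := by
      rw [← AlgebraicGeometry.Spec.map_comp,
        AlgebraicGeometry.HasRingHomProperty.Spec_iff (P := @AlgebraicGeometry.LocallyOfFiniteType),
        ← CommRingCat.ofHom_comp, ← IsScalarTower.algebraMap_eq]
      exact RingHom.finiteType_algebraMap.2 inferInstance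
    exact RingHom.finiteType_algebraMap.1
      ((AlgebraicGeometry.HasRingHomProperty.Spec_iff (P := @AlgebraicGeometry.LocallyOfFiniteType)).1
        ((S4091.result p₁ q₁).1 ⟨hpq, inferInstance⟩).1)
  have hd : Disjoint (Submonoid.powers (algebraMap C C' c) : Set C') (q : Set C') :=
    (Ideal.disjoint_powers_iff_notMem_of_isPrime _).2 hcq
  let q₁ := q.map (algebraMap C' L₁)
  haveI : q₁.IsPrime := IsLocalization.isPrime_of_isPrime_disjoint _ _ _ inferInstance hd
  obtain ⟨g, hg, m, r, F, hF, -, ⟨e⟩⟩ := SyntLCI.exists_relGCI_nhd_of_isSyntomic hsyn₁ q₁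
  let L := Localization.Away g
  have hd' : Disjoint (Submonoid.powers g : Set L₁) (q₁ : Set L₁) :=
    (Ideal.disjoint_powers_iff_notMem_of_isPrime _).2 hg
  let qL := q₁.map (algebraMap L₁ L)
  haveI : qL.IsPrime := IsLocalization.isPrime_of_isPrime_disjoint _ _ _ inferInstance hd'
  obtain ⟨c₁, hc₁, hlci⟩ := exists_isLCI_away_of_relGCI L (isLCI_away hL₁ g L) F hF e qL
  obtain ⟨k, a, ha⟩ := IsLocalization.Away.surj c c₁
  have hqC : qL.comap (algebraMap C L) = q.comap (algebraMap C C') := by
    rw [IsScalarTower.algebraMap_eq C L₁ L, ← Ideal.comap_comap]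
    show Ideal.comap _ (qL.under L₁) = _
    rw [IsLocalization.under_map_of_isPrime_disjoint _ _ inferInstance hd', IsScalarTower.algebraMap_eq C C' L₁,
      ← Ideal.comap_comap]
    show Ideal.comap _ (q₁.under C') = _
    rw [IsLocalization.under_map_of_isPrime_disjoint _ _ inferInstance hd]
  have haq : a ∉ q.comap (algebraMap C C') := fun hm => hc₁ (by
    rw [← hqC, Ideal.mem_comap, IsScalarTower.algebraMap_apply C C₁ L, ← ha, map_mul, map_pow,
      Ideal.mul_unit_mem_iff_mem _ ((IsLocalization.Away.algebraMap_isUnit c).map _ |>.pow k)] at hm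
    exact hm)
  refine ⟨c * a, fun hm => ((Ideal.IsPrime.comap (algebraMap C C')).mem_or_mem hm).elim hcq haq, ?_⟩
  let L' := Localization.Away c₁
  haveI : IsLocalization.Away (algebraMap C C₁ a) L' := by
    refine IsLocalization.Away.of_associated (S := L') (r := c₁) ?_
    rw [← ha]
    exact ⟨((IsLocalization.Away.algebraMap_isUnit c).pow k).unit, rfl⟩
  haveI : IsLocalization.Away (c * a) L' := IsLocalization.Away.mul' C₁ L' c a
  exact isLCI_congr ((IsLocalization.algEquiv (Submonoid.powers (c * a)) L' (Localization.Away (c * a))).restrictScalars A) hlci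

end Groth.Agent.LCIPres
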